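import Mathlib
import Cfsg.Prelude.Def_RootSubgroups

set_option autoImplicit false

namespace Cfsg.Agent.Helper83

open Cfsg

variable {G : Type*} [Group G]

theorem mem_conjBy {A : Subgroup G} {g x : G} : x ∈ conjBy A g ↔ g⁻¹ * x * g ∈ A := by
  constructor
  · rintro ⟨y, hy, rfl⟩
    simpa [MulAut.conj_apply, mul_assoc] using hy
  · intro h
    exact ⟨g⁻¹ * x * g, h, by simp [MulAut.conj_apply, mul_assoc]⟩

theorem conj_mem_conjBy {A : Subgroup G} {g x : G} (hx : x ∈ A) : g * x * g⁻¹ ∈ conjBy A g := by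
  rw [mem_conjBy]; simpa [mul_assoc] using hx

theorem conjBy_one (A : Subgroup G) : conjBy A 1 = A := by
  ext x; simp only [mem_conjBy]; simp

theorem conjBy_conjBy (A : Subgroup G) (g h : G) : conjBy (conjBy A g) h = conjBy A (h * g) := by
  ext x; simp only [mem_conjBy]; simp [mul_assoc]

theorem conjBy_inv_conjBy (A : Subgroup G) (g : G) : conjBy (conjBy A g) g⁻¹ = A := by
  rw [conjBy_conjBy, inv_mul_cancel, conjBy_one]

theorem conjBy_conjBy_inv (A : Subgroup G) (g : G) : conjBy (conjBy A g⁻¹) g = A := by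
  rw [conjBy_conjBy, mul_inv_cancel, conjBy_one]

theorem conjBy_eq_iff {A B : Subgroup G} {g : G} : conjBy A g = B ↔ A = conjBy B g⁻¹ := by
  constructor
  · rintro rfl; rw [conjBy_inv_conjBy]
  · rintro rfl; rw [conjBy_conjBy_inv]

theorem conjBy_injective (g : G) : Function.Injective (fun A : Subgroup G => conjBy A g) := by
  intro A B h
  have : conjBy (conjBy A g) g⁻¹ = conjBy (conjBy B g) g⁻¹ := by
    simp only at h; rw [h]
  rwa [conjBy_inv_conjBy, conjBy_inv_conjBy] at this

theorem conjBy_inj {A B : Subgroup G} {g : G} : conjBy A g = conjBy B g ↔ A = B :=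
  ⟨fun h => conjBy_injective g h, fun h => by rw [h]⟩

theorem conjBy_eq_self_iff {A : Subgroup G} {g : G} :
    conjBy A g = A ↔ g ∈ Subgroup.normalizer (A : Set G) := by
  rw [Subgroup.mem_normalizer_iff_map_conj_eq]
  rfl

theorem conjBy_eq_self_of_mem {A : Subgroup G} {g : G} (hg : g ∈ A) : conjBy A g = A :=
  conjBy_eq_self_iff.2 (Subgroup.le_normalizer hg)

theorem conjBy_mono {A B : Subgroup G} (h : A ≤ B) (g : G) : conjBy A g ≤ conjBy B g :=
  Subgroup.map_mono h

theorem conjBy_le_iff {A B : Subgroup G} {g : G} : conjBy A g ≤ conjBy B g ↔ A ≤ B := by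
  constructor
  · intro h
    have := conjBy_mono h g⁻¹
    rwa [conjBy_inv_conjBy, conjBy_inv_conjBy] at this
  · intro h; exact conjBy_mono h g

theorem conjBy_le_of_mem {A H : Subgroup G} {g : G} (hA : A ≤ H) (hg : g ∈ H) : conjBy A g ≤ H := by
  intro x hx
  rw [mem_conjBy] at hx
  have := H.mul_mem (H.mul_mem hg (hA hx)) (H.inv_mem hg)
  simpa [mul_assoc] using this

theorem conjBy_sup (A B : Subgroup G) (g : G) : conjBy (A ⊔ B) g = conjBy A g ⊔ conjBy B g :=
  Subgroup.map_sup A B _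

theorem conjBy_inf (A B : Subgroup G) (g : G) : conjBy (A ⊓ B) g = conjBy A g ⊓ conjBy B g := by
  ext x; simp only [mem_conjBy, Subgroup.mem_inf]

theorem conjBy_bot (g : G) : conjBy (⊥ : Subgroup G) g = ⊥ := Subgroup.map_bot _

theorem conjBy_top (g : G) : conjBy (⊤ : Subgroup G) g = ⊤ := by
  ext x; simp only [mem_conjBy, Subgroup.mem_top]

theorem conjBy_eq_bot_iff {A : Subgroup G} {g : G} : conjBy A g = ⊥ ↔ A = ⊥ := by
  rw [conjBy_eq_iff, conjBy_bot]

/-- the isomorphism between `A` and its conjugate -/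
noncomputable def conjByEquiv (A : Subgroup G) (g : G) : A ≃* conjBy A g :=
  A.equivMapOfInjective (MulAut.conj g).toMonoidHom (MulAut.conj g).injective

theorem conjByEquiv_apply (A : Subgroup G) (g : G) (a : A) :
    ((conjByEquiv A g a : conjBy A g) : G) = g * a * g⁻¹ := by
  rfl

theorem isNilpotent_conjBy {A : Subgroup G} (h : Group.IsNilpotent A) (g : G) :
    Group.IsNilpotent (conjBy A g) :=
  (Group.isNilpotent_congr (conjByEquiv A g)).1 h

theorem isMulCommutative_conjBy {A : Subgroup G} (h : IsMulCommutative A) (g : G) :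
    IsMulCommutative (conjBy A g) := by
  refine ⟨⟨?_⟩⟩
  rintro ⟨x, hx⟩ ⟨y, hy⟩
  rw [mem_conjBy] at hx hy
  have := h.is_comm.comm ⟨_, hx⟩ ⟨_, hy⟩
  have h2 : g⁻¹ * x * g * (g⁻¹ * y * g) = g⁻¹ * y * g * (g⁻¹ * x * g) := by
    simpa using congrArg Subtype.val this
  apply Subtype.ext
  simp only [Subgroup.coe_mul]
  have h3 : g⁻¹ * (x * y) * g = g⁻¹ * (y * x) * g := by
    simpa [mul_assoc] using h2
  have h4 := mul_left_cancel (mul_right_cancel h3)
  exact h4

theorem normalizer_conjBy (A : Subgroup G) (g : G) :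
    Subgroup.normalizer ((conjBy A g : Subgroup G) : Set G) = conjBy (Subgroup.normalizer (A : Set G)) g := by
  ext x
  rw [mem_conjBy, ← conjBy_eq_self_iff, ← conjBy_eq_self_iff, conjBy_conjBy]
  rw [← conjBy_inj (g := g⁻¹), conjBy_conjBy, conjBy_inv_conjBy, mul_assoc]

end Cfsg.Agent.Helper83
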