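import Mathlib
import Cfsg.Prelude.Def_RootSubgroups
import Cfsg.Agent.Lib.Helper83.Conj

set_option autoImplicit false

namespace Cfsg.Agent.Helper83

open Cfsg

variable {G : Type*} [Group G] {A B : Subgroup G}

theorem exists_mem_ne_one_of_ne_bot {A : Subgroup G} (h : A ≠ ⊥) : ∃ a ∈ A, a ≠ 1 := by
  obtain ⟨x, hx⟩ := (Subgroup.ne_bot_iff_exists_ne_one).1 h
  exact ⟨x.1, x.2, fun h => hx (Subtype.ext h)⟩

theorem rankOne_inf_normalizer (h : IsRankOnePair A B) :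
    A ⊓ Subgroup.normalizer (B : Set G) = ⊥ := by
  rw [eq_bot_iff]
  rintro a ⟨haA, haN⟩
  rw [Subgroup.mem_bot]
  by_contra ha1
  obtain ⟨b, hbB, hb1, hb⟩ := h.cond_left a haA ha1
  have h1 : conjBy B a⁻¹ = B := conjBy_eq_self_iff.2 (Subgroup.inv_mem _ haN)
  rw [h1, conjBy_eq_iff, inv_inv, conjBy_eq_self_of_mem hbB] at hb
  exact h.ne hb

theorem rankOne_inf_normalizer' (h : IsRankOnePair A B) :
    B ⊓ Subgroup.normalizer (A : Set G) = ⊥ :=
  rankOne_inf_normalizer (RankOnePair_symm h)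

theorem rankOne_eq_one_of_normalizes (h : IsRankOnePair A B) {a : G} (ha : a ∈ A)
    (hn : conjBy B a = B) : a = 1 := by
  have : a ∈ A ⊓ Subgroup.normalizer (B : Set G) := ⟨ha, conjBy_eq_self_iff.1 hn⟩
  rw [rankOne_inf_normalizer h] at this
  exact this

theorem rankOne_conj_inj (h : IsRankOnePair A B) {a a' : G} (ha : a ∈ A) (ha' : a' ∈ A)
    (hn : conjBy B a = conjBy B a') : a = a' := by
  have h1 : conjBy B (a'⁻¹ * a) = B := by
    rw [← conjBy_conjBy, hn, conjBy_inv_conjBy]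
  have := rankOne_eq_one_of_normalizes h (A.mul_mem (A.inv_mem ha') ha) h1
  exact (inv_mul_eq_one.1 this).symm

theorem rankOne_ne_bot_left (h : IsRankOnePair A B) : A ≠ ⊥ := by
  intro hA
  have hB : B ≠ ⊥ := fun hB => h.ne (hA.trans hB.symm)
  obtain ⟨b, hbB, hb1⟩ := exists_mem_ne_one_of_ne_bot hB
  obtain ⟨a, haA, ha1, _⟩ := h.cond_right b hbB hb1
  rw [hA, Subgroup.mem_bot] at haA
  exact ha1 haA

theorem rankOne_ne_bot_right (h : IsRankOnePair A B) : B ≠ ⊥ :=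
  rankOne_ne_bot_left (RankOnePair_symm h)

end Cfsg.Agent.Helper83
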