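import Mathlib
import Cfsg.Prelude.Def_RootSubgroups
import Cfsg.Agent.Lib.Helper83.RankOne

set_option autoImplicit false

namespace Cfsg.Agent.Helper83

open Cfsg

variable {G : Type*} [Group G] {A B : Subgroup G}

/-- the subgroup of elements stabilising a family of subgroups under conjugation -/
def famStab (Δ : Set (Subgroup G)) : Subgroup G where
  carrier := {x | ∀ C ∈ Δ, conjBy C x ∈ Δ ∧ conjBy C x⁻¹ ∈ Δ}
  one_mem' := by
    intro C hC
    simp only [inv_one, conjBy_one]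
    exact ⟨hC, hC⟩
  mul_mem' := by
    intro x y hx hy C hC
    constructor
    · rw [← conjBy_conjBy]
      exact (hx _ (hy C hC).1).1
    · rw [mul_inv_rev, ← conjBy_conjBy]
      exact (hy _ (hx C hC).2).2
  inv_mem' := by
    intro x hx C hC
    rw [inv_inv]
    exact ⟨(hx C hC).2, (hx C hC).1⟩

theorem mem_famStab {Δ : Set (Subgroup G)} {x : G} :
    x ∈ famStab Δ ↔ ∀ C ∈ Δ, conjBy C x ∈ Δ ∧ conjBy C x⁻¹ ∈ Δ := Iff.rfl

/-- the set `{A} ∪ B^A` -/
def omegaSet (A B : Subgroup G) : Set (Subgroup G) := {C | C = A ∨ ∃ a ∈ A, C = conjBy B a}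

theorem omegaSet_conj_left {C : Subgroup G} (hC : C ∈ omegaSet A B) {a : G} (ha : a ∈ A) :
    conjBy C a ∈ omegaSet A B := by
  rcases hC with rfl | ⟨a', ha', rfl⟩
  · left; exact conjBy_eq_self_of_mem ha
  · right; exact ⟨a * a', A.mul_mem ha ha', conjBy_conjBy _ _ _⟩

theorem omegaSet_conj_A_right (h : IsRankOnePair A B) {b : G} (hb : b ∈ B) :
    conjBy A b ∈ omegaSet A B := by
  by_cases hb1 : b = 1
  · subst hb1; left; exact conjBy_one A
  · have hb1' : b⁻¹ ≠ 1 := by simpa using hb1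
    obtain ⟨a, haA, _, ha⟩ := h.cond_right b⁻¹ (B.inv_mem hb) hb1'
    rw [inv_inv] at ha
    right
    exact ⟨a⁻¹, A.inv_mem haA, ha.symm⟩

theorem omegaSet_conj_right (h : IsRankOnePair A B) {C : Subgroup G} (hC : C ∈ omegaSet A B)
    {b : G} (hb : b ∈ B) : conjBy C b ∈ omegaSet A B := by
  rcases hC with rfl | ⟨a, ha, rfl⟩
  · exact omegaSet_conj_A_right h hb
  · by_cases ha1 : a = 1
    · subst ha1
      rw [conjBy_one, conjBy_eq_self_of_mem hb]
      right; exact ⟨1, A.one_mem, (conjBy_one B).symm⟩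
    · have ha1' : a⁻¹ ≠ 1 := by simpa using ha1
      obtain ⟨b', hb'B, _, hb'⟩ := h.cond_left a⁻¹ (A.inv_mem ha) ha1'
      rw [inv_inv] at hb'
      rw [← hb', conjBy_conjBy]
      exact omegaSet_conj_A_right h (B.mul_mem hb (B.inv_mem hb'B))

theorem sup_le_famStab_omegaSet (h : IsRankOnePair A B) : A ⊔ B ≤ famStab (omegaSet A B) := by
  apply sup_le
  · intro a ha C hC
    exact ⟨omegaSet_conj_left hC ha, omegaSet_conj_left hC (A.inv_mem ha)⟩
  · intro b hb C hC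
    exact ⟨omegaSet_conj_right h hC hb, omegaSet_conj_right h hC (B.inv_mem hb)⟩

theorem right_mem_unipotentSubgroups (h : IsRankOnePair A B) : B ∈ unipotentSubgroups A B := by
  obtain ⟨a, haA, ha1⟩ := exists_mem_ne_one_of_ne_bot (rankOne_ne_bot_left h)
  obtain ⟨b, hbB, _, hb⟩ := h.cond_left a haA ha1
  refine ⟨a * b⁻¹, ?_, ?_⟩
  · exact Subgroup.mul_mem _ (Subgroup.mem_sup_left haA) (Subgroup.mem_sup_right (B.inv_mem hbB))
  · rw [← conjBy_conjBy, hb, conjBy_conjBy_inv]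

theorem left_mem_unipotentSubgroups (A B : Subgroup G) : A ∈ unipotentSubgroups A B :=
  ⟨1, Subgroup.one_mem _, (conjBy_one A).symm⟩

theorem conjBy_mem_unipotentSubgroups {C : Subgroup G} (hC : C ∈ unipotentSubgroups A B) {x : G}
    (hx : x ∈ A ⊔ B) : conjBy C x ∈ unipotentSubgroups A B := by
  obtain ⟨y, hy, rfl⟩ := hC
  exact ⟨x * y, Subgroup.mul_mem _ hx hy, conjBy_conjBy _ _ _⟩

theorem unipotentSubgroups_eq_omegaSet (h : IsRankOnePair A B) :
    unipotentSubgroups A B = omegaSet A B := by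
  ext C
  constructor
  · rintro ⟨x, hx, rfl⟩
    exact (sup_le_famStab_omegaSet h hx A (Or.inl rfl)).1
  · rintro (rfl | ⟨a, ha, rfl⟩)
    · exact left_mem_unipotentSubgroups _ B
    · exact conjBy_mem_unipotentSubgroups (right_mem_unipotentSubgroups h) (Subgroup.mem_sup_left ha)

theorem conjBy_right_ne_left (h : IsRankOnePair A B) {a : G} (ha : a ∈ A) : conjBy B a ≠ A := by
  intro h1
  rw [conjBy_eq_iff, conjBy_eq_self_of_mem (A.inv_mem ha)] at h1
  exact h.ne h1.symm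

/-- any two distinct unipotent subgroups can be moved to `(A, B)` -/
theorem rankOne_move_pair (h : IsRankOnePair A B) {C₁ C₂ : Subgroup G}
    (h1 : C₁ ∈ unipotentSubgroups A B) (h2 : C₂ ∈ unipotentSubgroups A B) (hne : C₁ ≠ C₂) :
    ∃ x ∈ A ⊔ B, conjBy C₁ x = A ∧ conjBy C₂ x = B := by
  obtain ⟨g, hg, rfl⟩ := h1
  have h3 : conjBy C₂ g⁻¹ ∈ unipotentSubgroups A B :=
    conjBy_mem_unipotentSubgroups h2 (Subgroup.inv_mem _ hg)
  rw [unipotentSubgroups_eq_omegaSet h] at h3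
  rcases h3 with h3 | ⟨a, ha, h3⟩
  · exfalso; apply hne
    rw [conjBy_eq_iff, inv_inv] at h3
    exact h3.symm
  · refine ⟨a⁻¹ * g⁻¹, ?_, ?_, ?_⟩
    · exact Subgroup.mul_mem _ (Subgroup.mem_sup_left (A.inv_mem ha)) (Subgroup.inv_mem _ hg)
    · rw [conjBy_conjBy, mul_assoc, inv_mul_cancel, mul_one, conjBy_eq_self_of_mem (A.inv_mem ha)]
    · rw [← conjBy_conjBy, h3, conjBy_inv_conjBy]

end Cfsg.Agent.Helper83
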