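import Mathlib
import Cfsg.Prelude.Def_RootSubgroups
import Cfsg.Agent.Lib.Helper83.RankOneOmega

set_option autoImplicit false

namespace Cfsg.Agent.Helper83

open Cfsg

variable {G : Type*} [Group G] {A B : Subgroup G}

theorem conjBy_normal (N : Subgroup G) [hN : N.Normal] (g : G) : conjBy N g = N := by
  ext x
  rw [mem_conjBy]
  constructor
  · intro h
    have := hN.conj_mem _ h g
    simpa [mul_assoc] using this
  · intro h
    exact hN.conj_mem' _ h g

theorem unipotentSubgroups_subset_symm (h : IsRankOnePair A B) :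
    unipotentSubgroups A B ⊆ unipotentSubgroups B A := by
  rintro C ⟨x, hx, rfl⟩
  obtain ⟨g, hg, hg'⟩ := right_mem_unipotentSubgroups (RankOnePair_symm h)
  refine ⟨x * g, ?_, ?_⟩
  · rw [sup_comm]; exact Subgroup.mul_mem _ hx (by rwa [sup_comm])
  · rw [← conjBy_conjBy, ← hg']

theorem unipotentSubgroups_symm (h : IsRankOnePair A B) :
    unipotentSubgroups A B = unipotentSubgroups B A :=
  Set.Subset.antisymm (unipotentSubgroups_subset_symm h)
    (unipotentSubgroups_subset_symm (RankOnePair_symm h))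

/-- If some element of `N` (inside `A ⊔ B`) moves `A` then `B ≤ N ⊔ A`. -/
theorem rankOne_right_le_of_moves (h : IsRankOnePair A B) {N : Subgroup G} {n : G} (hn : n ∈ N)
    (hnX : n ∈ A ⊔ B) (hmv : conjBy A n ≠ A) : B ≤ N ⊔ A := by
  have h1 : conjBy A n ∈ unipotentSubgroups A B := ⟨n, hnX, rfl⟩
  rw [unipotentSubgroups_eq_omegaSet h] at h1
  rcases h1 with h1 | ⟨a, ha, h1⟩
  · exact absurd h1 hmv
  · have h2 : B = conjBy A (a⁻¹ * n) := by
      rw [← conjBy_conjBy, h1, conjBy_inv_conjBy]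
    rw [h2]
    exact conjBy_le_of_mem le_sup_right
      (Subgroup.mul_mem _ (Subgroup.mem_sup_right (A.inv_mem ha)) (Subgroup.mem_sup_left hn))

theorem rankOne_sup_eq_of_moves (h : IsRankOnePair A B) {N : Subgroup G} (hN : N ≤ A ⊔ B) {n : G}
    (hn : n ∈ N) (hmv : conjBy A n ≠ A) : N ⊔ A = A ⊔ B := by
  apply le_antisymm
  · exact sup_le hN le_sup_left
  · exact sup_le le_sup_right (rankOne_right_le_of_moves h hn (hN hn) hmv)

/-- The normal subgroup dichotomy in a rank one group `⟨A, B⟩`. -/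
theorem rankOne_dichotomy (h : IsRankOnePair A B) (N : Subgroup G) (hN : N ≤ A ⊔ B)
    (hnorm : ∀ x ∈ A ⊔ B, conjBy N x = N) :
    N ⊔ A = A ⊔ B ∨ N ≤ Subgroup.centralizer ((A ⊔ B : Subgroup G) : Set G) := by
  by_cases hA : ∃ n ∈ N, conjBy A n ≠ A
  · obtain ⟨n, hn, hmv⟩ := hA
    exact Or.inl (rankOne_sup_eq_of_moves h hN hn hmv)
  by_cases hB : ∃ n ∈ N, conjBy B n ≠ B
  · obtain ⟨n, hn, hmv⟩ := hB
    left
    have h1 : N ⊔ B = B ⊔ A :=
      rankOne_sup_eq_of_moves (RankOnePair_symm h) (by rwa [sup_comm]) hn hmv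
    obtain ⟨g, hg, hg'⟩ := right_mem_unipotentSubgroups h
    have h2 : conjBy (N ⊔ A) g = conjBy (A ⊔ B) g := by
      rw [conjBy_sup, hnorm g hg, ← hg', h1, sup_comm, conjBy_eq_self_of_mem hg]
    exact conjBy_inj.1 h2
  right
  push Not at hA hB
  intro n hn
  have key : ∀ (A B : Subgroup G), IsRankOnePair A B → (∀ x ∈ A ⊔ B, conjBy N x = N) →
      (∀ n ∈ N, conjBy A n = A) → (∀ n ∈ N, conjBy B n = B) → ∀ a ∈ A, a * n = n * a := by
    intro A B h hnorm hA hB a ha
    have h1 : n * a * n⁻¹ * a⁻¹ ∈ A := by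
      have : n * a * n⁻¹ ∈ conjBy A n := conj_mem_conjBy ha
      rw [hA n hn] at this
      exact A.mul_mem this (A.inv_mem ha)
    have h2 : n * a * n⁻¹ * a⁻¹ ∈ N := by
      have : a * n⁻¹ * a⁻¹ ∈ conjBy N a := conj_mem_conjBy (N.inv_mem hn)
      rw [hnorm a (Subgroup.mem_sup_left ha)] at this
      have := N.mul_mem hn this
      simpa [mul_assoc] using this
    have h3 : n * a * n⁻¹ * a⁻¹ ∈ A ⊓ Subgroup.normalizer (B : Set G) :=
      ⟨h1, conjBy_eq_self_iff.1 (hB _ h2)⟩
    rw [rankOne_inf_normalizer h, Subgroup.mem_bot] at h3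
    have h4 : n * a * n⁻¹ = a := by
      rwa [mul_inv_eq_one] at h3
    rw [mul_inv_eq_iff_eq_mul] at h4
    exact h4.symm
  have hcA : A ≤ Subgroup.centralizer {n} := by
    intro a ha
    rw [Subgroup.mem_centralizer_iff]
    intro x hx
    rw [Set.mem_singleton_iff] at hx; subst hx
    exact (key A B h hnorm hA hB a ha).symm
  have hcB : B ≤ Subgroup.centralizer {n} := by
    intro b hb
    rw [Subgroup.mem_centralizer_iff]
    intro x hx
    rw [Set.mem_singleton_iff] at hx; subst hx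
    exact (key B A (RankOnePair_symm h) (by rwa [sup_comm]) hB hA b hb).symm
  rw [Subgroup.mem_centralizer_iff]
  intro x hx
  have := (sup_le hcA hcB) hx
  rw [Subgroup.mem_centralizer_iff] at this
  exact (this n rfl).symm

end Cfsg.Agent.Helper83
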