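import Mathlib
import Cfsg.Prelude.Def_RootSubgroups
import Cfsg.Agent.Lib.Helper83.RankOneNormal

set_option autoImplicit false

namespace Cfsg.Agent.Helper83

open Cfsg
open scoped commutatorElement

variable {X : Type*} [Group X] {A B : Subgroup X}

theorem rankOneGroup_dichotomy (h : Cfsg.IsRankOneGroup X A B) :
    ∀ N : Subgroup X, N.Normal → N ⊔ A = ⊤ ∨ N ≤ Subgroup.center X := by
  intro N hN
  have := rankOne_dichotomy h.2 N (by rw [h.1]; exact le_top) (fun x _ => conjBy_normal N x)
  rw [h.1] at this
  rcases this with h1 | h1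
  · exact Or.inl h1
  · right
    rwa [Subgroup.coe_top, Subgroup.centralizer_univ] at h1

theorem conjBy_of_mem_center {A : Subgroup X} {g : X} (hgc : g ∈ Subgroup.center X) :
    conjBy A g = A := by
  ext x
  rw [mem_conjBy]
  rw [Subgroup.mem_center_iff] at hgc
  have : g⁻¹ * x * g = x := by
    rw [mul_assoc, hgc x, ← mul_assoc, inv_mul_cancel, one_mul]
  rw [this]

theorem rankOneGroup_center_ne_top (h : Cfsg.IsRankOneGroup X A B) :
    Subgroup.center X ≠ ⊤ := by
  intro hc
  obtain ⟨g, _, hg⟩ := right_mem_unipotentSubgroups h.2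
  have hgc : g ∈ Subgroup.center X := by rw [hc]; trivial
  rw [conjBy_of_mem_center hgc] at hg
  exact h.2.ne hg.symm

/-- In a rank one group `A` is not normal. -/
theorem rankOneGroup_not_all_normalize (h : Cfsg.IsRankOneGroup X A B) :
    ¬ ∀ x : X, conjBy A x = A := by
  intro hall
  obtain ⟨g, _, hg⟩ := right_mem_unipotentSubgroups h.2
  rw [hall g] at hg
  exact h.2.ne hg.symm

theorem rankOneGroup_secondCentre (h : Cfsg.IsRankOneGroup X A B) :
    Subgroup.upperCentralSeries X 2 = Subgroup.center X := by
  apply le_antisymm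
  · rcases rankOneGroup_dichotomy h (Subgroup.upperCentralSeries X 2) inferInstance with h1 | h1
    · exfalso
      -- every conjugate of `A` lies in `A ⊔ Z`
      have hconj : ∀ x : X, conjBy A x ≤ A ⊔ Subgroup.center X := by
        intro x
        have hx : x ∈ Subgroup.upperCentralSeries X 2 ⊔ A := by rw [h1]; trivial
        obtain ⟨z, hz, a, ha, rfl⟩ := Subgroup.mem_sup_of_normal_left.1 hx
        rw [← conjBy_conjBy, conjBy_eq_self_of_mem ha]
        intro y hy
        rw [mem_conjBy] at hy
        -- y = z (z⁻¹ y z) z⁻¹ = [z, w] w with w = z⁻¹ y z ∈ A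
        have hcomm : ⁅z, z⁻¹ * y * z⁆ ∈ Subgroup.center X := by
          have := (Subgroup.mem_upperCentralSeries_succ_iff (n := 1)).1 hz (z⁻¹ * y * z)
          rwa [Subgroup.upperCentralSeries_one] at this
        have hy' : y = ⁅z, z⁻¹ * y * z⁆ * (z⁻¹ * y * z) := by
          rw [commutatorElement_def]; group
        rw [hy']
        exact Subgroup.mul_mem _ (Subgroup.mem_sup_right hcomm) (Subgroup.mem_sup_left hy)
      have htop : A ⊔ Subgroup.center X = ⊤ := by
        rw [eq_top_iff, ← h.1]
        apply sup_le le_sup_left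
        obtain ⟨g, _, hg⟩ := right_mem_unipotentSubgroups h.2
        rw [hg]; exact hconj g
      apply rankOneGroup_not_all_normalize h
      intro x
      have hx : x ∈ A ⊔ Subgroup.center X := by rw [htop]; trivial
      obtain ⟨a, ha, c, hc, rfl⟩ := Subgroup.mem_sup_of_normal_right.1 hx
      rw [← conjBy_conjBy, conjBy_of_mem_center hc, conjBy_eq_self_of_mem ha]
    · exact h1
  · rw [← Subgroup.upperCentralSeries_one]
    exact Subgroup.upperCentralSeries_mono X (by norm_num)

theorem rankOneGroup_not_nilpotent (h : Cfsg.IsRankOneGroup X A B) : ¬ Group.IsNilpotent X := by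
  intro hnil
  obtain ⟨n, hn⟩ := hnil.nilpotent'
  have h2 := rankOneGroup_secondCentre h
  have hall : ∀ m : ℕ, Subgroup.upperCentralSeries X (m + 1) = Subgroup.center X := by
    intro m
    induction m with
    | zero => exact Subgroup.upperCentralSeries_one X
    | succ m ih =>
      ext x
      have key : x ∈ Subgroup.center X ↔ ∀ y : X, ⁅x, y⁆ ∈ Subgroup.center X := by
        have h3 : x ∈ Subgroup.upperCentralSeries X 2 ↔
            ∀ y : X, ⁅x, y⁆ ∈ Subgroup.upperCentralSeries X 1 :=
          Subgroup.mem_upperCentralSeries_succ_iff (n := 1)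
        rw [Subgroup.upperCentralSeries_one, h2] at h3
        exact h3
      rw [Subgroup.mem_upperCentralSeries_succ_iff, ih]
      exact key.symm
  apply rankOneGroup_center_ne_top h
  rw [← hall n, eq_top_iff, ← hn]
  exact Subgroup.upperCentralSeries_mono X (Nat.le_succ n)

end Cfsg.Agent.Helper83
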