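import Mathlib
import Cfsg.Prelude.Def_RootSubgroups
import Cfsg.Agent.Lib.Helper83.RankOneGroup

set_option autoImplicit false

namespace Cfsg.Agent.Helper83

open Cfsg
open scoped commutatorElement

variable {G : Type*} [Group G] {A B : Subgroup G}

theorem mul_comm_of_isMulCommutative {A : Subgroup G} (h : IsMulCommutative A) {a b : G}
    (ha : a ∈ A) (hb : b ∈ A) : a * b = b * a :=
  congrArg Subtype.val (h.is_comm.comm ⟨a, ha⟩ ⟨b, hb⟩)

theorem le_centralizer_self_of_comm {A : Subgroup G} (h : IsMulCommutative A) :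
    A ≤ Subgroup.centralizer (A : Set G) := by
  intro a ha
  rw [Subgroup.mem_centralizer_iff]
  intro b hb
  exact mul_comm_of_isMulCommutative h hb ha

theorem centralizer_le_normalizer' (B : Subgroup G) :
    Subgroup.centralizer (B : Set G) ≤ Subgroup.normalizer (B : Set G) := by
  intro x hx
  rw [Subgroup.mem_normalizer_iff]
  intro b
  rw [Subgroup.mem_centralizer_iff] at hx
  constructor
  · intro hb
    have := hx b hb
    rw [← this, mul_inv_cancel_right]; exact hb
  · intro hb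
    have := hx _ hb
    have h2 : x * b * x⁻¹ = b := by
      have h3 : x * b * x⁻¹ * x = x * (x * b * x⁻¹) := this
      rw [inv_mul_cancel_right] at h3
      have h4 := mul_left_cancel h3
      exact h4.symm
    rwa [h2] at hb

/-- In a rank one pair `A` does not centralize `B`. -/
theorem rankOne_not_le_centralizer (h : IsRankOnePair A B) :
    ¬ A ≤ Subgroup.centralizer (B : Set G) := by
  intro hc
  obtain ⟨a, ha, ha1⟩ := exists_mem_ne_one_of_ne_bot (rankOne_ne_bot_left h)
  have : a ∈ A ⊓ Subgroup.normalizer (B : Set G) := ⟨ha, centralizer_le_normalizer' B (hc ha)⟩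
  rw [rankOne_inf_normalizer h, Subgroup.mem_bot] at this
  exact ha1 this

theorem rankOne_commutator_ne_bot (h : IsRankOnePair A B) : ⁅A, B⁆ ≠ ⊥ := by
  intro hc
  rw [Subgroup.commutator_eq_bot_iff_le_centralizer] at hc
  exact rankOne_not_le_centralizer h hc

/-- the commutator case cannot hold together with a rank one relation -/
theorem rankOne_commutator_kill (h : IsRankOnePair A B) (hB : IsMulCommutative B)
    {F : Subgroup G} (hF : F ≤ Subgroup.centralizer (B : Set G)) {a : G} (ha : a ∈ A) (ha1 : a ≠ 1)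
    (hle : conjBy B a⁻¹ ≤ B ⊔ F) : False := by
  obtain ⟨b, hb, _, hbe⟩ := h.cond_left a ha ha1
  rw [← hbe] at hle
  have h1 : A ≤ B ⊔ F := by
    have := conjBy_mono hle b
    rw [conjBy_conjBy_inv, conjBy_eq_self_of_mem (Subgroup.mem_sup_left hb)] at this
    exact this
  have h2 : B ⊔ F ≤ Subgroup.centralizer (B : Set G) := sup_le (le_centralizer_self_of_comm hB) hF
  exact rankOne_not_le_centralizer h (h1.trans h2)

theorem conjBy_le_sup_commutator {E B : Subgroup G} {e : G} (he : e ∈ E) :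
    conjBy B e ≤ B ⊔ ⁅E, B⁆ := by
  intro x hx
  rw [mem_conjBy] at hx
  have h1 : x = ⁅e, e⁻¹ * x * e⁆ * (e⁻¹ * x * e) := by
    rw [commutatorElement_def]; group
  rw [h1]
  exact Subgroup.mul_mem _ (Subgroup.mem_sup_right (Subgroup.commutator_mem_commutator he hx))
    (Subgroup.mem_sup_left hx)

/-- two distinct unipotent subgroups generate the rank one group -/
theorem rankOne_sup_eq_of_mem (h : IsRankOnePair A B) {C₁ C₂ : Subgroup G}
    (h1 : C₁ ∈ unipotentSubgroups A B) (h2 : C₂ ∈ unipotentSubgroups A B) (hne : C₁ ≠ C₂) :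
    C₁ ⊔ C₂ = A ⊔ B := by
  obtain ⟨x, hx, hx1, hx2⟩ := rankOne_move_pair h h1 h2 hne
  have : conjBy (C₁ ⊔ C₂) x = conjBy (A ⊔ B) x := by
    rw [conjBy_sup, hx1, hx2, conjBy_eq_self_of_mem hx]
  exact conjBy_inj.1 this

theorem isRankOnePair_conjBy (h : IsRankOnePair A B) (g : G) :
    IsRankOnePair (conjBy A g) (conjBy B g) := by
  have key : ∀ A B : Subgroup G, RankOneCondition A B → RankOneCondition (conjBy A g) (conjBy B g) := by
    intro A B hc a ha ha1
    rw [mem_conjBy] at ha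
    have ha1' : g⁻¹ * a * g ≠ 1 := by
      intro h1
      apply ha1
      have : a = g * (g⁻¹ * a * g) * g⁻¹ := by group
      rw [this, h1]; group
    obtain ⟨b, hb, hb1, hbe⟩ := hc _ ha ha1'
    refine ⟨g * b * g⁻¹, conj_mem_conjBy hb, ?_, ?_⟩
    · intro h1
      apply hb1
      have : b = g⁻¹ * (g * b * g⁻¹) * g := by group
      rw [this, h1]; group
    · rw [conjBy_conjBy, conjBy_conjBy]
      have e1 : (g * b * g⁻¹)⁻¹ * g = g * b⁻¹ := by group
      have e2 : a⁻¹ * g = g * (g⁻¹ * a * g)⁻¹ := by group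
      rw [e1, e2, ← conjBy_conjBy, ← conjBy_conjBy, hbe]
  exact ⟨fun hne => h.ne (conjBy_inj.1 hne), isNilpotent_conjBy h.nilpotent_left g,
    isNilpotent_conjBy h.nilpotent_right g, key A B h.cond_left, key B A h.cond_right⟩

/-- Any two distinct unipotent subgroups form a rank one pair. -/
theorem isRankOnePair_of_mem (h : IsRankOnePair A B) {C₁ C₂ : Subgroup G}
    (h1 : C₁ ∈ unipotentSubgroups A B) (h2 : C₂ ∈ unipotentSubgroups A B) (hne : C₁ ≠ C₂) :
    IsRankOnePair C₁ C₂ := by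
  obtain ⟨x, hx, hx1, hx2⟩ := rankOne_move_pair h h1 h2 hne
  have := isRankOnePair_conjBy h x⁻¹
  rw [← hx1, ← hx2, conjBy_inv_conjBy, conjBy_inv_conjBy] at this
  exact this

/-- In a rank one pair no nontrivial element of `A` commutes with a nontrivial element of `B`. -/
theorem rankOne_commute_trivial (h : IsRankOnePair A B) {a b : G} (ha : a ∈ A) (ha1 : a ≠ 1)
    (hb : b ∈ B) (hab : a * b = b * a) : b = 1 := by
  obtain ⟨b₁, hb₁, _, hbe⟩ := h.cond_left a ha ha1
  -- conjugate the relation by b⁻¹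
  have h1 : conjBy (conjBy A b₁⁻¹) b⁻¹ = conjBy (conjBy B a⁻¹) b⁻¹ := by rw [hbe]
  rw [conjBy_conjBy, conjBy_conjBy] at h1
  have e1 : b⁻¹ * a⁻¹ = a⁻¹ * b⁻¹ := by
    rw [← mul_inv_rev, ← mul_inv_rev, hab]
  rw [e1, ← conjBy_conjBy B, conjBy_eq_self_of_mem (B.inv_mem hb), ← hbe] at h1
  have h2 := rankOne_conj_inj (RankOnePair_symm h) (B.mul_mem (B.inv_mem hb) (B.inv_mem hb₁))
    (B.inv_mem hb₁) h1
  have h3 : b⁻¹ = 1 := mul_right_cancel (h2.trans (one_mul _).symm)
  exact inv_eq_one.1 h3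

theorem not_isolated_iff {S : Set (Subgroup G)} {A : Subgroup G} (hA : A ∈ S) :
    ¬ IsIsolatedIn (FAdj S) S A ↔ ∃ B ∈ S, IsRankOnePair A B := by
  constructor
  · intro h
    by_contra hcon
    push Not at hcon
    apply h
    refine ⟨hA, fun B => ⟨?_, ?_⟩⟩
    · rintro ⟨_, hB, hr⟩; exact hcon B hB hr
    · rintro ⟨hB, _, hr⟩; exact hcon B hB (RankOnePair_symm hr)
  · rintro ⟨B, hB, hr⟩ ⟨_, h⟩
    exact (h B).1 ⟨hA, hB, hr⟩

end Cfsg.Agent.Helper83
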