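import Mathlib
import Cfsg.Prelude.Def_RootSubgroups
import Cfsg.Agent.Lib.Helper83.RootBasic

set_option autoImplicit false

namespace Cfsg.Agent.Helper83

open Cfsg Matrix

variable {k : Type*} [Field k]

/-- upper unitriangular element -/
def uSL (t : k) : Matrix.SpecialLinearGroup (Fin 2) k :=
  ⟨!![1, t; 0, 1], by simp [Matrix.det_fin_two]⟩

/-- lower unitriangular element -/
def lSL (t : k) : Matrix.SpecialLinearGroup (Fin 2) k :=
  ⟨!![1, 0; t, 1], by simp [Matrix.det_fin_two]⟩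

theorem sl2_ext {g h : Matrix.SpecialLinearGroup (Fin 2) k}
    (h00 : (g : Matrix (Fin 2) (Fin 2) k) 0 0 = (h : Matrix (Fin 2) (Fin 2) k) 0 0)
    (h01 : (g : Matrix (Fin 2) (Fin 2) k) 0 1 = (h : Matrix (Fin 2) (Fin 2) k) 0 1)
    (h10 : (g : Matrix (Fin 2) (Fin 2) k) 1 0 = (h : Matrix (Fin 2) (Fin 2) k) 1 0)
    (h11 : (g : Matrix (Fin 2) (Fin 2) k) 1 1 = (h : Matrix (Fin 2) (Fin 2) k) 1 1) : g = h := by
  apply Subtype.ext
  ext i j
  fin_cases i <;> fin_cases j <;> assumption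

@[simp] theorem uSL_coe (t : k) : ((uSL t : Matrix.SpecialLinearGroup (Fin 2) k) : Matrix (Fin 2) (Fin 2) k) = !![1, t; 0, 1] := rfl
@[simp] theorem lSL_coe (t : k) : ((lSL t : Matrix.SpecialLinearGroup (Fin 2) k) : Matrix (Fin 2) (Fin 2) k) = !![1, 0; t, 1] := rfl

theorem uSL_mul (s t : k) : uSL s * uSL t = uSL (s + t) := by
  apply sl2_ext <;> simp [Matrix.mul_apply, Fin.sum_univ_two, add_comm]

theorem lSL_mul (s t : k) : lSL s * lSL t = lSL (s + t) := by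
  apply sl2_ext <;> simp [Matrix.mul_apply, Fin.sum_univ_two]

theorem uSL_zero : uSL (0 : k) = 1 := by
  apply sl2_ext <;> simp

theorem lSL_zero : lSL (0 : k) = 1 := by
  apply sl2_ext <;> simp

theorem uSL_inv (s : k) : (uSL s)⁻¹ = uSL (-s) := by
  rw [inv_eq_iff_mul_eq_one, uSL_mul, add_neg_cancel, uSL_zero]

theorem lSL_inv (s : k) : (lSL s)⁻¹ = lSL (-s) := by
  rw [inv_eq_iff_mul_eq_one, lSL_mul, add_neg_cancel, lSL_zero]

theorem uSL_injective : Function.Injective (uSL : k → _) := by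
  intro s t h
  have := congrArg (fun g : Matrix.SpecialLinearGroup (Fin 2) k => (g : Matrix (Fin 2) (Fin 2) k) 0 1) h
  simpa using this

theorem lSL_injective : Function.Injective (lSL : k → _) := by
  intro s t h
  have := congrArg (fun g : Matrix.SpecialLinearGroup (Fin 2) k => (g : Matrix (Fin 2) (Fin 2) k) 1 0) h
  simpa using this

theorem uSL_eq_one_iff {s : k} : uSL s = 1 ↔ s = 0 := by
  rw [← uSL_zero]; exact uSL_injective.eq_iff

theorem lSL_eq_one_iff {s : k} : lSL s = 1 ↔ s = 0 := by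
  rw [← lSL_zero]; exact lSL_injective.eq_iff

/-- the upper unitriangular subgroup, explicitly -/
def upperSub (k : Type*) [Field k] : Subgroup (Matrix.SpecialLinearGroup (Fin 2) k) where
  carrier := Set.range uSL
  one_mem' := ⟨0, uSL_zero⟩
  mul_mem' := by
    rintro _ _ ⟨s, rfl⟩ ⟨t, rfl⟩
    exact ⟨s + t, (uSL_mul s t).symm⟩
  inv_mem' := by
    rintro _ ⟨s, rfl⟩
    exact ⟨-s, (uSL_inv s).symm⟩

/-- the lower unitriangular subgroup, explicitly -/
def lowerSub (k : Type*) [Field k] : Subgroup (Matrix.SpecialLinearGroup (Fin 2) k) where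
  carrier := Set.range lSL
  one_mem' := ⟨0, lSL_zero⟩
  mul_mem' := by
    rintro _ _ ⟨s, rfl⟩ ⟨t, rfl⟩
    exact ⟨s + t, (lSL_mul s t).symm⟩
  inv_mem' := by
    rintro _ ⟨s, rfl⟩
    exact ⟨-s, (lSL_inv s).symm⟩

theorem upperUnipotentSL2_eq : upperUnipotentSL2 k = upperSub k := by
  have : {g : Matrix.SpecialLinearGroup (Fin 2) k | (g : Matrix (Fin 2) (Fin 2) k) 1 0 = 0 ∧
      (g : Matrix (Fin 2) (Fin 2) k) 0 0 = 1 ∧ (g : Matrix (Fin 2) (Fin 2) k) 1 1 = 1} =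
      ((upperSub k : Subgroup _) : Set _) := by
    ext g
    constructor
    · rintro ⟨h1, h2, h3⟩
      refine ⟨(g : Matrix (Fin 2) (Fin 2) k) 0 1, ?_⟩
      apply sl2_ext <;> simp [h1, h2, h3]
    · rintro ⟨s, rfl⟩
      simp
  rw [upperUnipotentSL2, this, Subgroup.closure_eq]

theorem lowerUnipotentSL2_eq : lowerUnipotentSL2 k = lowerSub k := by
  have : {g : Matrix.SpecialLinearGroup (Fin 2) k | (g : Matrix (Fin 2) (Fin 2) k) 0 1 = 0 ∧
      (g : Matrix (Fin 2) (Fin 2) k) 0 0 = 1 ∧ (g : Matrix (Fin 2) (Fin 2) k) 1 1 = 1} =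
      ((lowerSub k : Subgroup _) : Set _) := by
    ext g
    constructor
    · rintro ⟨h1, h2, h3⟩
      refine ⟨(g : Matrix (Fin 2) (Fin 2) k) 1 0, ?_⟩
      apply sl2_ext <;> simp [h1, h2, h3]
    · rintro ⟨s, rfl⟩
      simp
  rw [lowerUnipotentSL2, this, Subgroup.closure_eq]

theorem mem_upperUnipotentSL2 {g : Matrix.SpecialLinearGroup (Fin 2) k} :
    g ∈ upperUnipotentSL2 k ↔ ∃ t, uSL t = g := by
  rw [upperUnipotentSL2_eq]; rfl

theorem mem_lowerUnipotentSL2 {g : Matrix.SpecialLinearGroup (Fin 2) k} :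
    g ∈ lowerUnipotentSL2 k ↔ ∃ t, lSL t = g := by
  rw [lowerUnipotentSL2_eq]; rfl

/-- the basic conjugation identity -/
theorem sl2_conj_identity {s t : k} (hst : s * t = 1) (x : k) :
    uSL (-s) * lSL x * uSL s = lSL (-t) * uSL (-(s ^ 2 * x)) * lSL t := by
  apply sl2_ext <;> simp [Matrix.mul_apply, Fin.sum_univ_two]
  · linear_combination (-(s * x)) * hst
  · ring
  · linear_combination (-x * (s * t + 1)) * hst
  · linear_combination (-(x * s)) * hst


theorem mem_conjBy_iff_exists {G : Type*} [Group G] {A : Subgroup G} {h g : G} :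
    g ∈ conjBy A h ↔ ∃ a ∈ A, h * a * h⁻¹ = g := by
  constructor
  · rintro ⟨a, ha, rfl⟩
    exact ⟨a, ha, rfl⟩
  · rintro ⟨a, ha, rfl⟩
    exact ⟨a, ha, rfl⟩

theorem sl2_conj_eq {s t : k} (hst : s * t = 1) :
    conjBy (lowerUnipotentSL2 k) (uSL s)⁻¹ = conjBy (upperUnipotentSL2 k) (lSL t)⁻¹ := by
  ext g
  rw [mem_conjBy_iff_exists, mem_conjBy_iff_exists]
  simp only [inv_inv]
  constructor
  · rintro ⟨a, ha, rfl⟩
    obtain ⟨x, rfl⟩ := mem_lowerUnipotentSL2.1 ha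
    refine ⟨uSL (-(s ^ 2 * x)), mem_upperUnipotentSL2.2 ⟨_, rfl⟩, ?_⟩
    rw [uSL_inv, lSL_inv, sl2_conj_identity hst]
  · rintro ⟨b, hb, rfl⟩
    obtain ⟨z, rfl⟩ := mem_upperUnipotentSL2.1 hb
    refine ⟨lSL (-(t ^ 2 * z)), mem_lowerUnipotentSL2.2 ⟨_, rfl⟩, ?_⟩
    rw [uSL_inv, lSL_inv, sl2_conj_identity hst]
    have : -(s ^ 2 * -(t ^ 2 * z)) = z := by
      have h2 : (s * t) ^ 2 = 1 := by rw [hst]; ring
      linear_combination z * h2
    rw [this]

theorem isMulCommutative_lower : IsMulCommutative (lowerUnipotentSL2 k) := by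
  refine ⟨⟨?_⟩⟩
  rintro ⟨a, ha⟩ ⟨b, hb⟩
  obtain ⟨x, rfl⟩ := mem_lowerUnipotentSL2.1 ha
  obtain ⟨y, rfl⟩ := mem_lowerUnipotentSL2.1 hb
  apply Subtype.ext
  simp only [Subgroup.coe_mul]
  rw [lSL_mul, lSL_mul, add_comm]

theorem isMulCommutative_upper : IsMulCommutative (upperUnipotentSL2 k) := by
  refine ⟨⟨?_⟩⟩
  rintro ⟨a, ha⟩ ⟨b, hb⟩
  obtain ⟨x, rfl⟩ := mem_upperUnipotentSL2.1 ha
  obtain ⟨y, rfl⟩ := mem_upperUnipotentSL2.1 hb
  apply Subtype.ext
  simp only [Subgroup.coe_mul]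
  rw [uSL_mul, uSL_mul, add_comm]

theorem isNilpotent_of_isMulCommutative {G : Type*} [Group G] (h : IsMulCommutative G) :
    Group.IsNilpotent G :=
  ⟨⟨1, Subgroup.upperCentralSeries_one_eq_top_iff.2 h⟩⟩

theorem sl2_isRankOnePair : IsRankOnePair (lowerUnipotentSL2 k) (upperUnipotentSL2 k) := by
  refine ⟨?_, isNilpotent_of_isMulCommutative isMulCommutative_lower,
    isNilpotent_of_isMulCommutative isMulCommutative_upper, ?_, ?_⟩
  · intro heq
    have h1 : lSL (1 : k) ∈ lowerUnipotentSL2 k := mem_lowerUnipotentSL2.2 ⟨1, rfl⟩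
    rw [heq] at h1
    obtain ⟨t, ht⟩ := mem_upperUnipotentSL2.1 h1
    have := congrArg (fun g : Matrix.SpecialLinearGroup (Fin 2) k => (g : Matrix (Fin 2) (Fin 2) k) 1 0) ht
    simp at this
  · intro a ha ha1
    obtain ⟨t, rfl⟩ := mem_lowerUnipotentSL2.1 ha
    have ht : t ≠ 0 := fun h => ha1 (lSL_eq_one_iff.2 h)
    refine ⟨uSL t⁻¹, mem_upperUnipotentSL2.2 ⟨_, rfl⟩, ?_, ?_⟩
    · rw [Ne, uSL_eq_one_iff]; exact inv_ne_zero ht
    · exact sl2_conj_eq (inv_mul_cancel₀ ht)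
  · intro b hb hb1
    obtain ⟨s, rfl⟩ := mem_upperUnipotentSL2.1 hb
    have hs : s ≠ 0 := fun h => hb1 (uSL_eq_one_iff.2 h)
    refine ⟨lSL s⁻¹, mem_lowerUnipotentSL2.2 ⟨_, rfl⟩, ?_, ?_⟩
    · rw [Ne, lSL_eq_one_iff]; exact inv_ne_zero hs
    · exact (sl2_conj_eq (mul_inv_cancel₀ hs)).symm

theorem sl2_generation : lowerUnipotentSL2 k ⊔ upperUnipotentSL2 k = ⊤ := by
  rw [eq_top_iff]
  have hl : ∀ t : k, lSL t ∈ lowerUnipotentSL2 k ⊔ upperUnipotentSL2 k := fun t =>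
    Subgroup.mem_sup_left (mem_lowerUnipotentSL2.2 ⟨t, rfl⟩)
  have hu : ∀ t : k, uSL t ∈ lowerUnipotentSL2 k ⊔ upperUnipotentSL2 k := fun t =>
    Subgroup.mem_sup_right (mem_upperUnipotentSL2.2 ⟨t, rfl⟩)
  -- the case of nonzero lower-left entry
  have key : ∀ g : Matrix.SpecialLinearGroup (Fin 2) k, (g : Matrix (Fin 2) (Fin 2) k) 1 0 ≠ 0 →
      g ∈ lowerUnipotentSL2 k ⊔ upperUnipotentSL2 k := by
    intro g hc
    set a := (g : Matrix (Fin 2) (Fin 2) k) 0 0 with ha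
    set b := (g : Matrix (Fin 2) (Fin 2) k) 0 1 with hb
    set c := (g : Matrix (Fin 2) (Fin 2) k) 1 0 with hc'
    set d := (g : Matrix (Fin 2) (Fin 2) k) 1 1 with hd
    have hdet : a * d - b * c = 1 := by
      have := g.2
      rw [Matrix.det_fin_two] at this
      exact this
    have : g = uSL ((a - 1) / c) * lSL c * uSL ((d - 1) / c) := by
      apply sl2_ext <;> simp [Matrix.mul_apply, Fin.sum_univ_two, ← ha, ← hb, ← hc', ← hd]
      · field_simp; ring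
      · field_simp; linear_combination (-1 : k) * hdet
      · field_simp; ring
    rw [this]
    exact Subgroup.mul_mem _ (Subgroup.mul_mem _ (hu _) (hl _)) (hu _)
  intro g _
  by_cases hc : (g : Matrix (Fin 2) (Fin 2) k) 1 0 = 0
  · have hdet : (g : Matrix (Fin 2) (Fin 2) k) 0 0 * (g : Matrix (Fin 2) (Fin 2) k) 1 1 = 1 := by
      have := g.2
      rw [Matrix.det_fin_two, hc, mul_zero, sub_zero] at this
      exact this
    have ha0 : (g : Matrix (Fin 2) (Fin 2) k) 0 0 ≠ 0 := by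
      intro h; rw [h, zero_mul] at hdet; exact zero_ne_one hdet
    have h1 : lSL 1 * g ∈ lowerUnipotentSL2 k ⊔ upperUnipotentSL2 k := by
      apply key
      simp [Matrix.mul_apply, Fin.sum_univ_two, hc, ha0]
    have := Subgroup.mul_mem _ (Subgroup.inv_mem _ (hl 1)) h1
    rwa [inv_mul_cancel_left] at this
  · exact key g hc

end Cfsg.Agent.Helper83
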