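import Mathlib
import Cfsg.Agent.Lib.Helper83.SL2

set_option autoImplicit false

/-!
# Automorphisms of order `p` of an elementary abelian group of order `p²`

Two automorphisms `σ, τ` of order `p` with `τ ∉ ⟨σ⟩` generate a copy of `SL₂(p)`.
-/

namespace Cfsg.Agent.Helper83

section epow

set_option linter.unusedSectionVars false

variable {H : Type*} [CommGroup H] {p : ℕ} [hp : Fact p.Prime]

/-- `h ^ k` for `k : ZMod p` -/
def epow (h : H) (k : ZMod p) : H := h ^ k.val

theorem epow_zero (h : H) : epow h (0 : ZMod p) = 1 := by simp [epow]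

theorem epow_natCast (hexp : ∀ h : H, h ^ p = 1) (h : H) (n : ℕ) :
    epow h (n : ZMod p) = h ^ n := by
  unfold epow
  rw [ZMod.val_natCast, ← pow_eq_pow_mod n (hexp h)]

theorem epow_one (hexp : ∀ h : H, h ^ p = 1) (h : H) : epow h (1 : ZMod p) = h := by
  have := epow_natCast hexp h 1
  simpa using this

theorem epow_add (hexp : ∀ h : H, h ^ p = 1) (h : H) (k l : ZMod p) :
    epow h (k + l) = epow h k * epow h l := by
  unfold epow
  rw [ZMod.val_add, ← pow_eq_pow_mod _ (hexp h), pow_add]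

theorem epow_mul (hexp : ∀ h : H, h ^ p = 1) (h : H) (k l : ZMod p) :
    epow (epow h k) l = epow h (k * l) := by
  unfold epow
  rw [ZMod.val_mul, ← pow_eq_pow_mod _ (hexp h), pow_mul]

theorem epow_mul_base (h h' : H) (k : ZMod p) : epow (h * h') k = epow h k * epow h' k := by
  unfold epow
  rw [mul_pow]

theorem epow_one_base (k : ZMod p) : epow (1 : H) k = 1 := by simp [epow]

theorem map_epow {H' : Type*} [CommGroup H'] (α : H →* H') (h : H) (k : ZMod p) :
    α (epow h k) = epow (α h) k := by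
  unfold epow
  rw [map_pow]

theorem epow_mem_zpowers (h : H) (k : ZMod p) : epow h k ∈ Subgroup.zpowers h :=
  Subgroup.npow_mem_zpowers h _

theorem mem_zpowers_iff_epow (hexp : ∀ h : H, h ^ p = 1) {h x : H} :
    x ∈ Subgroup.zpowers h ↔ ∃ k : ZMod p, epow h k = x := by
  constructor
  · rintro ⟨n, rfl⟩
    refine ⟨(n : ZMod p), ?_⟩
    unfold epow
    have hp0 : (p : ℤ) ≠ 0 := by exact_mod_cast hp.out.ne_zero
    have h1 : h ^ (p : ℤ) = 1 := by rw [zpow_natCast]; exact hexp h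
    rw [← zpow_natCast, ZMod.val_intCast]
    show h ^ (n % (p : ℤ)) = h ^ n
    have e : n = n % (p : ℤ) + (p : ℤ) * (n / (p : ℤ)) := (Int.emod_add_mul_ediv n p).symm
    conv_rhs => rw [e]
    rw [zpow_add, zpow_mul, h1, one_zpow, mul_one]
  · rintro ⟨k, rfl⟩
    exact epow_mem_zpowers h k

/-- the coordinate map `(x, y) ↦ e₁^x e₂^y` -/
def coordHom (hexp : ∀ h : H, h ^ p = 1) (e₁ e₂ : H) :
    Multiplicative (Fin 2 → ZMod p) →* H where
  toFun v := epow e₁ (Multiplicative.toAdd v 0) * epow e₂ (Multiplicative.toAdd v 1)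
  map_one' := by simp [epow_zero]
  map_mul' v w := by
    simp only [toAdd_mul, Pi.add_apply, epow_add hexp]
    exact mul_mul_mul_comm _ _ _ _

theorem coordHom_apply (hexp : ∀ h : H, h ^ p = 1) (e₁ e₂ : H)
    (v : Multiplicative (Fin 2 → ZMod p)) :
    coordHom hexp e₁ e₂ v =
      epow e₁ (Multiplicative.toAdd v 0) * epow e₂ (Multiplicative.toAdd v 1) := rfl

theorem epow_eq_one (hexp : ∀ h : H, h ^ p = 1) {e : H} (he : e ≠ 1) {k : ZMod p}
    (h : epow e k = 1) : k = 0 := by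
  unfold epow at h
  have h1 : orderOf e = p := by
    have hd : orderOf e ∣ p := orderOf_dvd_of_pow_eq_one (hexp e)
    rcases (Nat.dvd_prime hp.out).1 hd with h1 | h1
    · exact absurd (orderOf_eq_one_iff.1 h1) he
    · exact h1
  have h2 : p ∣ k.val := by
    have := orderOf_dvd_of_pow_eq_one h
    rwa [h1] at this
  have h3 : k.val < p := ZMod.val_lt k
  have h4 : k.val = 0 := Nat.eq_zero_of_dvd_of_lt h2 h3
  exact (ZMod.val_eq_zero k).1 h4

theorem coordHom_injective (hexp : ∀ h : H, h ^ p = 1) {e₁ e₂ : H} (he₁ : e₁ ≠ 1)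
    (he₂ : e₂ ∉ Subgroup.zpowers e₁) : Function.Injective (coordHom hexp e₁ e₂) := by
  rw [injective_iff_map_eq_one]
  intro v hv
  rw [coordHom_apply] at hv
  set x := Multiplicative.toAdd v 0 with hx
  set y := Multiplicative.toAdd v 1 with hy
  have hy0 : y = 0 := by
    by_contra hne
    apply he₂
    have h1 : epow e₂ y = (epow e₁ x)⁻¹ := eq_inv_of_mul_eq_one_right hv
    have h2 : e₂ = epow (epow e₂ y) y⁻¹ := by
      rw [epow_mul hexp, mul_inv_cancel₀ hne, epow_one hexp]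
    rw [h2, h1]
    unfold epow
    exact Subgroup.pow_mem _ (Subgroup.inv_mem _ (Subgroup.npow_mem_zpowers e₁ _)) _
  rw [hy0, epow_zero, mul_one] at hv
  have hx0 : x = 0 := epow_eq_one hexp he₁ hv
  have : Multiplicative.toAdd v = 0 := by
    ext i
    fin_cases i
    · exact hx0
    · exact hy0
  exact this

theorem coordHom_bijective [Finite H] (hexp : ∀ h : H, h ^ p = 1) (hcard : Nat.card H = p ^ 2)
    {e₁ e₂ : H} (he₁ : e₁ ≠ 1) (he₂ : e₂ ∉ Subgroup.zpowers e₁) :
    Function.Bijective (coordHom hexp e₁ e₂) := by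
  apply Function.Injective.bijective_of_nat_card_le (coordHom_injective hexp he₁ he₂)
  rw [hcard]
  have : Nat.card (Multiplicative (Fin 2 → ZMod p)) = p ^ 2 := by
    have h1 : Nat.card (Fin 2 → ZMod p) = p ^ 2 := by
      rw [Nat.card_fun, Nat.card_zmod, Nat.card_fin]
    exact h1
  rw [this]

/-- an automorphism with `α ^ p = 1` of a group of order `p²` has a nontrivial fixed point -/
theorem exists_fixed_ne_one [Finite H] (hcard : Nat.card H = p ^ 2) (α : MulAut H)
    (hα : α ^ p = 1) : ∃ e : H, e ≠ 1 ∧ α e = e := by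
  have hG : IsPGroup p (Subgroup.zpowers α) := by
    intro g
    refine ⟨1, ?_⟩
    obtain ⟨n, hn⟩ := g.2
    apply Subtype.ext
    simp only [pow_one, Subgroup.coe_pow, Subgroup.coe_one]
    rw [← hn, ← zpow_natCast, ← _root_.zpow_mul, mul_comm, _root_.zpow_mul, zpow_natCast, hα,
      one_zpow]
  have hdvd : p ∣ Nat.card H := by rw [hcard]; exact dvd_pow_self p two_ne_zero
  have h1 : (1 : H) ∈ MulAction.fixedPoints (Subgroup.zpowers α) H := by
    intro g
    exact map_one (g : MulAut H)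
  obtain ⟨b, hb, hne⟩ := hG.exists_fixed_point_of_prime_dvd_card_of_fixed_point H hdvd h1
  exact ⟨b, hne.symm, hb ⟨α, Subgroup.mem_zpowers α⟩⟩

theorem coordHom_eq_iff (hexp : ∀ h : H, h ^ p = 1) {e₁ e₂ : H} (he₁ : e₁ ≠ 1)
    (he₂ : e₂ ∉ Subgroup.zpowers e₁) {x y x' y' : ZMod p} :
    epow e₁ x * epow e₂ y = epow e₁ x' * epow e₂ y' ↔ x = x' ∧ y = y' := by
  constructor
  · intro h
    have h1 : coordHom hexp e₁ e₂ (Multiplicative.ofAdd ![x, y]) =
        coordHom hexp e₁ e₂ (Multiplicative.ofAdd ![x', y']) := by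
      simpa [coordHom_apply] using h
    have h2 := coordHom_injective hexp he₁ he₂ h1
    have h3 : (![x, y] : Fin 2 → ZMod p) = ![x', y'] := h2
    exact ⟨by simpa using congrFun h3 0, by simpa using congrFun h3 1⟩
  · rintro ⟨rfl, rfl⟩; rfl

theorem exists_coord [Finite H] (hexp : ∀ h : H, h ^ p = 1) (hcard : Nat.card H = p ^ 2)
    {e₁ e₂ : H} (he₁ : e₁ ≠ 1) (he₂ : e₂ ∉ Subgroup.zpowers e₁) (h : H) :
    ∃ x y : ZMod p, h = epow e₁ x * epow e₂ y := by
  obtain ⟨v, hv⟩ := (coordHom_bijective hexp hcard he₁ he₂).2 h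
  exact ⟨Multiplicative.toAdd v 0, Multiplicative.toAdd v 1, hv.symm⟩

/-- if `α ^ p = 1` fixes `e₁` then `α` acts trivially modulo `⟨e₁⟩` -/
theorem exists_shear [Finite H] (hexp : ∀ h : H, h ^ p = 1) (hcard : Nat.card H = p ^ 2)
    {e₁ e₂ : H} (he₁ : e₁ ≠ 1) (he₂ : e₂ ∉ Subgroup.zpowers e₁) (α : MulAut H)
    (hα : α ^ p = 1) (hfix : α e₁ = e₁) : ∃ a : ZMod p, α e₂ = epow e₁ a * e₂ := by
  obtain ⟨a, b, hab⟩ := exists_coord hexp hcard he₁ he₂ (α e₂)
  have key : ∀ n : ℕ, ∃ an : ZMod p, (α ^ n) e₂ = epow e₁ an * epow e₂ (b ^ n) := by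
    intro n
    induction n with
    | zero => exact ⟨0, by simp [epow_zero, epow_one hexp]⟩
    | succ n ih =>
      obtain ⟨an, han⟩ := ih
      refine ⟨an + a * b ^ n, ?_⟩
      rw [pow_succ', MulAut.mul_apply, han, map_mul]
      have h1 : α (epow e₁ an) = epow e₁ an := by
        rw [← MulEquiv.coe_toMonoidHom, map_epow, MulEquiv.coe_toMonoidHom, hfix]
      have h2 : α (epow e₂ (b ^ n)) = epow e₁ (a * b ^ n) * epow e₂ (b ^ (n + 1)) := by
        rw [← MulEquiv.coe_toMonoidHom, map_epow, MulEquiv.coe_toMonoidHom, hab, epow_mul_base,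
          epow_mul hexp, epow_mul hexp, pow_succ']
      rw [h1, h2, epow_add hexp, mul_assoc]
  obtain ⟨ap, hap⟩ := key p
  rw [hα, MulAut.one_apply] at hap
  have h3 : epow e₁ (0 : ZMod p) * epow e₂ (1 : ZMod p) = epow e₁ ap * epow e₂ (b ^ p) := by
    rw [epow_zero, one_mul, epow_one hexp]; exact hap
  have h4 := ((coordHom_eq_iff hexp he₁ he₂).1 h3).2
  have hb : b = 1 := by
    rw [ZMod.pow_card] at h4
    exact h4.symm
  refine ⟨a, ?_⟩
  rw [hab, hb, epow_one hexp]

/-- two endomorphisms agreeing on `e₁`, `e₂` are equal -/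
theorem hom_ext_of_basis [Finite H] (hexp : ∀ h : H, h ^ p = 1) (hcard : Nat.card H = p ^ 2)
    {e₁ e₂ : H} (he₁ : e₁ ≠ 1) (he₂ : e₂ ∉ Subgroup.zpowers e₁) {α β : MulAut H}
    (h1 : α e₁ = β e₁) (h2 : α e₂ = β e₂) : α = β := by
  ext h
  obtain ⟨x, y, rfl⟩ := exists_coord hexp hcard he₁ he₂ h
  rw [map_mul, map_mul, ← MulEquiv.coe_toMonoidHom, map_epow, map_epow,
    ← MulEquiv.coe_toMonoidHom β, map_epow, map_epow]
  simp only [MulEquiv.coe_toMonoidHom, h1, h2]

end epow

section sl2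

variable {p : ℕ} [hp : Fact p.Prime]

/-- `SL₂(p)` acting on `Multiplicative (Fin 2 → ZMod p)` -/
def mulVecAut (g : Matrix.SpecialLinearGroup (Fin 2) (ZMod p)) :
    MulAut (Multiplicative (Fin 2 → ZMod p)) where
  toFun v := Multiplicative.ofAdd (g.1.mulVec (Multiplicative.toAdd v))
  invFun v := Multiplicative.ofAdd ((g⁻¹).1.mulVec (Multiplicative.toAdd v))
  left_inv v := by
    simp only [toAdd_ofAdd, Matrix.mulVec_mulVec]
    rw [← Matrix.SpecialLinearGroup.coe_mul, inv_mul_cancel]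
    simp
  right_inv v := by
    simp only [toAdd_ofAdd, Matrix.mulVec_mulVec]
    rw [← Matrix.SpecialLinearGroup.coe_mul, mul_inv_cancel]
    simp
  map_mul' v w := by
    simp only [toAdd_mul, Matrix.mulVec_add, ofAdd_add]

theorem mulVecAut_apply (g : Matrix.SpecialLinearGroup (Fin 2) (ZMod p))
    (v : Multiplicative (Fin 2 → ZMod p)) :
    mulVecAut g v = Multiplicative.ofAdd (g.1.mulVec (Multiplicative.toAdd v)) := rfl

/-- the action as a homomorphism -/
def mulVecHom : Matrix.SpecialLinearGroup (Fin 2) (ZMod p) →*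
    MulAut (Multiplicative (Fin 2 → ZMod p)) where
  toFun := mulVecAut
  map_one' := by
    ext v
    simp [mulVecAut_apply]
  map_mul' g h := by
    apply MulEquiv.ext
    intro v
    show mulVecAut (g * h) v = mulVecAut g (mulVecAut h v)
    simp only [mulVecAut_apply, toAdd_ofAdd, Matrix.SpecialLinearGroup.coe_mul,
      Matrix.mulVec_mulVec]

theorem mulVecHom_injective : Function.Injective (mulVecHom (p := p)) := by
  rw [injective_iff_map_eq_one]
  intro g hg
  apply Subtype.ext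
  apply Matrix.mulVec_injective
  funext v
  have := congrArg (fun f : MulAut (Multiplicative (Fin 2 → ZMod p)) => f (Multiplicative.ofAdd v)) hg
  simp only [MulAut.one_apply] at this
  have h2 : Multiplicative.ofAdd (g.1.mulVec v) = Multiplicative.ofAdd v := this
  rw [Matrix.SpecialLinearGroup.coe_one, Matrix.one_mulVec]
  exact h2

theorem uSL_pow (a : ZMod p) (n : ℕ) : (uSL a) ^ n = uSL ((n : ZMod p) * a) := by
  induction n with
  | zero => simp [uSL_zero]
  | succ n ih =>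
    rw [pow_succ, ih, uSL_mul]
    congr 1
    push_cast
    ring

theorem lSL_pow (a : ZMod p) (n : ℕ) : (lSL a) ^ n = lSL ((n : ZMod p) * a) := by
  induction n with
  | zero => simp [lSL_zero]
  | succ n ih =>
    rw [pow_succ, ih, lSL_mul]
    congr 1
    push_cast
    ring

end sl2

section main

set_option linter.unusedSectionVars false

variable {H : Type*} [CommGroup H] [Finite H] {p : ℕ} [hp : Fact p.Prime]

theorem pow_shear (hexp : ∀ h : H, h ^ p = 1) {e₁ e₃ : H} {σ : MulAut H} {a : ZMod p}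
    (h1 : σ e₁ = e₁) (h3 : σ e₃ = epow e₁ a * e₃) (n : ℕ) :
    (σ ^ n) e₁ = e₁ ∧ (σ ^ n) e₃ = epow e₁ ((n : ZMod p) * a) * e₃ := by
  induction n with
  | zero => simp [epow_zero]
  | succ n ih =>
    refine ⟨by rw [pow_succ', MulAut.mul_apply, ih.1, h1], ?_⟩
    rw [pow_succ', MulAut.mul_apply, ih.2, map_mul, ← MulEquiv.coe_toMonoidHom, map_epow,
      MulEquiv.coe_toMonoidHom, h1, h3, ← mul_assoc, ← epow_add hexp]
    congr 2
    push_cast
    ring

/-- the homomorphism `SL₂(p) → Aut(H)` attached to a basis `e₁, e₂` -/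
noncomputable def sl2Hom (hexp : ∀ h : H, h ^ p = 1) (hcard : Nat.card H = p ^ 2) {e₁ e₂ : H}
    (he₁ : e₁ ≠ 1) (he₂ : e₂ ∉ Subgroup.zpowers e₁) :
    Matrix.SpecialLinearGroup (Fin 2) (ZMod p) →* MulAut H :=
  (MulAut.congr (MulEquiv.ofBijective (coordHom hexp e₁ e₂)
    (coordHom_bijective hexp hcard he₁ he₂))).toMonoidHom.comp mulVecHom

theorem sl2Hom_injective (hexp : ∀ h : H, h ^ p = 1) (hcard : Nat.card H = p ^ 2) {e₁ e₂ : H}
    (he₁ : e₁ ≠ 1) (he₂ : e₂ ∉ Subgroup.zpowers e₁) :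
    Function.Injective (sl2Hom hexp hcard he₁ he₂) := by
  unfold sl2Hom
  intro g h hgh
  have hgh' : (MulAut.congr (MulEquiv.ofBijective (coordHom hexp e₁ e₂)
      (coordHom_bijective hexp hcard he₁ he₂))) (mulVecHom g) =
      (MulAut.congr (MulEquiv.ofBijective (coordHom hexp e₁ e₂)
      (coordHom_bijective hexp hcard he₁ he₂))) (mulVecHom h) := hgh
  exact mulVecHom_injective (p := p) (MulEquiv.injective _ hgh')

theorem sl2Hom_apply (hexp : ∀ h : H, h ^ p = 1) (hcard : Nat.card H = p ^ 2) {e₁ e₂ : H}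
    (he₁ : e₁ ≠ 1) (he₂ : e₂ ∉ Subgroup.zpowers e₁)
    (g : Matrix.SpecialLinearGroup (Fin 2) (ZMod p)) (x y : ZMod p) :
    sl2Hom hexp hcard he₁ he₂ g (epow e₁ x * epow e₂ y) =
      epow e₁ (g.1 0 0 * x + g.1 0 1 * y) * epow e₂ (g.1 1 0 * x + g.1 1 1 * y) := by
  set E := MulEquiv.ofBijective (coordHom hexp e₁ e₂) (coordHom_bijective hexp hcard he₁ he₂)
    with hE
  have h1 : E.symm (epow e₁ x * epow e₂ y) = Multiplicative.ofAdd ![x, y] := by
    rw [MulEquiv.symm_apply_eq]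
    show _ = coordHom hexp e₁ e₂ _
    rw [coordHom_apply]
    simp
  show E (mulVecAut g (E.symm (epow e₁ x * epow e₂ y))) = _
  rw [h1, mulVecAut_apply]
  show coordHom hexp e₁ e₂ _ = _
  rw [coordHom_apply]
  simp

theorem sl2Hom_apply_e₁ (hexp : ∀ h : H, h ^ p = 1) (hcard : Nat.card H = p ^ 2) {e₁ e₂ : H}
    (he₁ : e₁ ≠ 1) (he₂ : e₂ ∉ Subgroup.zpowers e₁)
    (g : Matrix.SpecialLinearGroup (Fin 2) (ZMod p)) :
    sl2Hom hexp hcard he₁ he₂ g e₁ = epow e₁ (g.1 0 0) * epow e₂ (g.1 1 0) := by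
  have := sl2Hom_apply hexp hcard he₁ he₂ g 1 0
  rw [epow_one hexp, epow_zero, mul_one] at this
  rw [this]
  simp

theorem sl2Hom_apply_e₂ (hexp : ∀ h : H, h ^ p = 1) (hcard : Nat.card H = p ^ 2) {e₁ e₂ : H}
    (he₁ : e₁ ≠ 1) (he₂ : e₂ ∉ Subgroup.zpowers e₁)
    (g : Matrix.SpecialLinearGroup (Fin 2) (ZMod p)) :
    sl2Hom hexp hcard he₁ he₂ g e₂ = epow e₁ (g.1 0 1) * epow e₂ (g.1 1 1) := by
  have := sl2Hom_apply hexp hcard he₁ he₂ g 0 1
  rw [epow_one hexp, epow_zero, one_mul] at this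
  rw [this]
  simp


theorem epow_swap_mem (hexp : ∀ h : H, h ^ p = 1) {e f : H} (hf : f ≠ 1)
    (h : f ∈ Subgroup.zpowers e) : e ∈ Subgroup.zpowers f := by
  obtain ⟨k, rfl⟩ := (mem_zpowers_iff_epow hexp).1 h
  have hk : k ≠ 0 := by
    rintro rfl
    exact hf (epow_zero e)
  rw [mem_zpowers_iff_epow hexp]
  refine ⟨k⁻¹, ?_⟩
  rw [epow_mul hexp, mul_inv_cancel₀ hk, epow_one hexp]

theorem exists_not_mem_zpowers (hexp : ∀ h : H, h ^ p = 1) (hcard : Nat.card H = p ^ 2)
    (e : H) : ∃ e₃ : H, e₃ ∉ Subgroup.zpowers e := by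
  by_contra hall
  push Not at hall
  have hsurj : Function.Surjective (fun k : ZMod p => epow e k) := by
    intro h
    exact (mem_zpowers_iff_epow hexp).1 (hall h)
  have h1 := Nat.card_le_card_of_surjective _ hsurj
  rw [hcard, Nat.card_zmod] at h1
  have h2 : p < p ^ 2 := by
    have := hp.out.one_lt
    nlinarith
  omega

/-- Two automorphisms `σ, τ` of order `p` of an elementary abelian group of order `p²`
with `τ ∉ ⟨σ⟩` generate a copy of `SL₂(p)`; here we only record an injective homomorphism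
from `SL₂(p)` into any subgroup containing both. -/
theorem exists_sl2_hom (hexp : ∀ h : H, h ^ p = 1) (hcard : Nat.card H = p ^ 2)
    (A : Subgroup (MulAut H)) {σ τ : MulAut H} (hσA : σ ∈ A) (hτA : τ ∈ A)
    (hσp : σ ^ p = 1) (hσ1 : σ ≠ 1) (hτp : τ ^ p = 1) (hτσ : τ ∉ Subgroup.zpowers σ) :
    ∃ ψ : Matrix.SpecialLinearGroup (Fin 2) (ZMod p) →* MulAut H,
      Function.Injective ψ ∧ ψ.range ≤ A := by
  obtain ⟨e₁, he₁, hσe₁⟩ := exists_fixed_ne_one hcard σ hσp
  obtain ⟨f, hf, hτf⟩ := exists_fixed_ne_one hcard τ hτp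
  by_cases hfe : f ∈ Subgroup.zpowers e₁
  · exfalso
    -- `τ` fixes `e₁`
    have hτe₁ : τ e₁ = e₁ := by
      obtain ⟨k, hk⟩ := (mem_zpowers_iff_epow hexp).1 (epow_swap_mem hexp hf hfe)
      rw [← hk, ← MulEquiv.coe_toMonoidHom, map_epow, MulEquiv.coe_toMonoidHom, hτf]
    obtain ⟨e₃, he₃⟩ := exists_not_mem_zpowers hexp hcard e₁
    obtain ⟨a, ha⟩ := exists_shear hexp hcard he₁ he₃ σ hσp hσe₁
    obtain ⟨a', ha'⟩ := exists_shear hexp hcard he₁ he₃ τ hτp hτe₁
    have ha0 : a ≠ 0 := by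
      rintro rfl
      apply hσ1
      apply hom_ext_of_basis hexp hcard he₁ he₃
      · rw [hσe₁, MulAut.one_apply]
      · rw [ha, epow_zero, one_mul, MulAut.one_apply]
    apply hτσ
    have key := pow_shear hexp hσe₁ ha (a' / a).val
    have : τ = σ ^ (a' / a).val := by
      apply hom_ext_of_basis hexp hcard he₁ he₃
      · rw [key.1, hτe₁]
      · rw [key.2, ha', ZMod.natCast_zmod_val, div_mul_cancel₀ _ ha0]
    rw [this]
    exact Subgroup.pow_mem _ (Subgroup.mem_zpowers σ) _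
  · have he₁f : e₁ ∉ Subgroup.zpowers f := fun h => hfe (epow_swap_mem hexp he₁ h)
    obtain ⟨a, ha⟩ := exists_shear hexp hcard he₁ hfe σ hσp hσe₁
    obtain ⟨c, hc⟩ := exists_shear hexp hcard hf he₁f τ hτp hτf
    have ha0 : a ≠ 0 := by
      rintro rfl
      apply hσ1
      apply hom_ext_of_basis hexp hcard he₁ hfe
      · rw [hσe₁, MulAut.one_apply]
      · rw [ha, epow_zero, one_mul, MulAut.one_apply]
    have hc0 : c ≠ 0 := by
      rintro rfl
      apply hτσ
      have : τ = 1 := by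
        apply hom_ext_of_basis hexp hcard he₁ hfe
        · rw [hc, epow_zero, one_mul, MulAut.one_apply]
        · rw [hτf, MulAut.one_apply]
      rw [this]
      exact Subgroup.one_mem _
    refine ⟨sl2Hom hexp hcard he₁ hfe, sl2Hom_injective hexp hcard he₁ hfe, ?_⟩
    have hu : sl2Hom hexp hcard he₁ hfe (uSL a) = σ := by
      apply hom_ext_of_basis hexp hcard he₁ hfe
      · rw [sl2Hom_apply_e₁, hσe₁]
        simp [epow_zero, epow_one hexp]
      · rw [sl2Hom_apply_e₂, ha]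
        simp [epow_one hexp]
    have hl : sl2Hom hexp hcard he₁ hfe (lSL c) = τ := by
      apply hom_ext_of_basis hexp hcard he₁ hfe
      · rw [sl2Hom_apply_e₁, hc]
        simp [epow_one hexp, mul_comm]
      · rw [sl2Hom_apply_e₂, hτf]
        simp [epow_zero, epow_one hexp]
    rw [MonoidHom.range_eq_map, ← sl2_generation, Subgroup.map_sup, sup_le_iff]
    constructor
    · rintro _ ⟨g, hg, rfl⟩
      obtain ⟨t, rfl⟩ := mem_lowerUnipotentSL2.1 hg
      have : lSL t = (lSL c) ^ (t / c).val := by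
        rw [lSL_pow, ZMod.natCast_zmod_val, div_mul_cancel₀ _ hc0]
      rw [this, map_pow, hl]
      exact Subgroup.pow_mem _ hτA _
    · rintro _ ⟨g, hg, rfl⟩
      obtain ⟨t, rfl⟩ := mem_upperUnipotentSL2.1 hg
      have : uSL t = (uSL a) ^ (t / a).val := by
        rw [uSL_pow, ZMod.natCast_zmod_val, div_mul_cancel₀ _ ha0]
      rw [this, map_pow, hu]
      exact Subgroup.pow_mem _ hσA _


end main

section general

/-- version of `exists_sl2_hom` for a `Group` that happens to be commutative -/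
theorem exists_sl2_hom' {G : Type*} [Group G] [Finite G] {p : ℕ} [Fact p.Prime]
    (hcomm : ∀ a b : G, a * b = b * a) (hexp : ∀ h : G, h ^ p = 1)
    (hcard : Nat.card G = p ^ 2)
    (A : Subgroup (MulAut G)) {σ τ : MulAut G} (hσA : σ ∈ A) (hτA : τ ∈ A)
    (hσp : σ ^ p = 1) (hσ1 : σ ≠ 1) (hτp : τ ^ p = 1) (hτσ : τ ∉ Subgroup.zpowers σ) :
    ∃ ψ : Matrix.SpecialLinearGroup (Fin 2) (ZMod p) →* MulAut G,
      Function.Injective ψ ∧ ψ.range ≤ A := by
  letI : CommGroup G := { ‹Group G› with mul_comm := hcomm }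
  exact exists_sl2_hom hexp hcard A hσA hτA hσp hσ1 hτp hτσ

/-- a non-cyclic group of order `p²` has exponent `p` -/
theorem pow_prime_eq_one_of_card_sq {G : Type*} [Group G] [Finite G] {p : ℕ} [hp : Fact p.Prime]
    (hcard : Nat.card G = p ^ 2) (hnc : ¬ IsCyclic G) (h : G) : h ^ p = 1 := by
  have hd : orderOf h ∣ p ^ 2 := hcard ▸ orderOf_dvd_natCard h
  obtain ⟨k, hk, hk2⟩ := (Nat.dvd_prime_pow hp.out).1 hd
  interval_cases k
  · rw [pow_zero, orderOf_eq_one_iff] at hk2
    rw [hk2, one_pow]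
  · rw [pow_one] at hk2
    rw [← hk2]
    exact pow_orderOf_eq_one h
  · exfalso
    apply hnc
    apply isCyclic_of_orderOf_eq_card h
    rw [hk2, hcard]

/-- the automorphism group of a cyclic group is commutative -/
theorem mulAut_comm_of_isCyclic {G : Type*} [Group G] [IsCyclic G] (α β : MulAut G) :
    α * β = β * α := by
  apply (IsCyclic.mulAutMulEquiv G).injective
  rw [map_mul, map_mul, mul_comm]

end general

end Cfsg.Agent.Helper83
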