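import Mathlib
import Cfsg.Agent.Lib.Helper98.UT0

/-!
# UT server (S2283), piece (R1) `rel_facts`: field algebra from the relations `Rel`.
Statement as in `tools/ut_sigs_helper98.lean.txt`, with `hF` as an explicit FIRST argument
(the sigs file's `variable (hF)` is not auto-included, and the statement is false without it).
-/

set_option autoImplicit false
set_option linter.unusedSectionVars false
set_option linter.unusedVariables false

namespace Cfsg.Agent.Helper83.UT

open Cfsg.Agent.Helper13 Cfsg.Agent.Helper98.UT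

variable {F : Type*} [Field F] [Fintype F] {q : ℕ}

/-- (R1) consequences of the relations. -/
theorem rel_facts (hF : Fintype.card F = q ^ 2) {lam c a β θ : F} (hR : Rel q lam c a β θ) :
    lam ≠ 0 ∧ lam ^ q = lam⁻¹ ∧ lam - 1 ≠ 0 ∧ lam + 1 ≠ 0 ∧ 2 * lam + 1 ≠ 0 ∧ lam + 2 ≠ 0 ∧ β ≠ 0 ∧
      β ^ q * (2 * lam + 1) = -(lam ^ 3 * (lam + 2)) * β ∧
      a * a ^ q * (2 * lam + 1) = -(β * (1 - lam) * (1 + lam) ^ 3) ∧ a ≠ 0 := by
  obtain ⟨lamN, lam2, c0, cT, bc, ab, th⟩ := hR
  have h0 : lam ≠ 0 := by
    rintro rfl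
    rw [zero_mul] at lamN
    exact zero_ne_one lamN
  have hq : lam ^ q = lam⁻¹ := eq_inv_of_mul_eq_one_right lamN
  have hm1 : lam - 1 ≠ 0 := by
    intro h
    apply lam2
    have : lam = 1 := sub_eq_zero.1 h
    rw [this, one_pow]
  have hp1 : lam + 1 ≠ 0 := by
    intro h
    apply lam2
    have : lam = -1 := eq_neg_of_add_eq_zero_left h
    rw [this]; ring
  have cq : c ^ q = -c := by linear_combination cT
  -- Frobenius images
  have key := congrArg (frobQ hF) bc
  simp only [map_mul, map_pow, map_neg, map_sub, map_add, map_one, map_ofNat, frobQ_apply] at key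
  rw [cq] at key
  have e21 : (2 * lam + 1) ^ q = 2 * lam ^ q + 1 := by
    have := map_add (frobQ hF) (2 * lam) 1
    simp only [map_mul, map_one, map_ofNat, frobQ_apply] at this
    exact this
  have e12 : (lam + 2) ^ q = lam ^ q + 2 := by
    have := map_add (frobQ hF) lam 2
    simp only [map_ofNat, frobQ_apply] at this
    exact this
  have z0 : (0 : F) ^ q = 0 := zero_pow (q_pos hF).ne'
  refine ⟨h0, hq, hm1, hp1, ?_⟩
  clear hq
  generalize lam ^ q = L at *
  generalize β ^ q = B at *
  generalize a ^ q = A at *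
  have hl1 : lam * (L - 1) = 1 - lam := by linear_combination lamN
  have hl2 : lam * (2 * L + 1) = 2 + lam := by linear_combination 2 * lamN
  have hl3 : lam * (L + 2) = 2 * lam + 1 := by linear_combination lamN
  have h3 : lam ^ 3 * L ^ 3 = 1 := by rw [← mul_pow, lamN, one_pow]
  have h21 : 2 * lam + 1 ≠ 0 := by
    intro h
    rw [h, z0] at e21
    apply hm1
    have e : 2 + lam = 0 := by rw [← hl2, ← e21, mul_zero]
    linear_combination h - e
  have h12 : lam + 2 ≠ 0 := by
    intro h
    rw [h, z0] at e12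
    apply h21
    rw [← hl3, ← e12, mul_zero]
  have hβ : β ≠ 0 := by
    rintro rfl
    rw [zero_mul, zero_mul] at bc
    have : (lam - 1) ^ 2 * (2 * lam + 1) = 0 := by linear_combination bc
    exact mul_ne_zero (pow_ne_zero 2 hm1) h21 this
  have hBc : B * c = (1 - lam) ^ 2 * (lam + 2) := by
    calc B * c = B * c * (lam ^ 3 * L ^ 3) := by rw [h3, mul_one]
      _ = lam ^ 3 * (-(B * -c * L ^ 3)) := by ring
      _ = lam ^ 3 * ((L - 1) ^ 2 * (2 * L + 1)) := by rw [key, neg_neg]
      _ = (lam * (L - 1)) ^ 2 * (lam * (2 * L + 1)) := by ring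
      _ = (1 - lam) ^ 2 * (lam + 2) := by rw [hl1, hl2]; ring
  have h8 : B * (2 * lam + 1) = -(lam ^ 3 * (lam + 2)) * β := by
    apply mul_right_cancel₀ c0
    linear_combination (2 * lam + 1) * hBc + (lam + 2) * bc
  have h9 : a * A * (2 * lam + 1) = -(β * (1 - lam) * (1 + lam) ^ 3) := by
    linear_combination (2 * lam + 1) * ab - h8
  refine ⟨h21, h12, hβ, h8, h9, ?_⟩
  rintro rfl
  rw [zero_mul, zero_mul] at h9
  have h1l : 1 - lam ≠ 0 := by
    intro h
    apply hm1
    linear_combination -h
  have h1p : 1 + lam ≠ 0 := by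
    intro h
    apply hp1
    linear_combination h
  have : β * (1 - lam) * (1 + lam) ^ 3 = 0 := by linear_combination h9
  exact mul_ne_zero (mul_ne_zero hβ h1l) (pow_ne_zero 3 h1p) this

end Cfsg.Agent.Helper83.UT
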