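import Mathlib
import Cfsg.Prelude.Def_Characters
import Cfsg.Agent.Lib.Helper81.CharProd
import Cfsg.Agent.Lib.Helper81.CharFrob
import Cfsg.Agent.Lib.Helper82.GenChar

/-!
(B1) requested by helper82 (board msg 1553) for Sibley S1524: a generalized character with values in
`[0, N)`, all divisible by `N` in the algebraic integers, is zero.
-/

set_option autoImplicit false

namespace Cfsg.Agent.Helper83.SibleyAux

open Cfsg Cfsg.Agent.Helper81 Cfsg.Agent.Helper82
open scoped BigOperators ComplexConjugate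

universe u

variable {G : Type u} [Group G] [Fintype G]

/-- the product of two generalized characters is a generalized character -/
theorem isGeneralizedCharacter_mul {θ φ : G → ℂ} (hθ : IsGeneralizedCharacter G θ)
    (hφ : IsGeneralizedCharacter G φ) : IsGeneralizedCharacter G (θ * φ) := by
  obtain ⟨α, β, hα, hβ, rfl⟩ := hθ
  obtain ⟨γ, δ, hγ, hδ, rfl⟩ := hφ
  exact ⟨α * γ + β * δ, α * δ + β * γ,
    isCharacter_add (isCharacter_mul hα hγ) (isCharacter_mul hβ hδ),
    isCharacter_add (isCharacter_mul hα hδ) (isCharacter_mul hβ hγ), by ring⟩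

/-- the constant function `1` is a generalized character -/
theorem isGeneralizedCharacter_one : IsGeneralizedCharacter G (1 : G → ℂ) :=
  isGeneralizedCharacter_of_isCharacter
    (IsIrrCharacter.isCharacter (χ := fun _ : G => (1 : ℂ)) (isIrrCharacter_one (G := G)))

/-- powers of a generalized character are generalized characters -/
theorem isGeneralizedCharacter_pow {θ : G → ℂ} (hθ : IsGeneralizedCharacter G θ) (n : ℕ) :
    IsGeneralizedCharacter G (θ ^ n) := by
  induction n with
  | zero => rw [pow_zero]; exact isGeneralizedCharacter_one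
  | succ n ih => rw [pow_succ]; exact isGeneralizedCharacter_mul ih hθ

/-- the sum of the values of a generalized character is an integer -/
theorem sum_genChar_int {θ : G → ℂ} (hθ : IsGeneralizedCharacter G θ) :
    ∃ k : ℤ, ∑ g : G, θ g = (k : ℂ) := by
  obtain ⟨k, hk⟩ := genChar_inner_int hθ (isGeneralizedCharacter_one (G := G))
  refine ⟨(Nat.card G : ℤ) * k, ?_⟩
  have hne : (Nat.card G : ℂ) ≠ 0 := by
    have : 0 < Nat.card G := Nat.card_pos
    exact_mod_cast this.ne'
  have h1 : classInner θ (1 : G → ℂ) = (Nat.card G : ℂ)⁻¹ * ∑ g : G, θ g := by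
    simp only [classInner, Pi.one_apply, map_one, mul_one]
  rw [h1] at hk
  have h2 : ∑ g : G, θ g = (Nat.card G : ℂ) * ((Nat.card G : ℂ)⁻¹ * ∑ g : G, θ g) := by
    rw [← mul_assoc, mul_inv_cancel₀ hne, one_mul]
  rw [h2, hk]
  push_cast
  ring

/-- a rational number that is an algebraic integer (inside `ℂ`) is an integer -/
theorem int_of_isIntegral_ratCast' (q : ℚ) (h : IsIntegral ℤ (q : ℂ)) : ∃ z : ℤ, (q : ℂ) = (z : ℂ) := by
  have h1 : (q : ℂ) = algebraMap ℚ ℂ q := rfl
  rw [h1, isIntegral_algebraMap_iff (algebraMap ℚ ℂ).injective] at h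
  obtain ⟨m, hm⟩ := IsIntegrallyClosed.isIntegral_iff.mp h
  refine ⟨m, ?_⟩
  rw [← hm]
  simp

/-- (B1) a generalized character all of whose values are real, lie in `[0, N)` and are divisible by `N`
(as algebraic integers) vanishes. -/
theorem genChar_eq_zero_of_small {Z : Type*} [Group Z] [Fintype Z] (f : Z → ℂ)
    (hf : Cfsg.IsGeneralizedCharacter Z f) (N : ℕ) (hN : 0 < N)
    (hint : ∀ z, IsIntegral ℤ (f z / (N : ℂ))) (him : ∀ z, (f z).im = 0)
    (h0 : ∀ z, 0 ≤ (f z).re) (h1 : ∀ z, (f z).re < N) : f = 0 := by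
  classical
  have hNR : (0 : ℝ) < (N : ℝ) := by exact_mod_cast hN
  have hNC : (N : ℂ) ≠ 0 := by exact_mod_cast hN.ne'
  -- real values
  set r : Z → ℝ := fun z => (f z).re / N with hr
  have hfr : ∀ z, f z / (N : ℂ) = ((r z : ℝ) : ℂ) := by
    intro z
    have : f z = (((f z).re : ℝ) : ℂ) := by
      apply Complex.ext
      · simp
      · simp [him z]
    rw [hr]
    push_cast
    rw [← this]
  have hr0 : ∀ z, 0 ≤ r z := fun z => div_nonneg (h0 z) hNR.le
  have hr1 : ∀ z, r z < 1 := fun z => by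
    rw [hr]
    exact (div_lt_one hNR).mpr (h1 z)
  -- the power sums are integers
  have hPint : ∀ n : ℕ, ∃ m : ℤ, ∑ z : Z, (r z) ^ n = (m : ℝ) := by
    intro n
    have hI : IsIntegral ℤ (∑ z : Z, (f z / (N : ℂ)) ^ n) :=
      IsIntegral.sum _ (fun z _ => (hint z).pow n)
    obtain ⟨k, hk⟩ := sum_genChar_int (isGeneralizedCharacter_pow hf n)
    have hq : ∑ z : Z, (f z / (N : ℂ)) ^ n = (((k : ℚ) / (N : ℚ) ^ n : ℚ) : ℂ) := by
      have : ∑ z : Z, (f z / (N : ℂ)) ^ n = (∑ z : Z, (f ^ n) z) / (N : ℂ) ^ n := by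
        rw [Finset.sum_div]
        apply Finset.sum_congr rfl
        intro z _
        rw [div_pow, Pi.pow_apply]
      rw [this, hk]
      push_cast
      rfl
    rw [hq] at hI
    obtain ⟨m, hm⟩ := int_of_isIntegral_ratCast' _ hI
    refine ⟨m, ?_⟩
    have h2 : ((∑ z : Z, (r z) ^ n : ℝ) : ℂ) = ((m : ℝ) : ℂ) := by
      push_cast
      rw [← hm, ← hq]
      apply Finset.sum_congr rfl
      intro z _
      rw [hfr z]
    exact_mod_cast h2
  -- bound
  have hne : (Finset.univ : Finset Z).Nonempty := ⟨1, Finset.mem_univ 1⟩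
  set c : ℝ := (Finset.univ : Finset Z).sup' hne r with hc
  have hc1 : c < 1 := by
    rw [hc, Finset.sup'_lt_iff]
    intro z _
    exact hr1 z
  have hc0 : 0 ≤ c := (hr0 1).trans (Finset.le_sup' r (Finset.mem_univ 1))
  have hcard : (0 : ℝ) < (Fintype.card Z : ℝ) := by
    exact_mod_cast Fintype.card_pos
  obtain ⟨n, hn⟩ := exists_pow_lt_of_lt_one (inv_pos.mpr hcard) hc1
  obtain ⟨m, hm⟩ := hPint n
  have hle : ∑ z : Z, (r z) ^ n ≤ (Fintype.card Z : ℝ) * c ^ n := by
    calc ∑ z : Z, (r z) ^ n ≤ ∑ _z : Z, c ^ n := by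
          apply Finset.sum_le_sum
          intro z _
          exact pow_le_pow_left₀ (hr0 z) (Finset.le_sup' r (Finset.mem_univ z)) n
      _ = (Fintype.card Z : ℝ) * c ^ n := by
          rw [Finset.sum_const, nsmul_eq_mul, Finset.card_univ]
  have hlt : ∑ z : Z, (r z) ^ n < 1 := by
    refine lt_of_le_of_lt hle ?_
    calc (Fintype.card Z : ℝ) * c ^ n < (Fintype.card Z : ℝ) * (Fintype.card Z : ℝ)⁻¹ :=
          mul_lt_mul_of_pos_left hn hcard
      _ = 1 := mul_inv_cancel₀ hcard.ne'
  have hge : 0 ≤ ∑ z : Z, (r z) ^ n := Finset.sum_nonneg (fun z _ => pow_nonneg (hr0 z) n)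
  have hm0 : m = 0 := by
    rw [hm] at hlt hge
    have h3 : (m : ℝ) < 1 := hlt
    have h4 : (0 : ℝ) ≤ (m : ℝ) := hge
    have h5 : m < 1 := by exact_mod_cast h3
    have h6 : 0 ≤ m := by exact_mod_cast h4
    omega
  have hsum0 : ∑ z : Z, (r z) ^ n = 0 := by rw [hm, hm0]; simp
  have hn0 : n ≠ 0 := by
    intro h
    rw [h] at hsum0
    simp only [pow_zero, Finset.sum_const, Finset.card_univ, nsmul_eq_mul, mul_one] at hsum0
    exact hcard.ne' hsum0
  have hall : ∀ z, r z = 0 := by
    intro z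
    have := (Finset.sum_eq_zero_iff_of_nonneg (fun z _ => pow_nonneg (hr0 z) n)).mp hsum0 z
      (Finset.mem_univ z)
    exact pow_eq_zero_iff hn0 |>.mp this
  funext z
  have h7 := hfr z
  rw [hall z] at h7
  simp only [Complex.ofReal_zero, div_eq_zero_iff] at h7
  rcases h7 with h7 | h7
  · simpa using h7
  · exact absurd h7 hNC

end Cfsg.Agent.Helper83.SibleyAux
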