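import Mathlib
import Cfsg.Prelude.Def_Characters
import Cfsg.Agent.Lib.Helper81.CharCorr
import Cfsg.Agent.Lib.Helper80.ConjIrr
import Cfsg.Agent.Lib.Helper78.CharSchur
import Cfsg.Agent.Lib.Helper82.GenChar
import Cfsg.Agent.S0161

/-!
(B2) requested by helper82 (board msg 1553) for Sibley S1524: an irreducible character of a group of odd
order that is real-valued on a normal subgroup `Z` is constant on `Z`.
-/

set_option autoImplicit false

namespace Cfsg.Agent.Helper83.SibleyAux

open Cfsg Cfsg.Agent.Helper81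
open scoped BigOperators ComplexConjugate

/-- (B2) -/
theorem real_on_normal_odd {X : Type*} [Group X] [Fintype X] (hodd : Odd (Nat.card X))
    (Z : Subgroup X) [Z.Normal] (ξ : X → ℂ) (hξ : Cfsg.IsIrrCharacter X ξ)
    (hreal : ∀ z ∈ Z, ξ z⁻¹ = ξ z) : ∀ z ∈ Z, ξ z = ξ 1 := by
  classical
  haveI : Fintype Z := Fintype.ofFinite Z
  have hN : Z.Normal := inferInstance
  set res : Z → ℂ := fun n => ξ n with hresdef
  have hξc : IsCharacter X ξ := IsIrrCharacter.isCharacter hξ
  have hres : IsCharacter Z res := isCharacter_restrict Z hξc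
  have hres0 : res ≠ 0 := by
    intro h
    obtain ⟨n, hn, hn1⟩ := Cfsg.Agent.Helper82.irr_degree_pos hξ
    have h1 : res 1 = 0 := by rw [h]; rfl
    have h2 : res 1 = ξ 1 := rfl
    rw [h2, hn1] at h1
    have : (n : ℂ) ≠ 0 := by exact_mod_cast hn.ne'
    exact this h1
  obtain ⟨lam, hlam, hne⟩ := exists_irr_constituent hres hres0
  have hresreal : ∀ z : Z, conj (res z) = res z := by
    intro z
    have h1 : ξ ((z : X))⁻¹ = conj (ξ (z : X)) := Cfsg.Agent.Helper78.IsCharacter.inv hξc (z : X)
    show conj (ξ (z : X)) = ξ (z : X)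
    rw [← h1]
    exact hreal z z.2
  set lamc : Z → ℂ := fun n => conj (lam n) with hlamcdef
  have hlamc : IsIrrCharacter Z lamc := Cfsg.Agent.Helper80.isIrrCharacter_cconj hlam
  have hne' : classInner res lamc ≠ 0 := by
    have h1 : classInner res lamc = conj (classInner res lam) := by
      simp only [classInner, map_mul, map_sum, map_inv₀, Complex.conj_natCast]
      congr 1
      apply Finset.sum_congr rfl
      intro z _
      rw [hresreal z]
    rw [h1]
    intro h
    apply hne
    have := congrArg conj h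
    simpa using this
  have hex : ∃ x : X, lamc = conjFun Z hN lam x := by
    by_contra hnc
    exact hne' (clifford_not_conj Z hN hξ hlam hlamc hne hnc)
  obtain ⟨x, hx⟩ := hex
  have hxx : conjFun Z hN lam (x * x) = lam := by
    rw [← conjFun_mul, ← hx]
    ext n
    rw [conjFun_apply]
    show conj (lam ⟨x * (n : X) * x⁻¹, _⟩) = lam n
    have h1 : lamc n = conjFun Z hN lam x n := congrFun hx n
    rw [conjFun_apply] at h1
    rw [← h1]
    show conj (conj (lam n)) = lam n
    simp
  have hpow : ∀ k : ℕ, conjFun Z hN lam ((x * x) ^ k) = lam := by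
    intro k
    induction k with
    | zero => rw [pow_zero, conjFun_one]
    | succ k ih => rw [pow_succ, ← conjFun_mul, ih, hxx]
  have hxodd : Odd (orderOf x) := Odd.of_dvd_nat hodd (orderOf_dvd_natCard x)
  obtain ⟨k, hk⟩ := hxodd
  have hxk : (x * x) ^ (k + 1) = x := by
    rw [← pow_two, ← pow_mul]
    have : 2 * (k + 1) = orderOf x + 1 := by omega
    rw [this, pow_succ, pow_orderOf_eq_one, one_mul]
  have hxfix : conjFun Z hN lam x = lam := by
    have := hpow (k + 1)
    rwa [hxk] at this
  have hlamreal : ∀ n : Z, (lam n).im = 0 := by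
    intro n
    have h1 : lamc n = lam n := by rw [hx, hxfix]
    exact Complex.conj_eq_iff_im.mp h1
  have hZodd : Odd (Nat.card Z) := Odd.of_dvd_nat hodd (Subgroup.card_subgroup_dvd_card Z)
  have hlam1 : lam = fun _ => 1 := Cfsg.Agent.S0161.result hZodd ⟨lam, hlam⟩ hlamreal
  have hcl := clifford Z hN hξ hlam hne
  have hset : conjSet Z hN lam = {lam} := by
    ext ψ
    simp only [conjSet, Set.mem_ofPred_eq, Set.mem_singleton_iff]
    constructor
    · rintro ⟨g, rfl⟩
      rw [hlam1]
      ext n
      rw [conjFun_apply]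
    · intro h
      exact ⟨1, by rw [h, conjFun_one]⟩
  rw [hset, finsum_mem_singleton] at hcl
  intro z hz
  have h1 := congrFun hcl ⟨z, hz⟩
  have h2 := congrFun hcl 1
  simp only [Pi.smul_apply, hlam1, smul_eq_mul, mul_one] at h1 h2
  have h3 : ξ ((1 : Z) : X) = ξ 1 := by rw [Subgroup.coe_one]
  show ξ ((⟨z, hz⟩ : Z) : X) = ξ 1
  rw [h1, ← h3, h2]

end Cfsg.Agent.Helper83.SibleyAux
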