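import Mathlib

/-!
Abstract Frobenius lemmas requested by helper82 (board msg 1510) for Sibley S1524.

Setup: `K` normal in the finite group `X`, `E` a complement (`K ⊓ E = ⊥`, `K ⊔ E = ⊤`), and every
nonidentity element of `E` acts fixed-point-freely on `K`.
-/

set_option autoImplicit false

namespace Cfsg.Agent.Helper83.FrobAbs

open scoped Pointwise commutatorElement

/-- (A1) In an abstract Frobenius group `X = K ⋊ E`, the centralizer of a nonidentity element of the kernel
lies in the kernel. -/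
theorem frob_centralizer_le {X : Type*} [Group X] [Finite X] (K E : Subgroup X) [K.Normal]
    (hsup : K ⊔ E = ⊤)
    (hfpf : ∀ w ∈ E, w ≠ 1 → ∀ k ∈ K, w * k = k * w → k = 1) :
    ∀ k ∈ K, k ≠ 1 → Subgroup.centralizer ({k} : Set X) ≤ K := by
  intro k hk hk1 x hx
  have hxk : x * k = k * x := by
    have := Subgroup.mem_centralizer_iff.mp hx k (Set.mem_singleton k)
    exact this.symm
  -- decompose x = k₀ * w
  have hxmem : x ∈ ((K ⊔ E : Subgroup X) : Set X) := by rw [hsup]; trivial
  rw [Subgroup.normal_mul] at hxmem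
  obtain ⟨k₀, hk₀, w, hw, rfl⟩ := Set.mem_mul.mp hxmem
  by_cases hw1 : w = 1
  · subst hw1; simpa using hk₀
  exfalso
  -- the map u ↦ u⁻¹ * (w u w⁻¹) on K is injective hence surjective
  let f : K → K := fun u => ⟨(u : X)⁻¹ * (w * u * w⁻¹),
    K.mul_mem (K.inv_mem u.2) (Subgroup.Normal.conj_mem inferInstance _ u.2 w)⟩
  have hinj : Function.Injective f := by
    intro u v huv
    have h1 : (u : X)⁻¹ * (w * u * w⁻¹) = (v : X)⁻¹ * (w * v * w⁻¹) := congrArg Subtype.val huv
    have hcomm : w * ((v : X) * (u : X)⁻¹) = ((v : X) * (u : X)⁻¹) * w := by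
      have h2 : (u : X)⁻¹ * w * u = (v : X)⁻¹ * w * v := by
        have := congrArg (fun t => t * w) h1
        simpa [mul_assoc] using this
      calc w * ((v : X) * (u : X)⁻¹) = v * ((v : X)⁻¹ * w * v) * (u : X)⁻¹ := by group
        _ = v * ((u : X)⁻¹ * w * u) * (u : X)⁻¹ := by rw [h2]
        _ = ((v : X) * (u : X)⁻¹) * w := by group
    have := hfpf w hw hw1 ((v : X) * (u : X)⁻¹) (K.mul_mem v.2 (K.inv_mem u.2)) hcomm
    have hvu : (v : X) = u := by
      have := mul_inv_eq_one.mp this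
      exact this
    exact Subtype.ext hvu.symm
  have hsurj : Function.Surjective f := Finite.surjective_of_injective hinj
  obtain ⟨u, hu⟩ := hsurj ⟨k₀, hk₀⟩
  have hu' : (u : X)⁻¹ * (w * u * w⁻¹) = k₀ := congrArg Subtype.val hu
  -- u * (k₀ * w) * u⁻¹ = w
  have hconj : (u : X) * (k₀ * w) * (u : X)⁻¹ = w := by
    rw [← hu']; group
  -- w centralizes u k u⁻¹
  have hcomm2 : w * ((u : X) * k * (u : X)⁻¹) = ((u : X) * k * (u : X)⁻¹) * w := by
    rw [← hconj]
    calc (u : X) * (k₀ * w) * (u : X)⁻¹ * ((u : X) * k * (u : X)⁻¹)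
        = (u : X) * ((k₀ * w) * k) * (u : X)⁻¹ := by group
      _ = (u : X) * (k * (k₀ * w)) * (u : X)⁻¹ := by rw [hxk]
      _ = (u : X) * k * (u : X)⁻¹ * ((u : X) * (k₀ * w) * (u : X)⁻¹) := by group
  have h1 := hfpf w hw hw1 ((u : X) * k * (u : X)⁻¹)
    (Subgroup.Normal.conj_mem inferInstance _ hk _) hcomm2
  apply hk1
  have : k = (u : X)⁻¹ * ((u : X) * k * (u : X)⁻¹) * u := by group
  rw [this, h1]; group

/-- (A2) In an abstract Frobenius group `X = K ⋊ E`, the order of the kernel is coprime to its index. -/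
theorem frob_coprime {X : Type*} [Group X] [Finite X] (K E : Subgroup X) [K.Normal]
    (hinf : K ⊓ E = ⊥) (hsup : K ⊔ E = ⊤)
    (hfpf : ∀ w ∈ E, w ≠ 1 → ∀ k ∈ K, w * k = k * w → k = 1) (hE : E ≠ ⊥) :
    Nat.Coprime (Nat.card K) K.index := by
  have _ := hinf
  have _ := hE
  have hA1 := frob_centralizer_le K E hsup hfpf
  apply Nat.coprime_of_dvd
  intro p hp hpK hpI
  haveI : Fact p.Prime := ⟨hp⟩
  obtain ⟨k, hk⟩ := exists_prime_orderOf_dvd_card' p hpK
  have hk1 : (k : X) ≠ 1 := by
    intro h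
    have : k = 1 := Subtype.ext h
    rw [this, orderOf_one] at hk
    exact hp.one_lt.ne hk
  have hkp : IsPGroup p (Subgroup.zpowers (k : X)) := by
    rw [IsPGroup.iff_card, Nat.card_zpowers]
    refine ⟨1, ?_⟩
    rw [pow_one, Subgroup.orderOf_coe, hk]
  obtain ⟨P, hP⟩ := hkp.exists_le_sylow
  have hkP : (k : X) ∈ (P : Subgroup X) := hP (Subgroup.mem_zpowers _)
  -- P is not contained in K
  have hPK : ¬ (P : Subgroup X) ≤ K := by
    intro hle
    have h1 : K.index ∣ (P : Subgroup X).index := Subgroup.index_dvd_of_le hle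
    exact P.not_dvd_index (hpI.trans h1)
  obtain ⟨y, hyP, hyK⟩ := SetLike.not_le_iff_exists.mp hPK
  haveI : Nontrivial (P : Subgroup X) := ⟨⟨⟨(k : X), hkP⟩, 1, fun h => hk1 (congrArg Subtype.val h)⟩⟩
  haveI : Nontrivial (Subgroup.center (P : Subgroup X)) := P.2.center_nontrivial
  obtain ⟨z, hz⟩ := exists_ne (1 : Subgroup.center (P : Subgroup X))
  have hz1 : ((z : (P : Subgroup X)) : X) ≠ 1 := by
    intro h
    apply hz
    apply Subtype.ext
    apply Subtype.ext
    exact h
  have hzc : ∀ g : (P : Subgroup X), g * (z : (P : Subgroup X)) = (z : (P : Subgroup X)) * g :=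
    fun g => Subgroup.mem_center_iff.mp z.2 g
  by_cases hzK : ((z : (P : Subgroup X)) : X) ∈ K
  · -- y ∈ C(z) ≤ K
    apply hyK
    apply hA1 _ hzK hz1
    rw [Subgroup.mem_centralizer_iff]
    intro t ht
    rw [Set.mem_singleton_iff] at ht
    subst ht
    have := hzc ⟨y, hyP⟩
    exact (congrArg Subtype.val this).symm
  · -- z ∈ C(k) ≤ K
    apply hzK
    apply hA1 _ k.2 hk1
    rw [Subgroup.mem_centralizer_iff]
    intro t ht
    rw [Set.mem_singleton_iff] at ht
    subst ht
    have := hzc ⟨(k : X), hkP⟩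
    exact congrArg Subtype.val this

/-- (A3) If centralizers of nonidentity elements of the normal subgroup `K` lie in `K`, then every nontrivial
normal subgroup `Z ≤ K` of `X` has more than `[X : K]` elements. -/
theorem frob_index_lt_card {X : Type*} [Group X] [Finite X] (K : Subgroup X)
    (hC : ∀ k ∈ K, k ≠ 1 → Subgroup.centralizer ({k} : Set X) ≤ K)
    (Z : Subgroup X) [Z.Normal] (hZK : Z ≤ K) (hZ : Z ≠ ⊥) : K.index < Nat.card Z := by
  obtain ⟨⟨z, hzZ⟩, hz1'⟩ := (Subgroup.ne_bot_iff_exists_ne_one).mp hZ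
  have hz1 : z ≠ 1 := fun h => hz1' (Subtype.ext h)
  set C := Subgroup.centralizer ({z} : Set X) with hCdef
  have hCK : C ≤ K := hC z (hZK hzZ) hz1
  -- injection X ⧸ C → {y : Z // y ≠ 1}
  let φ : X ⧸ C → {y : Z // y ≠ 1} := fun q =>
    Quotient.liftOn' q
      (fun g => (⟨⟨g * z * g⁻¹, Subgroup.Normal.conj_mem inferInstance _ hzZ g⟩, by
        intro h
        have h' : g * z * g⁻¹ = 1 := congrArg Subtype.val h
        apply hz1
        have : z = g⁻¹ * (g * z * g⁻¹) * g := by group
        rw [this, h']; group⟩ : {y : Z // y ≠ 1}))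
      (by
        intro a b hab
        rw [QuotientGroup.leftRel_apply] at hab
        have hcomm : (a⁻¹ * b) * z = z * (a⁻¹ * b) :=
          (Subgroup.mem_centralizer_iff.mp hab z (Set.mem_singleton z)).symm
        apply Subtype.ext
        apply Subtype.ext
        show a * z * a⁻¹ = b * z * b⁻¹
        calc a * z * a⁻¹ = a * (z * (a⁻¹ * b)) * b⁻¹ := by group
          _ = a * ((a⁻¹ * b) * z) * b⁻¹ := by rw [hcomm]
          _ = b * z * b⁻¹ := by group)
  have hφ : Function.Injective φ := by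
    intro q₁ q₂
    refine Quotient.inductionOn₂' q₁ q₂ ?_
    intro a b hab
    have h1 : a * z * a⁻¹ = b * z * b⁻¹ := congrArg (fun t : {y : Z // y ≠ 1} => ((t : Z) : X)) hab
    apply Quotient.sound'
    rw [QuotientGroup.leftRel_apply, hCdef, Subgroup.mem_centralizer_iff]
    intro t ht
    rw [Set.mem_singleton_iff] at ht
    subst ht
    calc t * (a⁻¹ * b) = a⁻¹ * (a * t * a⁻¹) * b := by group
      _ = a⁻¹ * (b * t * b⁻¹) * b := by rw [h1]
      _ = a⁻¹ * b * t := by group
  have h1 : C.index ≤ Nat.card {y : Z // y ≠ 1} := by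
    rw [Subgroup.index]
    exact Nat.card_le_card_of_injective φ hφ
  have h2 : Nat.card {y : Z // y ≠ 1} = Nat.card Z - 1 := by
    classical
    haveI := Fintype.ofFinite Z
    rw [Nat.card_eq_fintype_card, Nat.card_eq_fintype_card, Fintype.card_subtype_compl,
      Fintype.card_subtype_eq]
  have h3 : K.index ≤ C.index := by
    apply Nat.le_of_dvd
    · exact Nat.pos_of_ne_zero (Subgroup.index_ne_zero_of_finite)
    · exact Subgroup.index_dvd_of_le hCK
  have h4 : 0 < Nat.card Z := Nat.card_pos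
  omega

/-- In a nilpotent group every nontrivial normal subgroup meets the center nontrivially. -/
theorem center_inf_normal_ne_bot {K : Type*} [Group K] [Group.IsNilpotent K]
    (N : Subgroup K) [N.Normal] (hN : N ≠ ⊥) : Subgroup.center K ⊓ N ≠ ⊥ := by
  classical
  obtain ⟨c, hc⟩ := Group.IsNilpotent.nilpotent' (G := K)
  have hex : ∃ n, Subgroup.upperCentralSeries K n ⊓ N ≠ ⊥ := ⟨c, by rw [hc, top_inf_eq]; exact hN⟩
  set n := Nat.find hex with hn
  have hn1 : Subgroup.upperCentralSeries K n ⊓ N ≠ ⊥ := Nat.find_spec hex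
  have hn0 : n ≠ 0 := by
    intro h0
    rw [h0, Subgroup.upperCentralSeries_zero, bot_inf_eq] at hn1
    exact hn1 rfl
  obtain ⟨m, hm⟩ := Nat.exists_eq_succ_of_ne_zero hn0
  have hmin : Subgroup.upperCentralSeries K m ⊓ N = ⊥ := by
    by_contra h
    have := Nat.find_min' hex h
    omega
  obtain ⟨⟨x, hx⟩, hx1'⟩ := (Subgroup.ne_bot_iff_exists_ne_one).mp hn1
  have hx1 : x ≠ 1 := fun h => hx1' (Subtype.ext h)
  intro hbot
  apply hx1
  have hxc : x ∈ Subgroup.center K := by
    rw [Subgroup.mem_center_iff]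
    intro y
    have h1 : ⁅x, y⁆ ∈ Subgroup.upperCentralSeries K m := by
      have hx' := hx.1
      rw [hm] at hx'
      exact (Subgroup.mem_upperCentralSeries_succ_iff.mp hx') y
    have h2 : ⁅x, y⁆ ∈ N := by
      rw [commutatorElement_def]
      have : x * y * x⁻¹ * y⁻¹ = x * (y * x⁻¹ * y⁻¹) := by group
      rw [this]
      exact N.mul_mem hx.2 (Subgroup.Normal.conj_mem inferInstance _ (N.inv_mem hx.2) y)
    have h3 : ⁅x, y⁆ ∈ Subgroup.upperCentralSeries K m ⊓ N := ⟨h1, h2⟩
    rw [hmin, Subgroup.mem_bot, commutatorElement_def] at h3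
    have : y * x = x * y := by
      have h4 : x * y = (x * y * x⁻¹ * y⁻¹) * (y * x) := by group
      rw [h4, h3, one_mul]
    exact this
  have : x ∈ Subgroup.center K ⊓ N := ⟨hxc, hx.2⟩
  rw [hbot, Subgroup.mem_bot] at this
  exact this

/-- (A4) A nonabelian finite nilpotent group has a nonidentity central element in its commutator subgroup. -/
theorem nilpotent_center_inf_commutator_ne_bot {K : Type*} [Group K] [Finite K] [Group.IsNilpotent K]
    (hna : ¬ ∀ a b : K, a * b = b * a) : Subgroup.center K ⊓ commutator K ≠ ⊥ := by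
  apply center_inf_normal_ne_bot
  intro h
  apply hna
  intro a b
  have h1 : ⁅a, b⁆ ∈ commutator K := by
    rw [commutator_def]
    exact Subgroup.commutator_mem_commutator (Subgroup.mem_top a) (Subgroup.mem_top b)
  rw [h, Subgroup.mem_bot, commutatorElement_def] at h1
  have h4 : a * b = (a * b * a⁻¹ * b⁻¹) * (b * a) := by group
  rw [h4, h1, one_mul]

end Cfsg.Agent.Helper83.FrobAbs
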