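import Mathlib

/-!
Counting lemma (B3) requested by helper82 (board msg 1553) for Sibley S1524.
-/

set_option autoImplicit false

namespace Cfsg.Agent.Helper83.SibleyAux

open scoped BigOperators

/-- the fibre of `x ↦ x z x⁻¹` on `L` over a point `x₀ z x₀⁻¹` is a coset of `C_L(z)` -/
theorem card_fiber_conj {G : Type*} [Group G] (L : Subgroup G) (z : G) (x₀ : L) :
    Nat.card {x : L // (x : G) * z * (x : G)⁻¹ = (x₀ : G) * z * (x₀ : G)⁻¹} =
      Nat.card ↥(L ⊓ Subgroup.centralizer ({z} : Set G)) := by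
  apply Nat.card_congr
  refine
    { toFun := fun x => ⟨(x₀ : G)⁻¹ * (x.1 : G), ⟨L.mul_mem (L.inv_mem x₀.2) x.1.2, ?_⟩⟩
      invFun := fun c => ⟨⟨(x₀ : G) * (c : G), L.mul_mem x₀.2 c.2.1⟩, ?_⟩
      left_inv := ?_
      right_inv := ?_ }
  · refine Subgroup.mem_centralizer_iff.mpr ?_
    intro t ht
    rw [Set.mem_singleton_iff] at ht
    subst ht
    have h := x.2
    calc t * ((x₀ : G)⁻¹ * (x.1 : G))
        = (x₀ : G)⁻¹ * ((x₀ : G) * t * (x₀ : G)⁻¹) * (x.1 : G) := by group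
      _ = (x₀ : G)⁻¹ * ((x.1 : G) * t * (x.1 : G)⁻¹) * (x.1 : G) := by rw [h]
      _ = (x₀ : G)⁻¹ * (x.1 : G) * t := by group
  · have hc : z * (c : G) = (c : G) * z :=
      Subgroup.mem_centralizer_iff.mp c.2.2 z (Set.mem_singleton z)
    show (x₀ : G) * (c : G) * z * ((x₀ : G) * (c : G))⁻¹ = (x₀ : G) * z * (x₀ : G)⁻¹
    calc (x₀ : G) * (c : G) * z * ((x₀ : G) * (c : G))⁻¹
        = (x₀ : G) * ((c : G) * z) * (c : G)⁻¹ * (x₀ : G)⁻¹ := by group
      _ = (x₀ : G) * (z * (c : G)) * (c : G)⁻¹ * (x₀ : G)⁻¹ := by rw [hc]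
      _ = (x₀ : G) * z * (x₀ : G)⁻¹ := by group
  · intro x
    apply Subtype.ext
    apply Subtype.ext
    show (x₀ : G) * ((x₀ : G)⁻¹ * (x.1 : G)) = (x.1 : G)
    group
  · intro c
    apply Subtype.ext
    show (x₀ : G)⁻¹ * ((x₀ : G) * (c : G)) = (c : G)
    group

/-- (B3) summing `F` over the `L`-conjugates `x z x⁻¹`, `x ∈ L`, counts each element of the `L`-class of `z`
exactly `|C_L(z)|` times. -/
theorem sum_conj_eq_card_mul {G : Type*} [Group G] [Fintype G] (L : Subgroup G) [Fintype L] (z : G)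
    (F : G → ℂ) [DecidablePred fun y : G => ∃ x ∈ L, x * z * x⁻¹ = y] :
    ∑ x : L, F ((x : G) * z * (x : G)⁻¹) =
      (Nat.card ↥(L ⊓ Subgroup.centralizer ({z} : Set G)) : ℂ) *
        ∑ y : G, if (∃ x ∈ L, x * z * x⁻¹ = y) then F y else 0 := by
  classical
  rw [← Finset.sum_fiberwise (s := (Finset.univ : Finset L))
    (g := fun x : L => (x : G) * z * (x : G)⁻¹) (f := fun x : L => F ((x : G) * z * (x : G)⁻¹)),
    Finset.mul_sum]
  apply Finset.sum_congr rfl
  intro y _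
  have h1 : ∑ x ∈ (Finset.univ : Finset L).filter (fun x : L => (x : G) * z * (x : G)⁻¹ = y),
      F ((x : G) * z * (x : G)⁻¹) =
      (((Finset.univ : Finset L).filter (fun x : L => (x : G) * z * (x : G)⁻¹ = y)).card : ℂ) * F y := by
    rw [Finset.sum_congr rfl (g := fun _ => F y)]
    · rw [Finset.sum_const, nsmul_eq_mul]
    · intro x hx
      rw [(Finset.mem_filter.mp hx).2]
  rw [h1]
  by_cases hy : ∃ x ∈ L, x * z * x⁻¹ = y
  · rw [if_pos hy]
    obtain ⟨x₀, hx₀L, hx₀⟩ := hy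
    congr 1
    have h2 : ((Finset.univ : Finset L).filter (fun x : L => (x : G) * z * (x : G)⁻¹ = y)).card =
        Nat.card {x : L // (x : G) * z * (x : G)⁻¹ = ((⟨x₀, hx₀L⟩ : L) : G) * z * ((⟨x₀, hx₀L⟩ : L) : G)⁻¹} := by
      rw [Nat.card_eq_fintype_card, Fintype.card_subtype]
      congr 1
      ext x
      simp only [Finset.mem_filter, Finset.mem_univ, true_and]
      rw [hx₀]
    rw [h2, card_fiber_conj]
  · rw [if_neg hy, mul_zero]
    have h2 : ((Finset.univ : Finset L).filter (fun x : L => (x : G) * z * (x : G)⁻¹ = y)) = ∅ := by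
      rw [Finset.filter_eq_empty_iff]
      intro x _ hx
      exact hy ⟨x, x.2, hx⟩
    rw [h2, Finset.card_empty, Nat.cast_zero, zero_mul]

end Cfsg.Agent.Helper83.SibleyAux
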