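import Mathlib
import Cfsg.Prelude.Def_Solvable

set_option autoImplicit false

namespace Cfsg.Agent.Helper83

open Cfsg

variable {G : Type*} [Group G]

theorem pCore_normal83 (p : ℕ) : (Cfsg.pCore p G).Normal :=
  Subgroup.sSup_normal _ (fun _ h => h.1)

theorem pCore_isPGroup83 [Finite G] (p : ℕ) [Fact p.Prime] : IsPGroup p (Cfsg.pCore p G) := by
  -- a maximal normal p-subgroup contains all of them
  obtain ⟨M, hMS, hM⟩ := Set.exists_max_image {N : Subgroup G | N.Normal ∧ IsPGroup p N}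
    (fun A : Subgroup G => Nat.card A) (Set.toFinite _) ⟨⊥, inferInstance, IsPGroup.of_bot⟩
  have hle : ∀ N ∈ {N : Subgroup G | N.Normal ∧ IsPGroup p N}, N ≤ M := by
    rintro N ⟨hN, hN'⟩
    have := hN
    have := hMS.1
    have h1 : N ⊔ M ∈ {N : Subgroup G | N.Normal ∧ IsPGroup p N} :=
      ⟨inferInstance, hN'.to_sup_of_normal_right hMS.2⟩
    have h2 : Nat.card ↥(N ⊔ M) ≤ Nat.card M := hM _ h1
    have h3 : M = N ⊔ M := Subgroup.eq_of_le_of_card_ge le_sup_right h2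
    rw [h3]
    exact le_sup_left
  have : Cfsg.pCore p G = M := le_antisymm (sSup_le hle) (le_sSup hMS)
  rw [this]
  exact hMS.2

theorem exists_orderOf_eq_two_pow_of_mem_pCore [Finite G] {x : G} (hx : x ∈ Cfsg.pCore 2 G) :
    ∃ k : ℕ, orderOf x = 2 ^ k := by
  have : Fact (Nat.Prime 2) := ⟨Nat.prime_two⟩
  obtain ⟨k, hk⟩ := (pCore_isPGroup83 (G := G) 2) ⟨x, hx⟩
  have hk' : x ^ 2 ^ k = 1 := by
    have := congrArg Subtype.val hk
    simpa using this
  have := orderOf_dvd_of_pow_eq_one hk'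
  obtain ⟨j, _, hj⟩ := (Nat.dvd_prime_pow Nat.prime_two).1 this
  exact ⟨j, hj⟩

end Cfsg.Agent.Helper83
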