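import Mathlib
import Cfsg.Agent.Lib.Helper83.PCore
import Cfsg.Agent.Lib.Helper86.ChainStabilizer

set_option autoImplicit false

/-!
# `p`-automorphisms and invariant chains with factors of order `p`

If `A ≤ Aut(H)` leaves invariant a chain of normal subgroups of the `p`-group `H` with all
factors of order `p`, then every `p`-element of `A` lies in `O_p(A)`; hence no quotient `A/N`
can have trivial `O_p` and order divisible by `p`.
-/

namespace Cfsg.Agent.Helper83

section quotient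

variable {L : Type*} [Group L] {p : ℕ} [hp : Fact p.Prime]

/-- A `p`-automorphism acts trivially on an invariant quotient of order `p`. -/
theorem inv_mul_apply_mem_of_index_prime (K : Subgroup L) [K.Normal] (hK : K.index = p)
    (τ : MulAut L) (hτK : K.map (τ : L →* L) = K) {n : ℕ} (hτ : τ ^ p ^ n = 1) (x : L) :
    x⁻¹ * τ x ∈ K := by
  have hcard : Nat.card (L ⧸ K) = p := hK
  haveI : Finite (L ⧸ K) := Nat.finite_of_card_ne_zero (by rw [hcard]; exact hp.out.ne_zero)
  haveI : IsCyclic (L ⧸ K) := isCyclic_of_prime_card hcard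
  set τ' : MulAut (L ⧸ K) := QuotientGroup.congr K K τ hτK with hτ'
  have key : ∀ j : ℕ, ∀ y : L, (τ' ^ j) (QuotientGroup.mk y) = QuotientGroup.mk ((τ ^ j) y) := by
    intro j
    induction j with
    | zero => intro y; simp
    | succ j ih =>
      intro y
      rw [pow_succ', MulAut.mul_apply, ih, pow_succ', MulAut.mul_apply]
      rfl
  have h1 : τ' ^ p ^ n = 1 := by
    ext q
    induction q using QuotientGroup.induction_on with
    | H y => rw [key, hτ]; rfl
  have h2 : orderOf τ' ∣ p ^ n := orderOf_dvd_of_pow_eq_one h1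
  have h3 : orderOf τ' ∣ p - 1 := by
    have h4 := IsCyclic.card_mulAut (L ⧸ K)
    rw [hcard, Nat.totient_prime hp.out] at h4
    rw [← h4]
    exact orderOf_dvd_natCard τ'
  have hcop : Nat.Coprime (p ^ n) (p - 1) := by
    apply Nat.Coprime.pow_left
    rw [Nat.Prime.coprime_iff_not_dvd hp.out]
    intro hd
    have h5 : 0 < p - 1 := by have := hp.out.two_le; omega
    have := Nat.le_of_dvd h5 hd
    have := hp.out.two_le
    omega
  have h6 : orderOf τ' = 1 := Nat.eq_one_of_dvd_coprimes hcop h2 h3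
  have h7 : τ' = 1 := orderOf_eq_one_iff.1 h6
  have h8 := key 1 x
  rw [pow_one, pow_one, h7, MulAut.one_apply] at h8
  exact QuotientGroup.eq.1 h8

end quotient

section restrict

variable {H : Type*} [Group H]

/-- restriction of an automorphism to an invariant subgroup -/
def resAut (σ : MulAut H) (L : Subgroup H) (h1 : ∀ x ∈ L, σ x ∈ L) (h2 : ∀ x ∈ L, σ⁻¹ x ∈ L) :
    MulAut L where
  toFun x := ⟨σ x, h1 x x.2⟩
  invFun x := ⟨σ⁻¹ x, h2 x x.2⟩
  left_inv x := by apply Subtype.ext; simp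
  right_inv x := by apply Subtype.ext; simp
  map_mul' x y := by apply Subtype.ext; simp

theorem resAut_apply (σ : MulAut H) (L : Subgroup H) (h1 : ∀ x ∈ L, σ x ∈ L)
    (h2 : ∀ x ∈ L, σ⁻¹ x ∈ L) (x : L) : ((resAut σ L h1 h2 x : L) : H) = σ x := rfl

theorem resAut_symm_apply (σ : MulAut H) (L : Subgroup H) (h1 : ∀ x ∈ L, σ x ∈ L)
    (h2 : ∀ x ∈ L, σ⁻¹ x ∈ L) (x : L) : (((resAut σ L h1 h2)⁻¹ x : L) : H) = σ⁻¹ x := rfl

theorem resAut_pow_apply (σ : MulAut H) (L : Subgroup H) (h1 : ∀ x ∈ L, σ x ∈ L)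
    (h2 : ∀ x ∈ L, σ⁻¹ x ∈ L) (j : ℕ) (x : L) :
    ((((resAut σ L h1 h2) ^ j) x : L) : H) = (σ ^ j) x := by
  induction j generalizing x with
  | zero => simp
  | succ j ih =>
    rw [pow_succ', MulAut.mul_apply, resAut_apply, ih, pow_succ', MulAut.mul_apply]

variable {p : ℕ} [hp : Fact p.Prime]

/-- A `p`-automorphism acts trivially on an invariant section of order `p`. -/
theorem inv_mul_apply_mem_of_relIndex_prime (K L : Subgroup H) [K.Normal]
    (hidx : K.relIndex L = p) (σ : MulAut H)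
    (hK1 : ∀ x ∈ K, σ x ∈ K) (hK2 : ∀ x ∈ K, σ⁻¹ x ∈ K)
    (hL1 : ∀ x ∈ L, σ x ∈ L) (hL2 : ∀ x ∈ L, σ⁻¹ x ∈ L)
    {n : ℕ} (hσ : σ ^ p ^ n = 1) : ∀ x ∈ L, x⁻¹ * σ x ∈ K := by
  intro x hx
  set τ := resAut σ L hL1 hL2 with hτ
  have hmap : (K.subgroupOf L).map (τ : L →* L) = K.subgroupOf L := by
    ext y
    constructor
    · rintro ⟨z, hz, rfl⟩
      rw [SetLike.mem_coe, Subgroup.mem_subgroupOf] at hz
      rw [Subgroup.mem_subgroupOf]
      exact hK1 _ hz
    · intro hy
      refine ⟨τ⁻¹ y, ?_, ?_⟩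
      · rw [Subgroup.mem_subgroupOf] at hy
        rw [SetLike.mem_coe, Subgroup.mem_subgroupOf]
        exact hK2 _ hy
      · show τ (τ⁻¹ y) = y
        simp
  have hpow : τ ^ p ^ n = 1 := by
    ext y
    rw [resAut_pow_apply, hσ]
    rfl
  have := inv_mul_apply_mem_of_index_prime (K.subgroupOf L) hidx τ hmap hpow ⟨x, hx⟩
  rw [Subgroup.mem_subgroupOf] at this
  exact this

end restrict

section chain

variable {H : Type*} [Group H] [Finite H] {p : ℕ} [hp : Fact p.Prime]

/-- If `A ≤ Aut(H)` leaves invariant a chain of normal subgroups with factors of order `p`, then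
no quotient of `A` has trivial `O_p` and order divisible by `p`. -/
theorem false_of_invariant_chain (hH : IsPGroup p H) (A : Subgroup (MulAut H)) (N : Subgroup A)
    [N.Normal] (hOp : ∀ M : Subgroup (A ⧸ N), M.Normal → IsPGroup p M → M = ⊥)
    (hdvd : p ∣ Nat.card (A ⧸ N))
    (D : ℕ → Subgroup H) (m : ℕ) (h0 : D 0 = ⊤) (hm : D m = ⊥)
    (hnorm : ∀ k, (D k).Normal) (hidx : ∀ k < m, (D (k + 1)).relIndex (D k) = p)
    (hinv : ∀ k, ∀ α ∈ A, ∀ x ∈ D k, α x ∈ D k) : False := by
  -- every `p`-element of `A` lies in `O_p(A)`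
  have h1 : ∀ σ : A, ∀ n : ℕ, σ ^ p ^ n = 1 → σ ∈ Cfsg.pCore p A := by
    intro σ n hσ
    have hσ' : (σ : MulAut H) ^ p ^ n = 1 := congrArg Subtype.val hσ
    have := Cfsg.Agent.Helper86.chain_stabilizer_mem_pCore hH A D m h0 hm hinv (σ : MulAut H) σ.2
      (by
        intro k hk x hx
        have := hnorm (k + 1)
        exact inv_mul_apply_mem_of_relIndex_prime (D (k + 1)) (D k) (hidx k hk) (σ : MulAut H)
          (hinv (k + 1) _ σ.2) (hinv (k + 1) _ (A.inv_mem σ.2))
          (hinv k _ σ.2) (hinv k _ (A.inv_mem σ.2)) hσ' x hx)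
    exact this
  -- `O_p(A) ≤ N`
  have h2 : Cfsg.pCore p A ≤ N := by
    have := pCore_normal83 (G := A) p
    have hn : ((Cfsg.pCore p A).map (QuotientGroup.mk' N)).Normal :=
      Subgroup.Normal.map inferInstance _ (QuotientGroup.mk'_surjective N)
    have hpg : IsPGroup p ((Cfsg.pCore p A).map (QuotientGroup.mk' N)) :=
      (pCore_isPGroup83 (G := A) p).map _
    have := hOp _ hn hpg
    rw [Subgroup.map_eq_bot_iff, QuotientGroup.ker_mk'] at this
    exact this
  -- an element of order `p` in the quotient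
  obtain ⟨x, hx⟩ := exists_prime_orderOf_dvd_card' p hdvd
  induction x using QuotientGroup.induction_on with
  | H a =>
    have hpos : orderOf a ≠ 0 := (orderOf_pos a).ne'
    obtain ⟨e, m', hm', hem⟩ := Nat.exists_eq_pow_mul_and_not_dvd hpos p hp.out.ne_one
    have h3 : (a ^ m') ^ p ^ e = 1 := by
      rw [← pow_mul, mul_comm, ← hem]
      exact pow_orderOf_eq_one a
    have h4 : a ^ m' ∈ N := h2 (h1 _ e h3)
    have h5 : ((a : A) : A ⧸ N) ^ m' = 1 := by
      rw [← QuotientGroup.mk_pow, QuotientGroup.eq_one_iff]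
      exact h4
    have h6 : p ∣ m' := by
      rw [← hx]
      exact orderOf_dvd_of_pow_eq_one h5
    exact hm' h6

end chain

end Cfsg.Agent.Helper83
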