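import Mathlib
import Cfsg.Prelude.Def_Transfer
import Cfsg.Agent.Lib.Helper83.ChainP
import Cfsg.Agent.Lib.Helper83.ElemAbSL2
import Cfsg.Agent.Lib.Helper47.Frat
import Cfsg.Agent.S0012
import Cfsg.Agent.S0016
import Cfsg.Agent.Lib.Helper51.ExtraP3

set_option autoImplicit false

/-!
# Groups of order `p³` with a group of automorphisms `A` such that some quotient `A/N` has
trivial `O_p` and order divisible by `p`
-/

namespace Cfsg.Agent.Helper83

open scoped commutatorElement

section basics

variable {H : Type*} [Group H]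

theorem relIndex_mul_card_of_le {X Y : Subgroup H} (h : Y ≤ X) :
    Nat.card Y * Y.relIndex X = Nat.card X := by
  have := Subgroup.relIndex_mul_relIndex ⊥ Y X bot_le h
  rwa [Subgroup.relIndex_bot_left, Subgroup.relIndex_bot_left] at this

theorem normal_of_forall_comm (hcomm : ∀ a b : H, a * b = b * a) (K : Subgroup H) : K.Normal :=
  ⟨fun n hn g => by rw [hcomm g n, mul_inv_cancel_right]; exact hn⟩

/-- a subgroup invariant under all inner automorphisms is normal -/
theorem normal_of_forall_aut (K : Subgroup H) (h : ∀ α : MulAut H, ∀ x ∈ K, α x ∈ K) : K.Normal :=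
  ⟨fun n hn g => by
    have := h (MulAut.conj g) n hn
    simpa [MulAut.conj_apply] using this⟩

end basics

section two

variable {H : Type*} [Group H] [Finite H] {p : ℕ} [hp : Fact p.Prime]

/-- the chain `⊤ > X > Y > ⊥` -/
def chain4 (X Y : Subgroup H) : ℕ → Subgroup H
  | 0 => ⊤
  | 1 => X
  | 2 => Y
  | _ => ⊥

theorem false_of_two_invariant (hcard : Nat.card H = p ^ 3)
    (A : Subgroup (MulAut H)) (N : Subgroup A)
    [N.Normal] (hOp : ∀ M : Subgroup (A ⧸ N), M.Normal → IsPGroup p M → M = ⊥)
    (hdvd : p ∣ Nat.card (A ⧸ N))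
    (X Y : Subgroup H) (hXn : X.Normal) (hYn : Y.Normal) (hX : Nat.card X = p ^ 2)
    (hY : Nat.card Y = p) (hYX : Y ≤ X)
    (hXinv : ∀ α ∈ A, ∀ x ∈ X, α x ∈ X) (hYinv : ∀ α ∈ A, ∀ x ∈ Y, α x ∈ Y) : False := by
  have hH : IsPGroup p H := IsPGroup.of_card hcard
  have hp0 : 0 < p := hp.out.pos
  apply false_of_invariant_chain hH A N hOp hdvd (chain4 X Y) 3 rfl rfl
  · intro k
    match k with
    | 0 => exact (inferInstance : (⊤ : Subgroup H).Normal)
    | 1 => exact hXn
    | 2 => exact hYn
    | (k + 3) => exact (inferInstance : (⊥ : Subgroup H).Normal)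
  · intro k hk
    match k, hk with
    | 0, _ =>
      show X.relIndex ⊤ = p
      rw [Subgroup.relIndex_top_right]
      have := Subgroup.card_mul_index X
      rw [hX, hcard] at this
      have h2 : p ^ 2 * X.index = p ^ 2 * p := by rw [this]; ring
      exact Nat.eq_of_mul_eq_mul_left (pow_pos hp0 2) h2
    | 1, _ =>
      show Y.relIndex X = p
      have := relIndex_mul_card_of_le hYX
      rw [hX, hY] at this
      have h2 : p * Y.relIndex X = p * p := by rw [this]; ring
      exact Nat.eq_of_mul_eq_mul_left hp0 h2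
    | 2, _ =>
      show (⊥ : Subgroup H).relIndex Y = p
      rw [Subgroup.relIndex_bot_left, hY]
  · intro k α hα x hx
    match k with
    | 0 => exact Subgroup.mem_top _
    | 1 => exact hXinv α hα x hx
    | 2 => exact hYinv α hα x hx
    | (k + 3) =>
      have : x = 1 := hx
      rw [this, map_one]
      exact Subgroup.one_mem _

end two

section abelian

variable {H : Type*} [Group H] [Finite H] {p : ℕ} [hp : Fact p.Prime]

/-- the `p`-th power endomorphism of a commutative group -/
def powHom (hcomm : ∀ a b : H, a * b = b * a) (p : ℕ) : H →* H :=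
  MonoidHom.mk' (fun x => x ^ p) (fun a b => (Commute.mul_pow (hcomm a b) p))

theorem powHom_apply (hcomm : ∀ a b : H, a * b = b * a) (p : ℕ) (x : H) :
    powHom hcomm p x = x ^ p := rfl

/-- An abelian group of order `p³` that is not elementary abelian does not admit `A`. -/
theorem false_of_abelian_p3 (hcard : Nat.card H = p ^ 3)
    (hcomm : ∀ a b : H, a * b = b * a) (hne : ∃ x : H, x ^ p ≠ 1)
    (A : Subgroup (MulAut H)) (N : Subgroup A)
    [N.Normal] (hOp : ∀ M : Subgroup (A ⧸ N), M.Normal → IsPGroup p M → M = ⊥)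
    (hdvd : p ∣ Nat.card (A ⧸ N)) : False := by
  have hpp := hp.out
  set φ := powHom hcomm p with hφ
  have hmul : Nat.card φ.ker * Nat.card φ.range = p ^ 3 := by
    rw [← Subgroup.index_ker, Subgroup.card_mul_index, hcard]
  have hker : ∀ x : H, x ∈ φ.ker ↔ x ^ p = 1 := fun x => MonoidHom.mem_ker
  have hrange : ∀ x : H, x ∈ φ.range ↔ ∃ y : H, y ^ p = x := fun x => MonoidHom.mem_range
  have hkinv : ∀ α : MulAut H, ∀ x ∈ φ.ker, α x ∈ φ.ker := by
    intro α x hx
    rw [hker] at hx ⊢
    rw [← map_pow, hx, map_one]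
  have hrinv : ∀ α : MulAut H, ∀ x ∈ φ.range, α x ∈ φ.range := by
    intro α x hx
    rw [hrange] at hx ⊢
    obtain ⟨y, rfl⟩ := hx
    exact ⟨α y, (map_pow α y p).symm⟩
  have hkbot : φ.ker ≠ ⊥ := by
    have hd : p ∣ Nat.card H := by rw [hcard]; exact dvd_pow_self p (by norm_num)
    obtain ⟨x, hx⟩ := exists_prime_orderOf_dvd_card' p hd
    intro h
    have h1 : x ∈ φ.ker := by rw [hker, ← hx]; exact pow_orderOf_eq_one x
    rw [h, Subgroup.mem_bot] at h1
    rw [h1, orderOf_one] at hx
    exact hpp.one_lt.ne hx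
  have hktop : φ.ker ≠ ⊤ := by
    obtain ⟨x, hx⟩ := hne
    intro h
    apply hx
    rw [← hker, h]
    exact Subgroup.mem_top _
  obtain ⟨a, ha3, ha⟩ := (Nat.dvd_prime_pow hpp).1 (Dvd.intro _ hmul)
  have ha0 : a ≠ 0 := by
    rintro rfl
    rw [pow_zero] at ha
    exact hkbot (Subgroup.eq_bot_of_card_eq _ ha)
  have ha3' : a ≠ 3 := by
    rintro rfl
    apply hktop
    apply Subgroup.eq_top_of_card_eq
    rw [ha, hcard]
  have hnK : ∀ K : Subgroup H, K.Normal := normal_of_forall_comm hcomm
  have ha12 : a = 1 ∨ a = 2 := by omega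
  rcases ha12 with rfl | rfl
  · -- `|Ω| = p`, `|℧| = p²`
    rw [pow_one] at ha
    have hr : Nat.card φ.range = p ^ 2 := by
      rw [ha] at hmul
      have h2 : p * Nat.card φ.range = p * p ^ 2 := by rw [hmul]; ring
      exact Nat.eq_of_mul_eq_mul_left hpp.pos h2
    have hle : φ.ker ≤ φ.range := by
      have hd : p ∣ Nat.card φ.range := by rw [hr]; exact dvd_pow_self p (by norm_num)
      obtain ⟨y, hy⟩ := exists_prime_orderOf_dvd_card' p hd
      have hy' : orderOf (y : H) = p := by rw [Subgroup.orderOf_coe]; exact hy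
      have h1 : Subgroup.zpowers (y : H) ≤ φ.ker := by
        rw [Subgroup.zpowers_le, hker, ← hy']
        exact pow_orderOf_eq_one _
      have h2 : Subgroup.zpowers (y : H) = φ.ker := by
        apply Subgroup.eq_of_le_of_card_ge h1
        rw [ha, Nat.card_zpowers, hy']
      rw [← h2, Subgroup.zpowers_le]
      exact y.2
    exact false_of_two_invariant hcard A N hOp hdvd φ.range φ.ker (hnK _) (hnK _) hr ha hle
      (fun α _ => hrinv α) (fun α _ => hkinv α)
  · -- `|Ω| = p²`, `|℧| = p`
    have hr : Nat.card φ.range = p := by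
      rw [ha] at hmul
      have h2 : p ^ 2 * Nat.card φ.range = p ^ 2 * p := by rw [hmul]; ring
      exact Nat.eq_of_mul_eq_mul_left (pow_pos hpp.pos 2) h2
    have hle : φ.range ≤ φ.ker := by
      intro y hy
      rw [hker]
      have : (⟨y, hy⟩ : φ.range) ^ p = 1 := by
        rw [← hr]; exact pow_card_eq_one'
      exact congrArg Subtype.val this
    exact false_of_two_invariant hcard A N hOp hdvd φ.ker φ.range (hnK _) (hnK _) ha hr hle
      (fun α _ => hkinv α) (fun α _ => hrinv α)

end abelian

section nonabelian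

variable {H : Type*} [Group H] [Finite H] {p : ℕ} [hp : Fact p.Prime]

theorem card_center_of_nonabelian_p3 (hcard : Nat.card H = p ^ 3)
    (hna : ∃ a b : H, a * b ≠ b * a) : Nat.card (Subgroup.center H) = p := by
  have hpp := hp.out
  have hH : IsPGroup p H := IsPGroup.of_card hcard
  haveI : Nontrivial H := by
    obtain ⟨a, b, hab⟩ := hna
    refine ⟨a, 1, ?_⟩
    rintro rfl
    simp at hab
  have hZ1 : Subgroup.center H ≠ ⊥ := (hH.bot_lt_center).ne'
  have hZ2 : Subgroup.center H ≠ ⊤ := by
    intro h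
    obtain ⟨a, b, hab⟩ := hna
    apply hab
    have : a ∈ Subgroup.center H := h ▸ Subgroup.mem_top a
    exact ((Subgroup.mem_center_iff.1 this) b).symm
  obtain ⟨k, hk3, hk⟩ := (Nat.dvd_prime_pow hpp).1
    (hcard ▸ Subgroup.card_subgroup_dvd_card (Subgroup.center H))
  have hk0 : k ≠ 0 := by
    rintro rfl
    rw [pow_zero] at hk
    exact hZ1 (Subgroup.eq_bot_of_card_eq _ hk)
  have hk3' : k ≠ 3 := by
    rintro rfl
    apply hZ2
    apply Subgroup.eq_top_of_card_eq
    rw [hk, hcard]
  have hk2 : k ≠ 2 := by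
    rintro rfl
    have h1 := Subgroup.card_mul_index (Subgroup.center H)
    rw [hk, hcard] at h1
    have h2 : p ^ 2 * (Subgroup.center H).index = p ^ 2 * p := by rw [h1]; ring
    have h3 : (Subgroup.center H).index = p := Nat.eq_of_mul_eq_mul_left (pow_pos hpp.pos 2) h2
    have h4 : Nat.card (H ⧸ Subgroup.center H) = p := h3
    haveI : IsCyclic (H ⧸ Subgroup.center H) := isCyclic_of_prime_card h4
    obtain ⟨a, b, hab⟩ := hna
    apply hab
    exact commutative_of_cyclic_center_quotient (QuotientGroup.mk' (Subgroup.center H))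
      (by rw [QuotientGroup.ker_mk']) a b
  have : k = 1 := by omega
  rw [this, pow_one] at hk
  exact hk

theorem card_quot_center_of_nonabelian_p3 (hcard : Nat.card H = p ^ 3)
    (hna : ∃ a b : H, a * b ≠ b * a) : Nat.card (H ⧸ Subgroup.center H) = p ^ 2 := by
  have h1 := Subgroup.card_mul_index (Subgroup.center H)
  rw [card_center_of_nonabelian_p3 hcard hna, hcard] at h1
  have h2 : p * (Subgroup.center H).index = p * p ^ 2 := by rw [h1]; ring
  exact Nat.eq_of_mul_eq_mul_left hp.out.pos h2

theorem isExtraspecial_of_nonabelian_p3 (hcard : Nat.card H = p ^ 3)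
    (hna : ∃ a b : H, a * b ≠ b * a) : Cfsg.IsExtraspecial p H := by
  have hpp := hp.out
  have hH : IsPGroup p H := IsPGroup.of_card hcard
  have hZ := card_center_of_nonabelian_p3 hcard hna
  have hq := card_quot_center_of_nonabelian_p3 hcard hna
  have hqc : ∀ a b : H ⧸ Subgroup.center H, a * b = b * a := fun a b =>
    (IsPGroup.isMulCommutative_of_card_eq_prime_sq hq).is_comm.comm a b
  have hnc : ¬ IsCyclic (H ⧸ Subgroup.center H) := by
    intro hc
    obtain ⟨a, b, hab⟩ := hna
    apply hab
    exact commutative_of_cyclic_center_quotient (QuotientGroup.mk' (Subgroup.center H))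
      (by rw [QuotientGroup.ker_mk']) a b
  have hqe : ∀ x : H ⧸ Subgroup.center H, x ^ p = 1 := pow_prime_eq_one_of_card_sq hq hnc
  have hle : commutator H ≤ Subgroup.center H := by
    rw [commutator_eq_closure, Subgroup.closure_le]
    rintro _ ⟨x, y, rfl⟩
    rw [SetLike.mem_coe, ← QuotientGroup.eq_one_iff]
    have : ((⁅x, y⁆ : H) : H ⧸ Subgroup.center H) =
        ⁅(x : H ⧸ Subgroup.center H), (y : H ⧸ Subgroup.center H)⁆ :=
      map_commutatorElement (QuotientGroup.mk' (Subgroup.center H)) x y
    rw [this, commutatorElement_eq_one_iff_mul_comm]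
    exact hqc _ _
  have hcne : commutator H ≠ ⊥ := by
    intro h
    obtain ⟨a, b, hab⟩ := hna
    apply hab
    rw [← commutatorElement_eq_one_iff_mul_comm, ← Subgroup.mem_bot, ← h, commutator_def]
    exact Subgroup.commutator_mem_commutator (Subgroup.mem_top a) (Subgroup.mem_top b)
  have hcomm : commutator H = Subgroup.center H := by
    have hd : Nat.card (commutator H) ∣ p := hZ ▸ Subgroup.card_dvd_of_le hle
    rcases (Nat.dvd_prime hpp).1 hd with h1 | h1
    · exact absurd (Subgroup.eq_bot_of_card_eq _ h1) hcne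
    · apply Subgroup.eq_of_le_of_card_ge hle
      rw [hZ, h1]
  refine ⟨⟨hH, ?_, hcomm⟩, hZ⟩
  apply le_antisymm
  · have := Cfsg.Agent.Helper47.frattini_le_ker_of_elementary (p := p)
      (QuotientGroup.mk' (Subgroup.center H)) (fun x y => hqc _ _) (fun x => hqe _)
    rwa [QuotientGroup.ker_mk'] at this
  · rw [← hcomm]
    exact (Cfsg.Agent.S0012.result p hH).1

theorem map_mem_center (α : MulAut H) {z : H} (hz : z ∈ Subgroup.center H) :
    α z ∈ Subgroup.center H := by
  rw [Subgroup.mem_center_iff] at hz ⊢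
  intro g
  have h1 := hz (α⁻¹ g)
  have h2 := congrArg α h1
  simpa using h2

/-- A nonabelian group of order `p³`, `p` odd, of exponent `p²` does not admit `A`. -/
theorem false_of_nonabelian_p3_odd (hcard : Nat.card H = p ^ 3)
    (hna : ∃ a b : H, a * b ≠ b * a) (hp2 : p ≠ 2) (hne : ∃ x : H, x ^ p ≠ 1)
    (A : Subgroup (MulAut H)) (N : Subgroup A)
    [N.Normal] (hOp : ∀ M : Subgroup (A ⧸ N), M.Normal → IsPGroup p M → M = ⊥)
    (hdvd : p ∣ Nat.card (A ⧸ N)) : False := by
  have hZ := card_center_of_nonabelian_p3 hcard hna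
  have hES := isExtraspecial_of_nonabelian_p3 hcard hna
  obtain ⟨h1, h2⟩ := Cfsg.Agent.Helper63.extraspecial_hyps hES
  obtain ⟨E, hE, hEcard⟩ := Cfsg.Agent.Helper51.exists_omega (Q := (⊤ : Subgroup H)) hp2 h1 h2
    (by rw [Subgroup.card_top, hcard])
    (by obtain ⟨x, hx⟩ := hne; exact ⟨x, Subgroup.mem_top x, hx⟩)
  have hEinv : ∀ α : MulAut H, ∀ x ∈ E, α x ∈ E := by
    intro α x hx
    rw [hE] at hx ⊢
    refine ⟨Subgroup.mem_top _, ?_⟩
    rw [← map_pow, hx.2, map_one]
  have hZE : Subgroup.center H ≤ E := by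
    intro z hz
    rw [hE]
    refine ⟨Subgroup.mem_top _, ?_⟩
    have : (⟨z, hz⟩ : Subgroup.center H) ^ p = 1 := by
      rw [← hZ]; exact pow_card_eq_one'
    exact congrArg Subtype.val this
  exact false_of_two_invariant hcard A N hOp hdvd E (Subgroup.center H)
    (normal_of_forall_aut E hEinv) inferInstance hEcard hZ hZE
    (fun α _ => hEinv α) (fun α _ x hx => map_mem_center α hx)

end nonabelian

section two_group

variable {H : Type*} [Group H] [Finite H]

theorem comm_of_isCyclic83 [IsCyclic H] (a b : H) : a * b = b * a := by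
  obtain ⟨g, hg⟩ := IsCyclic.exists_generator (α := H)
  obtain ⟨m, rfl⟩ := hg a
  obtain ⟨n, rfl⟩ := hg b
  exact (Commute.zpow_zpow_self g m n)

/-- A nonabelian group of order `8` admitting `A` is the quaternion group. -/
theorem quaternion_of_nonabelian_8 (hcard : Nat.card H = 2 ^ 3)
    (hna : ∃ a b : H, a * b ≠ b * a)
    (A : Subgroup (MulAut H)) (N : Subgroup A)
    [N.Normal] (hOp : ∀ M : Subgroup (A ⧸ N), M.Normal → IsPGroup 2 M → M = ⊥)
    (hdvd : 2 ∣ Nat.card (A ⧸ N)) : Nonempty (H ≃* QuaternionGroup 2) := by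
  haveI : Fact (Nat.Prime 2) := ⟨Nat.prime_two⟩
  have hH : IsPGroup 2 H := IsPGroup.of_card hcard
  have hnc : ¬ IsCyclic H := by
    intro hc
    obtain ⟨a, b, hab⟩ := hna
    exact hab (comm_of_isCyclic83 a b)
  -- an element of order 4
  have hr : ∃ r : H, orderOf r = 4 := by
    by_contra hno
    push Not at hno
    have hsq : ∀ x : H, x * x = 1 := by
      intro x
      have hd : orderOf x ∣ 2 ^ 3 := hcard ▸ orderOf_dvd_natCard x
      obtain ⟨k, hk, hk2⟩ := (Nat.dvd_prime_pow Nat.prime_two).1 hd
      interval_cases k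
      · rw [pow_zero, orderOf_eq_one_iff] at hk2
        rw [hk2, mul_one]
      · have := pow_orderOf_eq_one x
        rw [hk2, pow_one, pow_two] at this
        exact this
      · exact absurd hk2 (hno x)
      · exfalso
        apply hnc
        exact isCyclic_of_orderOf_eq_card x (by rw [hk2, hcard])
    obtain ⟨a, b, hab⟩ := hna
    apply hab
    have hinv : ∀ x : H, x⁻¹ = x := fun x => inv_eq_of_mul_eq_one_right (hsq x)
    calc a * b = (a * b)⁻¹ := (hinv _).symm
      _ = b⁻¹ * a⁻¹ := mul_inv_rev a b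
      _ = b * a := by rw [hinv, hinv]
  obtain ⟨r, hr4⟩ := hr
  have hRcard : Nat.card (Subgroup.zpowers r) = 4 := by rw [Nat.card_zpowers, hr4]
  have hRidx : (Subgroup.zpowers r).index = 2 := by
    have := Subgroup.card_mul_index (Subgroup.zpowers r)
    rw [hRcard, hcard] at this
    omega
  have hRn : (Subgroup.zpowers r).Normal := Subgroup.normal_of_index_eq_two hRidx
  have hr4' : r ^ 4 = 1 := by rw [← hr4]; exact pow_orderOf_eq_one r
  have hr2 : r ^ 2 ≠ 1 := pow_ne_one_of_lt_orderOf (by norm_num) (by rw [hr4]; norm_num)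
  have hr1 : r ≠ 1 := by
    rintro rfl
    simp at hr4
  have hRmem : ∀ x ∈ Subgroup.zpowers r, x = 1 ∨ x = r ∨ x = r ^ 2 ∨ x = r ^ 3 := by
    intro x hx
    rw [← mem_powers_iff_mem_zpowers] at hx
    obtain ⟨n, rfl⟩ := hx
    show r ^ n = 1 ∨ r ^ n = r ∨ r ^ n = r ^ 2 ∨ r ^ n = r ^ 3
    rw [← pow_mod_orderOf r n, hr4]
    obtain ⟨i, hi⟩ : ∃ i, i = n % 4 := ⟨_, rfl⟩
    have hi4 : i < 4 := by rw [hi]; exact Nat.mod_lt _ (by norm_num)
    rw [← hi]
    interval_cases i <;> simp
  have hcommR : ∀ s ∈ Subgroup.zpowers r, s * r = r * s := by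
    intro s hs
    obtain ⟨k, rfl⟩ := hs
    exact ((Commute.refl r).zpow_left k).eq
  have ho2 : orderOf (r ^ 2) = 2 := by
    rw [orderOf_pow' _ two_ne_zero, hr4]
    norm_num
  -- `x = r` or `x = r³` do not square to one
  have hsqR : ∀ x ∈ Subgroup.zpowers r, x * x = 1 → x = 1 ∨ x = r ^ 2 := by
    intro x hx hxx
    rcases hRmem x hx with rfl | rfl | rfl | rfl
    · left; rfl
    · exfalso; apply hr2; rw [pow_two]; exact hxx
    · right; rfl
    · exfalso
      apply hr2
      have : r ^ 3 * r ^ 3 = r ^ 4 * r ^ 2 := by rw [← pow_add, ← pow_add]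
      rw [this, hr4', one_mul] at hxx
      exact hxx
  by_cases hinvs : ∀ x : H, x * x = 1 → x ∈ Subgroup.zpowers r
  · -- unique subgroup of order 2
    have huniq : ∀ K : Subgroup H, Nat.card K = 2 → K = Subgroup.zpowers (r ^ 2) := by
      intro K hK
      have hKne : K ≠ ⊥ := by
        intro h
        rw [h] at hK
        simp at hK
      obtain ⟨a, ha⟩ := (Subgroup.ne_bot_iff_exists_ne_one).1 hKne
      obtain ⟨x, hxK, hx1⟩ : ∃ x : H, x ∈ K ∧ x ≠ 1 :=
        ⟨(a : H), a.2, fun h => ha (Subtype.ext h)⟩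
      have hxx : x * x = 1 := by
        have : (⟨x, hxK⟩ : K) ^ 2 = 1 := by rw [← hK]; exact pow_card_eq_one'
        have := congrArg Subtype.val this
        simpa [pow_two] using this
      rcases hsqR x (hinvs x hxx) hxx with rfl | rfl
      · exact absurd rfl hx1
      · symm
        apply Subgroup.eq_of_le_of_card_ge
        · rw [Subgroup.zpowers_le]; exact hxK
        · rw [hK, Nat.card_zpowers, ho2]
    have h16 := Cfsg.Agent.S0016.result 2 hH
      (fun K₁ K₂ h1 h2 => (huniq K₁ h1).trans (huniq K₂ h2).symm)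
    rcases h16 with hc | ⟨-, n, ⟨e⟩⟩
    · exact absurd hc hnc
    · have h1 : Nat.card H = 4 * 2 ^ n := by
        rw [Nat.card_congr e.toEquiv, Nat.card_eq_fintype_card, QuaternionGroup.card]
      rw [hcard] at h1
      have h2 : 2 ^ n = 2 ^ 1 := by omega
      have h3 : n = 1 := Nat.pow_right_injective (le_refl 2) h2
      subst h3
      exact ⟨e⟩
  · exfalso
    push Not at hinvs
    obtain ⟨t, htt, htR⟩ := hinvs
    have hZ : Nat.card (Subgroup.center H) = 2 := card_center_of_nonabelian_p3 (p := 2) hcard hna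
    -- decomposition of elements outside `R`
    have hdec : ∀ y : H, y ∉ Subgroup.zpowers r → t⁻¹ * y ∈ Subgroup.zpowers r := by
      intro y hy
      rw [Subgroup.mul_mem_iff_of_index_two hRidx, inv_mem_iff]
      exact ⟨fun h => absurd h htR, fun h => absurd h hy⟩
    have hc : t * r * t⁻¹ ∈ Subgroup.zpowers r := hRn.conj_mem r (Subgroup.mem_zpowers r) t
    have hconj : t * r * t⁻¹ = r⁻¹ := by
      rcases hRmem _ hc with h | h | h | h
      · exfalso
        apply hr1
        rwa [conj_eq_one_iff] at h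
      · -- `r` central
        exfalso
        have htr : t * r = r * t := by
          have h' := congrArg (fun w => w * t) h
          simpa [mul_assoc] using h'
        have hrc : r ∈ Subgroup.center H := by
          rw [Subgroup.mem_center_iff]
          intro g
          by_cases hg : g ∈ Subgroup.zpowers r
          · exact hcommR g hg
          · have hs := hdec g hg
            have h1 : g = t * (t⁻¹ * g) := by group
            rw [h1, mul_assoc, hcommR _ hs, ← mul_assoc, htr, mul_assoc]
        have : (⟨r, hrc⟩ : Subgroup.center H) ^ 2 = 1 := by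
          rw [← hZ]; exact pow_card_eq_one'
        exact hr2 (congrArg Subtype.val this)
      · exfalso
        apply hr2
        have h1 : (t * r * t⁻¹) ^ 2 = 1 := by
          rw [h, ← pow_mul]; exact hr4'
        rw [conj_pow, conj_eq_one_iff] at h1
        exact h1
      · rw [h]
        apply eq_inv_of_mul_eq_one_left
        rw [← pow_succ]
        exact hr4'
    have hconjR : ∀ s ∈ Subgroup.zpowers r, t * s * t⁻¹ = s⁻¹ := by
      intro s hs
      obtain ⟨k, rfl⟩ := hs
      rw [← conj_zpow, hconj, inv_zpow]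
    have hout : ∀ y : H, y ∉ Subgroup.zpowers r → y * y = 1 := by
      intro y hy
      have hs := hdec y hy
      have h1 := hconjR _ hs
      have h2 : y * y = (t * (t⁻¹ * y) * t⁻¹) * (t * t) * (t⁻¹ * y) := by group
      rw [h2, h1, htt, mul_one, inv_mul_cancel]
    have hαr : ∀ α : MulAut H, α r ∈ Subgroup.zpowers r := by
      intro α
      by_contra hnot
      have h1 := hout _ hnot
      rw [← map_mul, map_eq_one_iff α (MulEquiv.injective α)] at h1
      apply hr2
      rw [pow_two]
      exact h1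
    have hRinv : ∀ α : MulAut H, ∀ x ∈ Subgroup.zpowers r, α x ∈ Subgroup.zpowers r := by
      intro α x hx
      obtain ⟨k, rfl⟩ := hx
      rw [map_zpow]
      exact Subgroup.zpow_mem _ (hαr α) k
    have hYinv : ∀ α : MulAut H, ∀ x ∈ Subgroup.zpowers (r ^ 2),
        α x ∈ Subgroup.zpowers (r ^ 2) := by
      intro α x hx
      obtain ⟨k, rfl⟩ := hx
      rw [map_zpow, map_pow]
      apply Subgroup.zpow_mem
      rcases hRmem _ (hαr α) with h | h | h | h <;> rw [h]
      · rw [one_pow]; exact Subgroup.one_mem _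
      · exact Subgroup.mem_zpowers _
      · rw [← pow_mul]
        have : r ^ (2 * 2) = 1 := hr4'
        rw [this]; exact Subgroup.one_mem _
      · have : (r ^ 3) ^ 2 = r ^ 4 * r ^ 2 := by rw [← pow_mul, ← pow_add]
        rw [this, hr4', one_mul]
        exact Subgroup.mem_zpowers _
    have hYX : Subgroup.zpowers (r ^ 2) ≤ Subgroup.zpowers r := by
      rw [Subgroup.zpowers_le]
      exact Subgroup.pow_mem _ (Subgroup.mem_zpowers r) 2
    exact false_of_two_invariant (p := 2) hcard A N hOp hdvd (Subgroup.zpowers r)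
      (Subgroup.zpowers (r ^ 2)) hRn (normal_of_forall_aut _ hYinv)
      (by rw [hRcard]; norm_num) (by rw [Nat.card_zpowers, ho2]) hYX
      (fun α _ => hRinv α) (fun α _ => hYinv α)

end two_group

section main

variable {H : Type*} [Group H] [Finite H] {p : ℕ} [hp : Fact p.Prime]

/-- The groups of order `p³` admitting a group `A` of automorphisms with a quotient `A/N` having
trivial `O_p` and order divisible by `p`. -/
theorem order_p3_classification (hcard : Nat.card H = p ^ 3)
    (A : Subgroup (MulAut H)) (N : Subgroup A)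
    [N.Normal] (hOp : ∀ M : Subgroup (A ⧸ N), M.Normal → IsPGroup p M → M = ⊥)
    (hdvd : p ∣ Nat.card (A ⧸ N)) :
    ((∀ a b : H, a * b = b * a) ∧ ∀ x : H, x ^ p = 1) ∨
      (p ≠ 2 ∧ Cfsg.IsExtraspecial p H ∧ ∀ x : H, x ^ p = 1) ∨
      (p = 2 ∧ Nonempty (H ≃* QuaternionGroup 2)) := by
  by_cases hcomm : ∀ a b : H, a * b = b * a
  · left
    refine ⟨hcomm, ?_⟩
    by_contra hne
    push Not at hne
    exact false_of_abelian_p3 hcard hcomm hne A N hOp hdvd
  · right
    push Not at hcomm
    by_cases hp2 : p = 2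
    · right
      subst hp2
      exact ⟨rfl, quaternion_of_nonabelian_8 hcard hcomm A N hOp hdvd⟩
    · left
      refine ⟨hp2, isExtraspecial_of_nonabelian_p3 hcard hcomm, ?_⟩
      by_contra hne
      push Not at hne
      exact false_of_nonabelian_p3_odd hcard hcomm hp2 hne A N hOp hdvd

end main

end Cfsg.Agent.Helper83
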