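import Mathlib
import Cfsg.Prelude.Def_OddOrderLocal
import Cfsg.Agent.Lib.Helper16.SylowIn

set_option autoImplicit false

/-!
# Lemma-server piece (N) for S1423 (helper89): `S ∩ K' ≤ S'` when `K` has a normal `p`-complement
-/

namespace Cfsg.Agent.Helper83.S1423Req

open Subgroup Cfsg
open Cfsg.Agent.Helper16
open scoped commutatorElement

section typelevel

variable {K : Type*} [Group K] [Finite K] {p : ℕ} [hp : Fact p.Prime]

/-- A normal complement of one Sylow `p`-subgroup is a complement of every Sylow `p`-subgroup. -/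
theorem isComplement'_sylow_of_isComplement' (P S : Sylow p K) (N : Subgroup K)
    (hN : N.IsComplement' (P : Subgroup K)) : N.IsComplement' (S : Subgroup K) := by
  have h1 : Nat.card N * Nat.card (P : Subgroup K) = Nat.card K := hN.card_mul_card
  have h2 : Nat.card (S : Subgroup K) = Nat.card (P : Subgroup K) := by
    rw [S.card_eq_multiplicity, P.card_eq_multiplicity]
  have h3 := Subgroup.card_mul_index (P : Subgroup K)
  have hpos : 0 < Nat.card (P : Subgroup K) := Nat.card_pos
  have h4 : Nat.card N = (P : Subgroup K).index := by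
    have : Nat.card (P : Subgroup K) * Nat.card N = Nat.card (P : Subgroup K) * (P : Subgroup K).index := by
      rw [h3, mul_comm, h1]
    exact Nat.eq_of_mul_eq_mul_left hpos this
  apply Subgroup.isComplement'_of_coprime
  · rw [h2, h1]
  · rw [h2, h4]
    exact (P.card_coprime_index).symm

/-- In a group with a normal complement `N` to the Sylow `p`-subgroup `S`: `S ∩ K' ≤ S'`. -/
theorem sylow_inf_commutator_le (S : Sylow p K) (N : Subgroup K) [hNn : N.Normal]
    (hN : N.IsComplement' (S : Subgroup K)) :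
    (S : Subgroup K) ⊓ commutator K ≤ ⁅(S : Subgroup K), (S : Subgroup K)⁆ := by
  set φ := QuotientGroup.mk' N with hφ
  have hker : φ.ker = N := QuotientGroup.ker_mk' N
  have hsup : N ⊔ (S : Subgroup K) = ⊤ := hN.sup_eq_top
  have hdisj : N ⊓ (S : Subgroup K) = ⊥ := disjoint_iff.1 hN.disjoint
  have h1 : Subgroup.map φ (S : Subgroup K) = Subgroup.map φ ⊤ := by
    rw [Subgroup.map_eq_map_iff, hker, sup_comm, hsup]
    simp
  have h2 : Subgroup.map φ ⁅(⊤ : Subgroup K), ⊤⁆ = Subgroup.map φ ⁅(S : Subgroup K), (S : Subgroup K)⁆ := by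
    rw [Subgroup.map_commutator, Subgroup.map_commutator, h1]
  rw [Subgroup.map_eq_map_iff, hker] at h2
  have h3 : commutator K ≤ ⁅(S : Subgroup K), (S : Subgroup K)⁆ ⊔ N := by
    rw [← h2, _root_.commutator_def]
    exact le_sup_left
  intro x hx
  obtain ⟨hxS, hxc⟩ := Subgroup.mem_inf.1 hx
  obtain ⟨c, hc, n, hn, hcn⟩ := Subgroup.mem_sup_of_normal_right.1 (h3 hxc)
  have hSS : ⁅(S : Subgroup K), (S : Subgroup K)⁆ ≤ (S : Subgroup K) := by
    rw [Subgroup.commutator_le]
    intro g₁ h₁ g₂ h₂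
    rw [commutatorElement_def]
    exact Subgroup.mul_mem _ (Subgroup.mul_mem _ (Subgroup.mul_mem _ h₁ h₂) (Subgroup.inv_mem _ h₁))
      (Subgroup.inv_mem _ h₂)
  have hcS : c ∈ (S : Subgroup K) := hSS hc
  have hnS : n ∈ (S : Subgroup K) := by
    have : n = c⁻¹ * x := by rw [← hcn]; group
    rw [this]
    exact Subgroup.mul_mem _ (Subgroup.inv_mem _ hcS) hxS
  have hn1 : n = 1 := by
    have : n ∈ N ⊓ (S : Subgroup K) := Subgroup.mem_inf.2 ⟨hn, hnS⟩
    rw [hdisj] at this
    exact Subgroup.mem_bot.1 this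
  rw [← hcn, hn1, mul_one]
  exact hc

end typelevel

section sub

variable {G : Type*} [Group G] [Finite G]

/-- (N) normal `p`-complement: `S ∩ K' ≤ S'`. -/
theorem sylow_inf_commutator_le_of_hasNormalPComplement {p : ℕ} [Fact p.Prime]
    (K S : Subgroup G) (hnpc : HasNormalPComplement p ↥K) (hS : IsSylowIn p K S) :
    S ⊓ ⁅K, K⁆ ≤ ⁅S, S⁆ := by
  obtain ⟨P, N, hNn, hNP⟩ := hnpc
  obtain ⟨S', rfl⟩ := hS
  haveI := hNn
  have hN' : N.IsComplement' (S' : Subgroup ↥K) := isComplement'_sylow_of_isComplement' P S' N hNP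
  have key := sylow_inf_commutator_le S' N hN'
  have hKK : ⁅K, K⁆ = Subgroup.map K.subtype (commutator ↥K) := by
    rw [_root_.commutator_def, Subgroup.map_commutator, ← MonoidHom.range_eq_map,
      Subgroup.range_subtype]
  rw [hKK, ← Subgroup.map_commutator]
  rintro x ⟨⟨s, hs, rfl⟩, ⟨c, hc, hcs⟩⟩
  have hsc : c = s := Subtype.ext (by simpa using hcs)
  refine ⟨s, key (Subgroup.mem_inf.2 ⟨hs, hsc ▸ hc⟩), rfl⟩

end sub

end Cfsg.Agent.Helper83.S1423Req
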