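import Mathlib
import Cfsg.Prelude.Def_OddOrderLocal
import Cfsg.Agent.Lib.Helper16.SylowIn

set_option autoImplicit false

/-!
# Lemma-server pieces (E), (E3) for S1423 (helper89): nonabelian groups of order `p ^ 3`
-/

namespace Cfsg.Agent.Helper83.S1423Req

open Subgroup Cfsg
open scoped commutatorElement

section typelevel

variable {H : Type*} [Group H] [Finite H] {p : ℕ} [hp : Fact p.Prime]

theorem card_center_p3 (hcard : Nat.card H = p ^ 3)
    (hna : ∃ a b : H, a * b ≠ b * a) : Nat.card (Subgroup.center H) = p := by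
  have hpp := hp.out
  have hH : IsPGroup p H := IsPGroup.of_card hcard
  haveI : Nontrivial H := by
    obtain ⟨a, b, hab⟩ := hna
    refine ⟨a, 1, ?_⟩
    rintro rfl
    simp at hab
  have hZ1 : Subgroup.center H ≠ ⊥ := (hH.bot_lt_center).ne'
  have hZ2 : Subgroup.center H ≠ ⊤ := by
    intro h
    obtain ⟨a, b, hab⟩ := hna
    apply hab
    have : a ∈ Subgroup.center H := h ▸ Subgroup.mem_top a
    exact ((Subgroup.mem_center_iff.1 this) b).symm
  obtain ⟨k, hk3, hk⟩ := (Nat.dvd_prime_pow hpp).1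
    (hcard ▸ Subgroup.card_subgroup_dvd_card (Subgroup.center H))
  have hk0 : k ≠ 0 := by
    rintro rfl
    rw [pow_zero] at hk
    exact hZ1 (Subgroup.eq_bot_of_card_eq _ hk)
  have hk3' : k ≠ 3 := by
    rintro rfl
    apply hZ2
    apply Subgroup.eq_top_of_card_eq
    rw [hk, hcard]
  have hk2 : k ≠ 2 := by
    rintro rfl
    have h1 := Subgroup.card_mul_index (Subgroup.center H)
    rw [hk, hcard] at h1
    have h2 : p ^ 2 * (Subgroup.center H).index = p ^ 2 * p := by rw [h1]; ring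
    have h3 : (Subgroup.center H).index = p := Nat.eq_of_mul_eq_mul_left (pow_pos hpp.pos 2) h2
    have h4 : Nat.card (H ⧸ Subgroup.center H) = p := h3
    haveI : IsCyclic (H ⧸ Subgroup.center H) := isCyclic_of_prime_card h4
    obtain ⟨a, b, hab⟩ := hna
    apply hab
    exact commutative_of_cyclic_center_quotient (QuotientGroup.mk' (Subgroup.center H))
      (by rw [QuotientGroup.ker_mk']) a b
  have : k = 1 := by omega
  rw [this, pow_one] at hk
  exact hk

theorem comm_mem_center_p3 (hcard : Nat.card H = p ^ 3)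
    (hna : ∃ a b : H, a * b ≠ b * a) (x y : H) : x * y * x⁻¹ * y⁻¹ ∈ Subgroup.center H := by
  have hpp := hp.out
  have hc := card_center_p3 hcard hna
  have h1 := Subgroup.card_mul_index (Subgroup.center H)
  rw [hc, hcard] at h1
  have h2 : p * (Subgroup.center H).index = p * p ^ 2 := by rw [h1]; ring
  have h3 : (Subgroup.center H).index = p ^ 2 := Nat.eq_of_mul_eq_mul_left hpp.pos h2
  have h4 : Nat.card (H ⧸ Subgroup.center H) = p ^ 2 := h3
  have hcomm := IsPGroup.commutative_of_card_eq_prime_sq h4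
  rw [← QuotientGroup.eq_one_iff]
  simp only [QuotientGroup.mk_mul, QuotientGroup.mk_inv]
  rw [hcomm (x : H ⧸ Subgroup.center H) (y : H ⧸ Subgroup.center H)]
  group

end typelevel

section sub

variable {G : Type*} [Group G] [Finite G] {p : ℕ} [hp : Fact p.Prime]

/-- the centre of `P₁`, as a subgroup of `G`, corresponds to `center ↥P₁`. -/
theorem zc_subgroupOf (P₁ : Subgroup G) :
    (P₁ ⊓ centralizer (P₁ : Set G)).subgroupOf P₁ = Subgroup.center ↥P₁ := by
  ext x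
  rw [Subgroup.mem_subgroupOf, Subgroup.mem_inf, Subgroup.mem_centralizer_iff,
    Subgroup.mem_center_iff]
  constructor
  · rintro ⟨_, h⟩ g
    apply Subtype.ext
    have := h g.1 g.2
    simpa using this
  · intro h
    refine ⟨x.2, fun g hg => ?_⟩
    have := h ⟨g, hg⟩
    have h2 := congrArg Subtype.val this
    simpa using h2

theorem nonab_of_not_comm (P₁ : Subgroup G) (hna : ¬ IsMulCommutative P₁) :
    ∃ a b : ↥P₁, a * b ≠ b * a := by
  by_contra h
  push_neg at h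
  exact hna ⟨⟨h⟩⟩

theorem card_zc (P₁ : Subgroup G) (hcard : Nat.card P₁ = p ^ 3) (hna : ¬ IsMulCommutative P₁) :
    Nat.card ↥(P₁ ⊓ centralizer (P₁ : Set G)) = p := by
  have h1 := card_center_p3 hcard (nonab_of_not_comm P₁ hna)
  rw [← zc_subgroupOf] at h1
  rw [← h1]
  exact (Nat.card_congr (Subgroup.subgroupOfEquivOfLe inf_le_left).toEquiv).symm

theorem comm_mem_zc (P₁ : Subgroup G) (hcard : Nat.card P₁ = p ^ 3) (hna : ¬ IsMulCommutative P₁)
    {x y : G} (hx : x ∈ P₁) (hy : y ∈ P₁) :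
    x * y * x⁻¹ * y⁻¹ ∈ P₁ ⊓ centralizer (P₁ : Set G) := by
  have h1 := comm_mem_center_p3 hcard (nonab_of_not_comm P₁ hna) ⟨x, hx⟩ ⟨y, hy⟩
  rw [← zc_subgroupOf, Subgroup.mem_subgroupOf] at h1
  simpa using h1

/-- elements of `A ⊔ Z` are products when `Z` centralizes `A`. -/
theorem exists_mul_of_mem_sup_centralizer (A Z : Subgroup G) (hZ : Z ≤ centralizer (A : Set G))
    {x : G} (hx : x ∈ A ⊔ Z) : ∃ y ∈ A, ∃ z ∈ Z, x = y * z := by
  have hcomm : ∀ y ∈ A, ∀ z ∈ Z, z * y = y * z := by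
    intro y hy z hz
    have := (Subgroup.mem_centralizer_iff.1 (hZ hz)) y hy
    exact this.symm
  let K : Subgroup G :=
    { carrier := {x | ∃ y ∈ A, ∃ z ∈ Z, x = y * z}
      one_mem' := ⟨1, A.one_mem, 1, Z.one_mem, by simp⟩
      mul_mem' := by
        rintro _ _ ⟨y, hy, z, hz, rfl⟩ ⟨y', hy', z', hz', rfl⟩
        refine ⟨y * y', A.mul_mem hy hy', z * z', Z.mul_mem hz hz', ?_⟩
        calc y * z * (y' * z') = y * (z * y') * z' := by group
          _ = y * (y' * z) * z' := by rw [hcomm y' hy' z hz]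
          _ = y * y' * (z * z') := by group
      inv_mem' := by
        rintro _ ⟨y, hy, z, hz, rfl⟩
        refine ⟨y⁻¹, A.inv_mem hy, z⁻¹, Z.inv_mem hz, ?_⟩
        have h := hcomm y⁻¹ (A.inv_mem hy) z⁻¹ (Z.inv_mem hz)
        rw [mul_inv_rev, h] }
  have hAK : A ≤ K := fun y hy => ⟨y, hy, 1, Z.one_mem, by simp⟩
  have hZK : Z ≤ K := fun z hz => ⟨1, A.one_mem, z, hz, by simp⟩
  exact (sup_le hAK hZK) hx

theorem eq_zpowers_of_prime_card (A : Subgroup G) (hc : Nat.card A = p) {a : G} (ha : a ∈ A)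
    (ha1 : a ≠ 1) : ∀ y ∈ A, ∃ k : ℕ, a ^ k = y := by
  intro y hy
  have h1 : Subgroup.zpowers (⟨a, ha⟩ : ↥A) = ⊤ :=
    zpowers_eq_top_of_prime_card hc (by
      intro h
      apply ha1
      exact congrArg Subtype.val h)
  have h2 : (⟨y, hy⟩ : ↥A) ∈ Subgroup.zpowers (⟨a, ha⟩ : ↥A) := h1 ▸ Subgroup.mem_top _
  have hfin : IsOfFinOrder (⟨a, ha⟩ : ↥A) := isOfFinOrder_of_finite _
  rw [← mem_powers_iff_mem_zpowers] at h2
  obtain ⟨k, hk⟩ := Submonoid.mem_powers_iff _ _ |>.1 h2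
  refine ⟨k, ?_⟩
  have := congrArg Subtype.val hk
  simpa using this

theorem pow_p_eq_one_of_card (A : Subgroup G) (hc : Nat.card A = p) {a : G} (ha : a ∈ A) :
    a ^ p = 1 := by
  have h : (⟨a, ha⟩ : ↥A) ^ Nat.card ↥A = 1 := pow_card_eq_one'
  rw [hc] at h
  have := congrArg Subtype.val h
  simpa using this

/-- (E3) `⟨y⟩ Z(P₁)` is elementary abelian of order `p ^ 2` for noncentral `y` of order `p`. -/
theorem isElementaryAbelian_sup_center
    (P₁ : Subgroup G) (hcard : Nat.card P₁ = p ^ 3) (hna : ¬ IsMulCommutative P₁)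
    (A₀ : Subgroup G) (h₀ : A₀ ≤ P₁) (hc : Nat.card A₀ = p)
    (hn : ¬ A₀ ≤ centralizer (P₁ : Set G)) :
    Nat.card ↥(P₁ ⊓ centralizer (P₁ : Set G)) = p ∧
    IsElementaryAbelian p (A₀ ⊔ (P₁ ⊓ centralizer (P₁ : Set G))) ∧
      Nat.card ↥(A₀ ⊔ (P₁ ⊓ centralizer (P₁ : Set G))) = p ^ 2 := by
  have hpp := hp.out
  set Z := P₁ ⊓ centralizer (P₁ : Set G) with hZdef
  have hZc : Nat.card Z = p := card_zc P₁ hcard hna
  have hZP : Z ≤ P₁ := inf_le_left
  have hZcent : Z ≤ centralizer (P₁ : Set G) := inf_le_right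
  have hZA : Z ≤ centralizer (A₀ : Set G) :=
    hZcent.trans (Subgroup.centralizer_le h₀)
  have hAZ : A₀ ≤ centralizer (Z : Set G) := Subgroup.le_centralizer_iff.1 hZA
  have hZZ : Z ≤ centralizer (Z : Set G) := hZcent.trans (Subgroup.centralizer_le hZP)
  haveI : IsCyclic ↥A₀ := isCyclic_of_prime_card hc
  have hAA : A₀ ≤ centralizer (A₀ : Set G) := by
    intro x hx
    rw [Subgroup.mem_centralizer_iff]
    intro y hy
    have h := (IsCyclic.commGroup (α := ↥A₀)).mul_comm ⟨y, hy⟩ ⟨x, hx⟩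
    exact congrArg Subtype.val h
  have hM1 : A₀ ⊔ Z ≤ centralizer (A₀ : Set G) := sup_le hAA hZA
  have hM2 : A₀ ⊔ Z ≤ centralizer (Z : Set G) := sup_le hAZ hZZ
  have hMM : A₀ ⊔ Z ≤ centralizer ((A₀ ⊔ Z : Subgroup G) : Set G) :=
    Subgroup.le_centralizer_iff.1 (sup_le (Subgroup.le_centralizer_iff.1 hM1)
      (Subgroup.le_centralizer_iff.1 hM2))
  have hMcomm : IsMulCommutative ↥(A₀ ⊔ Z) := Subgroup.le_centralizer_iff_isMulCommutative.1 hMM
  have hMP : A₀ ⊔ Z ≤ P₁ := sup_le h₀ hZP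
  refine ⟨hZc, ⟨hMcomm, ?_⟩, ?_⟩
  · intro x hx
    obtain ⟨y, hy, z, hz, rfl⟩ := exists_mul_of_mem_sup_centralizer A₀ Z hZA hx
    have hcm : Commute y z := ((Subgroup.mem_centralizer_iff.1 (hZA hz)) y hy)
    rw [hcm.mul_pow, pow_p_eq_one_of_card A₀ hc hy, pow_p_eq_one_of_card Z hZc hz, one_mul]
  · obtain ⟨k, hk3, hk⟩ := (Nat.dvd_prime_pow hpp).1
      (hcard ▸ Subgroup.card_dvd_of_le hMP)
    have hk0 : k ≠ 0 := by
      rintro rfl
      rw [pow_zero] at hk
      have h1 : Nat.card A₀ ≤ Nat.card ↥(A₀ ⊔ Z) := Subgroup.card_le_of_le le_sup_left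
      rw [hk, hc] at h1
      exact absurd h1 (by have := hpp.one_lt; omega)
    have hk1 : k ≠ 1 := by
      rintro rfl
      rw [pow_one] at hk
      have h1 : Z = A₀ ⊔ Z := Subgroup.eq_of_le_of_card_ge le_sup_right (by rw [hk, hZc])
      apply hn
      have : A₀ ≤ Z := by rw [h1]; exact le_sup_left
      exact this.trans hZcent
    have hk3' : k ≠ 3 := by
      rintro rfl
      have h1 : A₀ ⊔ Z = P₁ := Subgroup.eq_of_le_of_card_ge hMP (by rw [hk, hcard])
      apply hna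
      rw [← h1]
      exact hMcomm
    have : k = 2 := by omega
    rw [this] at hk
    exact hk

/-- (E) conjugacy of the noncentral subgroups of order `p` of `A₀ Z` in a nonabelian group of
order `p ^ 3`. -/
theorem exists_conj_of_le_sup_center
    (P₁ : Subgroup G) (hcard : Nat.card P₁ = p ^ 3) (hna : ¬ IsMulCommutative P₁)
    (A₀ A₀' : Subgroup G) (h₀ : A₀ ≤ P₁) (h₀' : A₀' ≤ P₁)
    (hc : Nat.card A₀ = p) (hc' : Nat.card A₀' = p)
    (hn' : ¬ A₀' ≤ centralizer (P₁ : Set G))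
    (hsup : A₀' ≤ A₀ ⊔ (P₁ ⊓ centralizer (P₁ : Set G))) :
    ∃ u ∈ P₁, A₀' = A₀.map (MulAut.conj u).toMonoidHom := by
  have hpp := hp.out
  set Z := P₁ ⊓ centralizer (P₁ : Set G) with hZdef
  have hZc : Nat.card Z = p := card_zc P₁ hcard hna
  have hZP : Z ≤ P₁ := inf_le_left
  have hZcent : Z ≤ centralizer (P₁ : Set G) := inf_le_right
  have hZA : Z ≤ centralizer (A₀ : Set G) :=
    hZcent.trans (Subgroup.centralizer_le h₀)
  -- central elements commute with elements of `P₁`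
  have hcomm : ∀ z ∈ Z, ∀ g ∈ P₁, g * z = z * g := fun z hz g hg =>
    (Subgroup.mem_centralizer_iff.1 (hZcent hz)) g hg
  -- `A₀` is not central
  have hn : ¬ A₀ ≤ centralizer (P₁ : Set G) := by
    intro h
    apply hn'
    have h1 : A₀ ≤ Z := le_inf h₀ h
    have h2 : A₀ ⊔ Z = Z := sup_eq_right.2 h1
    rw [h2] at hsup
    exact hsup.trans hZcent
  obtain ⟨a, haA, haC⟩ := SetLike.not_le_iff_exists.1 hn
  obtain ⟨a', haA', haC'⟩ := SetLike.not_le_iff_exists.1 hn'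
  have haP : a ∈ P₁ := h₀ haA
  have ha1 : a ≠ 1 := by
    rintro rfl
    exact haC (Subgroup.one_mem _)
  have hapow : a ^ p = 1 := pow_p_eq_one_of_card A₀ hc haA
  have hord : orderOf a = p := by
    have h1 : orderOf a ∣ p := orderOf_dvd_of_pow_eq_one hapow
    rcases (Nat.dvd_prime hpp).1 h1 with h | h
    · exact absurd (orderOf_eq_one_iff.1 h) ha1
    · exact h
  -- decompose `a'`
  obtain ⟨y, hy, z, hz, hyz⟩ := exists_mul_of_mem_sup_centralizer A₀ Z hZA (hsup haA')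
  obtain ⟨k, hk⟩ := eq_zpowers_of_prime_card A₀ hc haA ha1 y hy
  have hkp : ¬ p ∣ k := by
    rintro ⟨t, rfl⟩
    rw [pow_mul, hapow, one_pow] at hk
    apply haC'
    rw [hyz, ← hk, one_mul]
    exact hZcent hz
  have hcop : Nat.Coprime k p := (Nat.Coprime.symm ((Nat.Prime.coprime_iff_not_dvd hpp).2 hkp))
  obtain ⟨m, -, hm⟩ := Nat.exists_mul_mod_eq_one_of_coprime hcop hpp.one_lt
  have hakm : a ^ (k * m) = a := by
    rw [← pow_mod_orderOf, hord, hm, pow_one]
  have hyzc : Commute y z := ((Subgroup.mem_centralizer_iff.1 (hZA hz)) y hy)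
  have ha'' : a * z ^ m ∈ A₀' := by
    have h1 : a' ^ m ∈ A₀' := A₀'.pow_mem haA' m
    rw [hyz, hyzc.mul_pow, ← hk, ← pow_mul, hakm] at h1
    exact h1
  have hz2 : z ^ m ∈ Z := Z.pow_mem hz m
  -- find `v ∈ P₁` not commuting with `a`
  have hv : ∃ v ∈ P₁, v * a ≠ a * v := by
    by_contra h
    push_neg at h
    apply haC
    rw [Subgroup.mem_centralizer_iff]
    exact h
  obtain ⟨v, hvP, hva⟩ := hv
  set z₁ := v * a * v⁻¹ * a⁻¹ with hz1def
  have hz1Z : z₁ ∈ Z := comm_mem_zc P₁ hcard hna hvP haP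
  have hz1ne : z₁ ≠ 1 := by
    intro h
    apply hva
    have : v * a * v⁻¹ * a⁻¹ = 1 := h
    calc v * a = (v * a * v⁻¹ * a⁻¹) * (a * v) := by group
      _ = a * v := by rw [this, one_mul]
  obtain ⟨j, hj⟩ := eq_zpowers_of_prime_card Z hZc hz1Z hz1ne (z ^ m) hz2
  -- conjugation by powers of `v`
  have hconj : ∀ n : ℕ, v ^ n * a * (v ^ n)⁻¹ = a * z₁ ^ n := by
    intro n
    induction n with
    | zero => simp
    | succ n ih =>
      have hzn : z₁ ^ n ∈ Z := Z.pow_mem hz1Z n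
      have h1 : v * z₁ ^ n = z₁ ^ n * v := hcomm _ hzn v hvP
      have h2 : a * z₁ = z₁ * a := hcomm _ hz1Z a haP
      calc v ^ (n + 1) * a * (v ^ (n + 1))⁻¹
          = v * (v ^ n * a * (v ^ n)⁻¹) * v⁻¹ := by rw [pow_succ']; group
        _ = v * (a * z₁ ^ n) * v⁻¹ := by rw [ih]
        _ = (v * a * v⁻¹) * (v * z₁ ^ n * v⁻¹) := by group
        _ = (v * a * v⁻¹) * z₁ ^ n := by rw [h1]; group
        _ = (z₁ * a) * z₁ ^ n := by rw [hz1def]; group
        _ = a * z₁ ^ (n + 1) := by rw [← h2, pow_succ']; group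
  refine ⟨v ^ j, P₁.pow_mem hvP j, ?_⟩
  symm
  apply Subgroup.eq_of_le_of_card_ge
  · rintro _ ⟨x, hx, rfl⟩
    obtain ⟨n, rfl⟩ := eq_zpowers_of_prime_card A₀ hc haA ha1 x hx
    have h1 : (MulAut.conj (v ^ j)).toMonoidHom (a ^ n) = (v ^ j * a * (v ^ j)⁻¹) ^ n := by
      show v ^ j * a ^ n * (v ^ j)⁻¹ = _
      rw [conj_pow]
    rw [h1, hconj j, hj]
    exact A₀'.pow_mem ha'' n
  · rw [Subgroup.card_map_of_injective (MulAut.conj (v ^ j)).injective, hc, hc']

end sub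

end Cfsg.Agent.Helper83.S1423Req
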