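import Mathlib

/-!
# Order 7920 (S2490): shared definition

`Bad G`: `G` has a subgroup of order 11 whose normalizer has index 45.
-/

namespace Cfsg.Agent.Helper83.Ord7920

/-- `G` has a subgroup of order 11 whose normalizer has index 45. -/
def Bad (G : Type*) [Group G] : Prop :=
  ∃ P : Subgroup G, Nat.card P = 11 ∧ (Subgroup.normalizer (P : Set G)).index = 45

end Cfsg.Agent.Helper83.Ord7920
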