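import Mathlib
import Cfsg.Agent.Lib.Helper83.Ord7920Defs
import Cfsg.Agent.Lib.Helper95.NormCent
import Cfsg.Agent.Lib.Helper22.Ord7920D
import Cfsg.Agent.Lib.Helper42.Ord7920Dz
import Cfsg.Agent.Lib.Helper90.Ord7920D0
import Cfsg.Agent.Lib.Helper90.Ord7920Dq
import Cfsg.Agent.Lib.Helper90.Ord7920Ds
import Cfsg.Agent.Lib.Helper66.Ord7920DZ

/-!
# Order 7920 (S2490): numerics and the induction on the 2-part killing `n₁₁ = 45`
-/

set_option autoImplicit false

namespace Cfsg.Agent.Helper83.Ord7920

open Cfsg.Agent.Helper22.Ord7920 (exists_index_two_of_odd_swaps card_fixedBy_mem eq_of_le_normalizer)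
open Cfsg.Agent.Helper42.Ord7920 (exists_central_involution)
open Cfsg.Agent.Helper90.Ord7920 (not_bad_495 bad_quotient bad_index_two)
open Cfsg.Agent.Helper66.Ord7920 (not_bad_of_isolated)

universe u

/-- A Sylow 11-subgroup of a group of order `2 ^ a * 495`, or `7920`, has order 11. -/
theorem card_sylow_eleven {G : Type*} [Group G] [Finite G] (h11 : 11 ∣ Nat.card G)
    (h121 : ¬ 121 ∣ Nat.card G) [Fact (Nat.Prime 11)] (P : Sylow 11 G) :
    Nat.card (P : Subgroup G) = 11 := by
  obtain ⟨k, hk⟩ := (IsPGroup.iff_card (p := 11) (G := (P : Subgroup G))).1 P.isPGroup'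
  have hdvd : Nat.card (P : Subgroup G) ∣ Nat.card G := Subgroup.card_subgroup_dvd_card _
  have h11P : 11 ∣ Nat.card (P : Subgroup G) := P.dvd_card_of_dvd_card h11
  rcases k with _ | _ | k
  · rw [hk] at h11P
    norm_num at h11P
  · simpa using hk
  · exfalso
    apply h121
    refine dvd_trans ?_ hdvd
    rw [hk]
    exact ⟨11 ^ k, by ring⟩

/-- The number of Sylow 11-subgroups of a group of order 7920. -/
theorem card_sylow_mem {G : Type*} [Group G] [Finite G] (hord : Nat.card G = 7920) :
    Nat.card (Sylow 11 G) = 1 ∨ Nat.card (Sylow 11 G) = 12 ∨ Nat.card (Sylow 11 G) = 45 ∨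
      Nat.card (Sylow 11 G) = 144 := by
  have : Fact (Nat.Prime 11) := ⟨by norm_num⟩
  obtain ⟨P⟩ : Nonempty (Sylow 11 G) := inferInstance
  have hP : Nat.card (P : Subgroup G) = 11 :=
    card_sylow_eleven (by rw [hord]; norm_num) (by rw [hord]; norm_num) P
  have h1 : Nat.card (Sylow 11 G) ≡ 1 [MOD 11] := card_sylow_modEq_one 11 G
  have h2 : Nat.card (Sylow 11 G) ∣ (P : Subgroup G).index := P.card_dvd_index
  have h3 : (P : Subgroup G).index = 720 := by
    have := (P : Subgroup G).card_mul_index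
    rw [hP, hord] at this
    omega
  rw [h3] at h2
  have h4 : Nat.card (Sylow 11 G) ≤ 720 := Nat.le_of_dvd (by norm_num) h2
  unfold Nat.ModEq at h1
  generalize Nat.card (Sylow 11 G) = n at *
  obtain ⟨j, rfl⟩ : ∃ j, n = 11 * j + 1 := ⟨n / 11, by omega⟩
  have hj : j ≤ 65 := by omega
  interval_cases j <;> omega

/-- `121 ∤ 2 ^ a * 495`. -/
theorem not_dvd_121 (a : ℕ) : ¬ 121 ∣ 2 ^ a * 495 := by
  intro h
  have h1 : 11 ∣ 2 ^ a * 45 := by
    have h2 : 11 * 11 ∣ 11 * (2 ^ a * 45) := by
      have : 11 * (2 ^ a * 45) = 2 ^ a * 495 := by ring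
      rw [this]
      exact h
    exact Nat.dvd_of_mul_dvd_mul_left (by norm_num) h2
  have hp : Nat.Prime 11 := by norm_num
  rcases (Nat.Prime.dvd_mul hp).1 h1 with h2 | h2
  · have := (Nat.prime_dvd_prime_iff_eq hp Nat.prime_two).1 (hp.dvd_of_dvd_pow h2)
    omega
  · omega

/-- The inductive step: a group of order `2 ^ a * 495` (`a ≥ 1`) is not `Bad`, if no group of
order `2 ^ b * 495` with `b < a` is. -/
theorem not_bad_step {G : Type u} [Group G] [Finite G] {a : ℕ} (ha : 1 ≤ a)
    (hord : Nat.card G = 2 ^ a * 495)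
    (ih : ∀ b < a, ∀ (H : Type u) [Group H] [Finite H], Nat.card H = 2 ^ b * 495 → ¬ Bad H)
    (zstar : ∀ (S : Sylow 2 G) (u : G), orderOf u = 2 → u ∈ S →
        (∀ g : G, g * u * g⁻¹ ∈ S → g * u * g⁻¹ = u) →
        ∃ O : Subgroup G, O.Normal ∧ Odd (Nat.card O) ∧ ∀ g : G, u * g * u⁻¹ * g⁻¹ ∈ O) :
    ¬ Bad G := by
  intro hb
  obtain ⟨c, rfl⟩ : ∃ c, a = c + 1 := ⟨a - 1, by omega⟩
  -- no subgroup of index two
  have hno2 : ∀ H : Subgroup G, H.index = 2 → False := by
    intro H hH
    have hbH := bad_index_two hord H hH hb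
    have hcard : Nat.card H = 2 ^ c * 495 := by
      have h1 := H.card_mul_index
      rw [hH, hord, pow_succ] at h1
      have h2 : Nat.card H * 2 = (2 ^ c * 495) * 2 := by rw [h1]; ring
      exact Nat.eq_of_mul_eq_mul_right (by norm_num) h2
    exact ih c (by omega) H hcard hbH
  obtain ⟨P, hP, hidx⟩ := hb
  have hNcard : Nat.card (Subgroup.normalizer (P : Set G)) = 2 ^ (c + 1) * 11 := by
    have h1 := (Subgroup.normalizer (P : Set G)).card_mul_index
    rw [hidx, hord] at h1
    have h2 : Nat.card (Subgroup.normalizer (P : Set G)) * 45 = (2 ^ (c + 1) * 11) * 45 := by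
      rw [h1]; ring
    exact Nat.eq_of_mul_eq_mul_right (by norm_num) h2
  have h121 : ¬ 121 ∣ Nat.card G := by rw [hord]; exact not_dvd_121 _
  have hX : Nat.card (G ⧸ (Subgroup.normalizer (P : Set G))) = 45 := by
    rw [← Subgroup.index_eq_card, hidx]
  by_cases hC : Even (Nat.card (Subgroup.centralizer (P : Set G)))
  · obtain ⟨z, hz, hzC, hzN⟩ := exists_central_involution P hP hNcard hC
    have hzP : z ∈ Subgroup.normalizer (P : Set G) := Subgroup.centralizer_le_normalizer (P : Set G) hzC
    have hzz : z * z = 1 := by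
      rw [← pow_two, ← hz]; exact pow_orderOf_eq_one z
    have hz1 : z ≠ 1 := by
      intro h; rw [h, orderOf_one] at hz; omega
    rcases card_fixedBy_mem P hP hidx h121 z hz hzC with hf | hf | hf
    · exact not_bad_of_isolated ha hord P hP hidx z hz hzP hzN hf zstar
        (fun H _ _ hH => ih 0 (by omega) H (by simpa using hH))
    · obtain ⟨H, hH⟩ := exists_index_two_of_odd_swaps
        (X := G ⧸ (Subgroup.normalizer (P : Set G))) z hzz (by rw [hf, hX]; decide)
      exact hno2 H hH
    · -- `z` fixes every coset: it lies in the normal core of the normalizer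
      set N := Subgroup.normalizer (P : Set G) with hN
      have hzK : z ∈ N.normalCore := by
        rw [Subgroup.normalCore_eq_ker, MonoidHom.mem_ker]
        have huniv : MulAction.fixedBy (G ⧸ N) z = Set.univ := by
          rw [Set.eq_univ_iff_ncard, ← Nat.card_coe_set_eq, hf, hX]
        ext x
        have hx : x ∈ MulAction.fixedBy (G ⧸ N) z := by rw [huniv]; exact Set.mem_univ x
        simpa using hx
      have hKN : N.normalCore ≤ N := Subgroup.normalCore_le N
      have hKcop : (Nat.card N.normalCore).Coprime 11 := by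
        rw [Nat.coprime_comm, Nat.Prime.coprime_iff_not_dvd (by norm_num)]
        intro h11
        have : Fact (Nat.Prime 11) := ⟨by norm_num⟩
        obtain ⟨x, hx⟩ := exists_prime_orderOf_dvd_card' (G := N.normalCore) 11 h11
        have hxo : orderOf (x : G) = 11 := by rw [Subgroup.orderOf_coe]; exact hx
        have hQ : Nat.card (Subgroup.zpowers (x : G)) = 11 := by rw [Nat.card_zpowers, hxo]
        have hQK : Subgroup.zpowers (x : G) ≤ N.normalCore := by
          rw [Subgroup.zpowers_le]; exact x.2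
        have hQP : Subgroup.zpowers (x : G) = P :=
          eq_of_le_normalizer P _ hP hQ (hQK.trans hKN) h121
        have hPK : P ≤ N.normalCore := hQP ▸ hQK
        have hPn : P.Normal := by
          refine ⟨fun n hn g => ?_⟩
          have h1 : P.map (MulAut.conj g).toMonoidHom = P := by
            apply eq_of_le_normalizer P _ hP _ _ h121
            · rw [Subgroup.card_map_of_injective (MulAut.conj g).injective]
              exact hP
            · intro y hy
              obtain ⟨w, hw, rfl⟩ := hy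
              apply hKN
              have := (Subgroup.normalCore_normal N).conj_mem w (hPK hw) g
              simpa using this
          rw [← h1]
          exact ⟨n, hn, by simp⟩
        have htop : N = ⊤ := Subgroup.normalizer_eq_top_iff.2 hPn
        rw [htop, Subgroup.index_top] at hidx
        omega
      haveI := Subgroup.normalCore_normal N
      have hbq := bad_quotient P N.normalCore hP hidx hKN hKcop
      -- the order of the core is a nontrivial power of 2
      have hKdvd : Nat.card N.normalCore ∣ 2 ^ (c + 1) := by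
        have h1 : Nat.card N.normalCore ∣ Nat.card N := Subgroup.card_dvd_of_le hKN
        rw [hNcard] at h1
        exact (Nat.Coprime.dvd_of_dvd_mul_right hKcop h1)
      obtain ⟨j, hj, hKj⟩ := (Nat.dvd_prime_pow Nat.prime_two).1 hKdvd
      have hj1 : 1 ≤ j := by
        rcases j with _ | j
        · exfalso
          rw [pow_zero] at hKj
          have := (Subgroup.card_eq_one.1 hKj)
          rw [this, Subgroup.mem_bot] at hzK
          exact hz1 hzK
        · omega
      have hq : Nat.card (G ⧸ N.normalCore) = 2 ^ (c + 1 - j) * 495 := by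
        have h1 := Subgroup.card_eq_card_quotient_mul_card_subgroup N.normalCore
        rw [hord, hKj] at h1
        have h2 : 2 ^ (c + 1) = 2 ^ (c + 1 - j) * 2 ^ j := by
          rw [← pow_add]; congr 1; omega
        rw [h2] at h1
        have h3 : (2 ^ (c + 1 - j) * 495) * 2 ^ j = Nat.card (G ⧸ N.normalCore) * 2 ^ j := by
          rw [← h1]; ring
        exact (Nat.eq_of_mul_eq_mul_right (by positivity) h3).symm
      exact ih (c + 1 - j) (by omega) (G ⧸ N.normalCore) hq hbq
  · -- the centralizer has odd order: `a = 1` and Cayley's argument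
    obtain ⟨r, hr, hNr⟩ := Cfsg.Agent.Helper95.card_normalizer_eq_mul 11 (by norm_num) P hP
    rw [hNcard] at hNr
    have hCodd : Odd (Nat.card (Subgroup.centralizer (P : Set G))) := Nat.not_even_iff_odd.1 hC
    have h2r : 2 ^ (c + 1) ∣ r := by
      have h1 : 2 ^ (c + 1) ∣ Nat.card (Subgroup.centralizer (P : Set G)) * r :=
        ⟨11, by rw [← hNr]⟩
      have hcop : Nat.Coprime (2 ^ (c + 1)) (Nat.card (Subgroup.centralizer (P : Set G))) := by
        apply Nat.Coprime.pow_left
        rw [Nat.coprime_two_left]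
        exact hCodd
      exact hcop.dvd_of_dvd_mul_left h1
    have h210 : 2 ^ (c + 1) ∣ 10 := h2r.trans hr
    have hc0 : c = 0 := by
      rcases c with _ | c
      · rfl
      · exfalso
        have h4 : 4 ∣ 10 := dvd_trans ⟨2 ^ c, by ring⟩ h210
        omega
    subst hc0
    have h2G : 2 ∣ Nat.card G := by rw [hord]; norm_num
    have : Fact (Nat.Prime 2) := ⟨Nat.prime_two⟩
    obtain ⟨z, hz⟩ := exists_prime_orderOf_dvd_card' (G := G) 2 h2G
    have hzz : z * z = 1 := by
      rw [← pow_two, ← hz]; exact pow_orderOf_eq_one z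
    have hz1 : z ≠ 1 := by
      intro h; rw [h, orderOf_one] at hz; omega
    have hfix : MulAction.fixedBy G z = ∅ := by
      ext g
      simp only [MulAction.mem_fixedBy, smul_eq_mul, Set.mem_empty_iff_false, iff_false]
      intro h
      exact hz1 (mul_right_cancel (h.trans (one_mul g).symm))
    obtain ⟨H, hH⟩ := exists_index_two_of_odd_swaps (X := G) z hzz (by
      rw [hfix, hord]
      simp
      decide)
    exact hno2 H hH

/-- No group of order `2 ^ a * 495` has a subgroup of order 11 with normalizer of index 45. -/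
theorem not_bad_all
    (zstar : ∀ (G : Type u) [Group G] [Finite G] (S : Sylow 2 G) (u : G), orderOf u = 2 → u ∈ S →
        (∀ g : G, g * u * g⁻¹ ∈ S → g * u * g⁻¹ = u) →
        ∃ O : Subgroup G, O.Normal ∧ Odd (Nat.card O) ∧ ∀ g : G, u * g * u⁻¹ * g⁻¹ ∈ O) :
    ∀ (a : ℕ) (G : Type u) [Group G] [Finite G], Nat.card G = 2 ^ a * 495 → ¬ Bad G := by
  intro a
  induction a using Nat.strong_induction_on with
  | _ a ih =>
    intro G _ _ hord
    rcases Nat.eq_zero_or_pos a with h0 | hpos
    · subst h0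
      exact not_bad_495 (by simpa using hord)
    · exact not_bad_step hpos hord (fun b hb H _ _ hH => ih b hb H hH) (zstar G)

/-- A group of order 7920 does not have 45 Sylow 11-subgroups. -/
theorem card_sylow_ne_45 {G : Type u} [Group G] [Finite G] (hord : Nat.card G = 7920)
    (zstar : ∀ (G : Type u) [Group G] [Finite G] (S : Sylow 2 G) (u : G), orderOf u = 2 → u ∈ S →
        (∀ g : G, g * u * g⁻¹ ∈ S → g * u * g⁻¹ = u) →
        ∃ O : Subgroup G, O.Normal ∧ Odd (Nat.card O) ∧ ∀ g : G, u * g * u⁻¹ * g⁻¹ ∈ O) :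
    Nat.card (Sylow 11 G) ≠ 45 := by
  intro h45
  have : Fact (Nat.Prime 11) := ⟨by norm_num⟩
  obtain ⟨P⟩ : Nonempty (Sylow 11 G) := inferInstance
  have hP : Nat.card (P : Subgroup G) = 11 :=
    card_sylow_eleven (by rw [hord]; norm_num) (by rw [hord]; norm_num) P
  have hidx : (Subgroup.normalizer ((P : Subgroup G) : Set G)).index = 45 := by
    have h1 := P.card_eq_index_normalizer
    rw [h45] at h1
    exact h1.symm
  exact not_bad_all zstar 4 G (by rw [hord]; norm_num) ⟨P, hP, hidx⟩

/-- The prime divisors of 7920. -/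
theorem prime_dvd_7920 {p : ℕ} (hp : p.Prime) (h : p ∣ 7920) : p = 2 ∨ p = 3 ∨ p = 5 ∨ p = 11 := by
  have h1 : p ∣ 2 ^ 4 * (3 ^ 2 * (5 * 11)) := by
    have : 2 ^ 4 * (3 ^ 2 * (5 * 11)) = 7920 := by norm_num
    rw [this]; exact h
  rcases (Nat.Prime.dvd_mul hp).1 h1 with h2 | h2
  · left
    exact (Nat.prime_dvd_prime_iff_eq hp Nat.prime_two).1 (hp.dvd_of_dvd_pow h2)
  rcases (Nat.Prime.dvd_mul hp).1 h2 with h3 | h3
  · right; left
    exact (Nat.prime_dvd_prime_iff_eq hp Nat.prime_three).1 (hp.dvd_of_dvd_pow h3)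
  rcases (Nat.Prime.dvd_mul hp).1 h3 with h4 | h4
  · right; right; left
    exact (Nat.prime_dvd_prime_iff_eq hp Nat.prime_five).1 h4
  · right; right; right
    exact (Nat.prime_dvd_prime_iff_eq hp (by norm_num)).1 h4

/-- Elements of orders 22, 33 and one of 55, 15, 10 connect the prime graph of a group of order
7920. -/
theorem false_of_conn {G : Type*} [Group G] (hord : Nat.card G = 7920)
    (hdisc : ∃ A : Set ℕ, (∃ a ∈ A, a.Prime ∧ a ∣ Nat.card G) ∧
      (∃ b ∉ A, b.Prime ∧ b ∣ Nat.card G) ∧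
      ∀ a ∈ A, ∀ b ∉ A, a.Prime → b.Prime → a ∣ Nat.card G → b ∣ Nat.card G →
        ¬ ∃ g : G, orderOf g = a * b)
    (h22 : ∃ g : G, orderOf g = 22) (h33 : ∃ g : G, orderOf g = 33)
    (h5 : (∃ g : G, orderOf g = 55) ∨ (∃ g : G, orderOf g = 15) ∨ (∃ g : G, orderOf g = 10)) :
    False := by
  obtain ⟨A, ⟨a, haA, hap, had⟩, ⟨b, hbA, hbp, hbd⟩, hno⟩ := hdisc
  rw [hord] at had hbd
  have key : ∀ p q : ℕ, p.Prime → q.Prime → p ∣ 7920 → q ∣ 7920 →
      (∃ g : G, orderOf g = p * q) → (p ∈ A ↔ q ∈ A) := by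
    intro p q hp hq hpd hqd hg
    constructor
    · intro hpA
      by_contra hqA
      exact hno p hpA q hqA hp hq (hord ▸ hpd) (hord ▸ hqd) hg
    · intro hqA
      by_contra hpA
      refine hno q hqA p hpA hq hp (hord ▸ hqd) (hord ▸ hpd) ?_
      obtain ⟨g, hg⟩ := hg
      exact ⟨g, by rw [hg, mul_comm]⟩
  have p2 : Nat.Prime 2 := Nat.prime_two
  have p3 : Nat.Prime 3 := Nat.prime_three
  have p5 : Nat.Prime 5 := Nat.prime_five
  have p11 : Nat.Prime 11 := by norm_num
  have e2 : (2 ∈ A ↔ 11 ∈ A) := key 2 11 p2 p11 (by norm_num) (by norm_num) h22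
  have e3 : (3 ∈ A ↔ 11 ∈ A) := key 3 11 p3 p11 (by norm_num) (by norm_num) h33
  have e5 : (5 ∈ A ↔ 11 ∈ A) := by
    rcases h5 with h | h | h
    · exact key 5 11 p5 p11 (by norm_num) (by norm_num) h
    · exact (key 3 5 p3 p5 (by norm_num) (by norm_num) h).symm.trans e3
    · exact (key 2 5 p2 p5 (by norm_num) (by norm_num) h).symm.trans e2
  have hA : ∀ p, (p = 2 ∨ p = 3 ∨ p = 5 ∨ p = 11) → (p ∈ A ↔ 11 ∈ A) := by
    rintro p (rfl | rfl | rfl | rfl)
    exacts [e2, e3, e5, Iff.rfl]
  exact hbA ((hA b (prime_dvd_7920 hbp hbd)).2 ((hA a (prime_dvd_7920 hap had)).1 haA))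

end Cfsg.Agent.Helper83.Ord7920
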