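import Mathlib
import Cfsg.Prelude.Def_RootSubgroups
import Cfsg.Agent.S5021

set_option autoImplicit false

/-!
# Rank one input for S5022: the braid relations for all pairs `(a ^ j, b ^ (1/j))`
-/

namespace Cfsg.Agent.Helper83.R1

open Cfsg Cfsg.Agent.Helper83 Cfsg.Agent.Helper21.RankOneAlg Cfsg.Agent.Helper21.RankOneSpecial
open scoped IsMulCommutative

variable {X : Type*} [Group X] {A B : Subgroup X}

/-- an element of `A` commuting with a non-identity element of `B` is trivial -/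
theorem r1_eq_one_of_comm (hp : IsRankOnePair A B) {x y : X} (hx : x ∈ A) (hy : y ∈ B) (hy1 : y ≠ 1)
    (hc : x * y = y * x) : x = 1 := by
  obtain ⟨a', ha', -, e⟩ := hp.cond_right y hy hy1
  -- e : conjBy B a'⁻¹ = conjBy A y⁻¹
  have hc' : x * y⁻¹ = y⁻¹ * x := by
    have : y⁻¹ * (x * y) * y⁻¹ = y⁻¹ * (y * x) * y⁻¹ := by rw [hc]
    have h3 : y⁻¹ * x = x * y⁻¹ := by simpa [mul_assoc] using this
    exact h3.symm
  have h1 : conjBy B (x * a'⁻¹) = conjBy B a'⁻¹ := by
    rw [← conjBy_conjBy, e, conjBy_conjBy, hc', ← conjBy_conjBy, conjBy_eq_self_of_mem hx]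
  have h2 := rankOne_conj_inj hp (A.mul_mem hx (A.inv_mem ha')) (A.inv_mem ha') h1
  exact mul_right_cancel (h2.trans (one_mul _).symm)

/-- `B` has exponent `p` when `A` has -/
theorem r1_pow_right (hp : IsRankOnePair A B) {p : ℕ} (hA : ∀ a ∈ A, a ^ p = 1) {b : X} (hb : b ∈ B) :
    b ^ p = 1 := by
  obtain ⟨g, -, hg⟩ := right_mem_unipotentSubgroups hp
  rw [hg, mem_conjBy] at hb
  have h1 := hA _ hb
  have h2 : (g⁻¹ * b * g) ^ p = g⁻¹ * b ^ p * g := by
    have := conj_pow (a := g⁻¹) (b := b) (i := p)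
    rw [inv_inv] at this
    exact this
  rw [h2] at h1
  have : b ^ p = g * (g⁻¹ * b ^ p * g) * g⁻¹ := by group
  rw [this, h1]; group

/-- Timmesfeld's `b(a)` in the convention of the statement equals helper21's `bmap` -/
theorem r1_bmap_eq (hs : IsSpecialRankOnePair A B) {a b : X} (ha : a ∈ A) (ha1 : a ≠ 1) (hb : b ∈ B)
    (hab' : conjBy A b⁻¹ = conjBy B a⁻¹) : bmap A B a = b := by
  have h1 : bmap A B a⁻¹ = b⁻¹ :=
    bmap_unique hs.1 (A.inv_mem ha) (by simpa using ha1) (B.inv_mem hb) hab'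
  rw [bmap_inv hs ha] at h1
  exact inv_injective h1

/-- `b(a ^ j) ^ j = b(a)` for `1 ≤ j < p` -/
theorem r1_bmap_pow (hs : IsSpecialRankOnePair A B) (hab : HasAbelianUnipotents A B)
    {p : ℕ} [Fact p.Prime] (hA : IsElementaryAbelian p A) {a : X} (ha : a ∈ A) (ha1 : a ≠ 1)
    {j : ℕ} (hj : 1 ≤ j) (hjp : j < p) : (bmap A B (a ^ j)) ^ j = bmap A B a := by
  have iA : IsMulCommutative A := hab.1
  have iB : IsMulCommutative B := hab.2
  have D := Cfsg.Agent.S5021.data (A := A) (B := B) hs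
  have hord : orderOf a = p := by
    have h1 : orderOf a ∣ p := orderOf_dvd_of_pow_eq_one (hA.2 a ha)
    rcases (Nat.dvd_prime (Fact.out : p.Prime)).1 h1 with h | h
    · exact absurd (orderOf_eq_one_iff.1 h) ha1
    · exact h
  set x : Additive A := Additive.ofMul ⟨a, ha⟩ with hx
  have hsm : ∀ m, Smooth j m → m • x ≠ 0 := by
    intro m hm e
    have e1 : a ^ m = 1 := by
      have := congrArg (fun z => ((Additive.toMul z : A) : X)) e
      simpa [hx] using this
    have h2 : p ∣ m := by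
      have h0 : orderOf a ∣ m := orderOf_dvd_of_pow_eq_one e1
      rwa [hord] at h0
    have := hm.2 p (Fact.out : p.Prime) h2
    omega
  have hR := D.R j hj x hsm
  have := congrArg (fun z => ((Additive.toMul z : B) : X)) hR
  simpa [Cfsg.Agent.S5021.fAdd, hx] using this

/-- all the rank one input needed for S5022 -/
theorem r1_facts (h : IsRankOneGroup X A B) (hs : IsSpecialRankOnePair A B)
    (hab : HasAbelianUnipotents A B) {p : ℕ} [Fact p.Prime] (hA : IsElementaryAbelian p A)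
    {a b : X} (ha : a ∈ A) (ha1 : a ≠ 1) (hb : b ∈ B) (hb1 : b ≠ 1)
    (hab' : conjBy A b⁻¹ = conjBy B a⁻¹) :
    a ^ p = 1 ∧ b ^ p = 1 ∧
    (∀ t : ZMod p, t ≠ 0 →
      a ^ t.val * (b ^ (t⁻¹).val)⁻¹ * a ^ t.val =
        (b ^ (t⁻¹).val)⁻¹ * a ^ t.val * (b ^ (t⁻¹).val)⁻¹) ∧
    (∀ s : ZMod p, s ≠ 0 → a ^ s.val * b ≠ b * a ^ s.val) ∧
    (∀ t : ZMod p, a ≠ b ^ t.val) := by
  have hp := h.2
  have hpp : p.Prime := Fact.out
  have hap : a ^ p = 1 := hA.2 a ha
  have hbp : b ^ p = 1 := r1_pow_right hp hA.2 hb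
  have hord : orderOf a = p := by
    have h1 : orderOf a ∣ p := orderOf_dvd_of_pow_eq_one hap
    rcases (Nat.dvd_prime hpp).1 h1 with h | h
    · exact absurd (orderOf_eq_one_iff.1 h) ha1
    · exact h
  have hpow_ne : ∀ s : ZMod p, s ≠ 0 → a ^ s.val ≠ 1 := by
    intro s hs0 e
    have h2 : p ∣ s.val := by
      have h0 : orderOf a ∣ s.val := orderOf_dvd_of_pow_eq_one e
      rwa [hord] at h0
    have h3 : s.val < p := ZMod.val_lt s
    have h4 : s.val ≠ 0 := fun h0 => hs0 ((ZMod.val_eq_zero s).1 h0)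
    exact absurd (Nat.le_of_dvd (Nat.pos_of_ne_zero h4) h2) (by omega)
  have hbm : bmap A B a = b := r1_bmap_eq hs ha ha1 hb hab'
  refine ⟨hap, hbp, ?_, ?_, ?_⟩
  · intro t ht
    set j := t.val with hj
    set k := (t⁻¹).val with hk
    have hj1 : 1 ≤ j := by
      have : j ≠ 0 := fun h0 => ht ((ZMod.val_eq_zero t).1 h0)
      omega
    have hjp : j < p := ZMod.val_lt t
    have haj : a ^ j ∈ A := A.pow_mem ha j
    have haj1 : a ^ j ≠ 1 := hpow_ne t ht
    set β := bmap A B (a ^ j) with hβ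
    have hβB : β ∈ B := bmap_mem A B _
    have hβp : β ^ p = 1 := r1_pow_right hp hA.2 hβB
    have hβj : β ^ j = b := by rw [hβ, r1_bmap_pow hs hab hA ha ha1 hj1 hjp, hbm]
    have hjk : (j * k) % p = 1 := by
      have h1 : ((j * k : ℕ) : ZMod p) = 1 := by
        rw [Nat.cast_mul, hj, hk, ZMod.natCast_zmod_val, ZMod.natCast_zmod_val]
        exact mul_inv_cancel₀ ht
      have h2 := congrArg ZMod.val h1
      rw [ZMod.val_natCast] at h2
      rw [h2]
      have : Fact (1 < p) := ⟨hpp.one_lt⟩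
      exact ZMod.val_one p
    have hbk : b ^ k = β := by
      rw [← hβj, ← pow_mul]
      have : j * k = (j * k) % p + p * ((j * k) / p) := (Nat.mod_add_div _ _).symm
      rw [this, pow_add, pow_mul, hβp, one_pow, mul_one, hjk, pow_one]
    rw [hbk]
    exact braid hs haj haj1
  · intro s hs0 hc
    exact hpow_ne s hs0 (r1_eq_one_of_comm hp (A.pow_mem ha _) hb hb1 hc)
  · intro t e
    have haB : a ∈ B := by rw [e]; exact B.pow_mem hb _
    have : a ∈ A ⊓ Subgroup.normalizer (B : Set X) := ⟨ha, Subgroup.le_normalizer haB⟩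
    rw [rankOne_inf_normalizer hp] at this
    exact ha1 this

end Cfsg.Agent.Helper83.R1
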