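import Mathlib
import Cfsg.Prelude.Def_RootSubgroups
import Cfsg.Agent.Lib.Helper21.RankOneSpecial

set_option autoImplicit false

/-!
# Definitions for the R2 lemma server (S5020)
-/

namespace Cfsg.Agent.Helper83.R2

open Cfsg Cfsg.Agent.Helper21.RankOneSpecial

variable {X : Type*} [Group X]

/-- Timmesfeld's `n(a) = a b(a)⁻¹ a` (with `b(a) = bmap A B a`). -/
noncomputable def nEl (A B : Subgroup X) (a : X) : X := a * (bmap A B a)⁻¹ * a

end Cfsg.Agent.Helper83.R2
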