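import Mathlib
import Cfsg.Prelude.Def_OddOrderLocal

set_option autoImplicit false

/-!
# Generic pieces for B-G Theorem 15.2(a) (statement S1355)

`M_F ≠ 1`, `M' < M` and "the image of `M'` in `M / M_F` is nilpotent" from hypothesis-parametrised
input (complements with nilpotent derived subgroup, resp. the normal Sylow subgroup `Q` of `M_σ`).
-/

namespace Cfsg.Agent.Helper83.BG152

open Subgroup Cfsg

variable {G : Type*} [Group G]

theorem commutator_eq_map_subtype (M : Subgroup G) :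
    ⁅M, M⁆ = Subgroup.map M.subtype (commutator ↥M) := by
  rw [_root_.commutator_def, Subgroup.map_commutator, ← MonoidHom.range_eq_map,
    Subgroup.range_subtype]

/-- `M' < M` for a nontrivial solvable subgroup. -/
theorem commutator_lt_of_solvable {M : Subgroup G} (hs : Group.IsSolvable ↥M) (hne : M ≠ ⊥) :
    ⁅M, M⁆ < M := by
  haveI := hs
  haveI : Nontrivial ↥M := (Subgroup.nontrivial_iff_ne_bot M).2 hne
  have h := IsSolvable.commutator_lt_top_of_nontrivial ↥M
  rw [commutator_eq_map_subtype]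
  refine lt_of_le_of_ne (Subgroup.map_subtype_le _) ?_
  intro heq
  apply h.ne
  apply Subgroup.map_injective M.subtype_injective
  rw [heq, ← MonoidHom.range_eq_map, Subgroup.range_subtype]

theorem nilpotent_of_le {H : Type*} [Group H] {A B : Subgroup H} (hB : Group.IsNilpotent ↥B)
    (h : A ≤ B) : Group.IsNilpotent ↥A := by
  haveI := hB
  exact Group.nilpotent_of_mulEquiv (Subgroup.subgroupOfEquivOfLe h)

theorem nilpotent_map {H H' : Type*} [Group H] [Group H'] {A : Subgroup H}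
    (hA : Group.IsNilpotent ↥A) (f : H →* H') : Group.IsNilpotent ↥(A.map f) := by
  haveI := hA
  exact Group.nilpotent_of_surjective (f.subgroupMap A) (f.subgroupMap_surjective A)

theorem nilpotent_subgroupOf {D M : Subgroup G} (hD : Group.IsNilpotent ↥D) (h : D ≤ M) :
    Group.IsNilpotent ↥(D.subgroupOf M) := by
  haveI := hD
  exact Group.nilpotent_of_mulEquiv (Subgroup.subgroupOfEquivOfLe h).symm

/-- If every element of `M'` is a product `a * b` with `a ∈ M_F` and `b` in a nilpotent subgroup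
`D ≤ M`, then the image of `M'` in `M / M_F` is nilpotent. -/
theorem nilpotent_image_of_decomp (M D : Subgroup G) (hDM : D ≤ M)
    (hnil : Group.IsNilpotent ↥D)
    (hdec : ∀ x ∈ ⁅M, M⁆, ∃ a ∈ fittingHallOf M, ∃ b ∈ D, x = a * b) :
    Group.IsNilpotent
      ↥((commutator ↥M).map (QuotientGroup.mk' (Cfsg.fittingHall ↥M))) := by
  set N := Cfsg.fittingHall ↥M with hN
  set D' := D.subgroupOf M with hD'
  have hle : commutator ↥M ≤ N ⊔ D' := by
    intro x hx
    have hx' : (x : G) ∈ ⁅M, M⁆ := by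
      rw [commutator_eq_map_subtype]
      exact ⟨x, hx, rfl⟩
    obtain ⟨a, ha, b, hb, hab⟩ := hdec _ hx'
    obtain ⟨a', ha', rfl⟩ := ha
    have hbM : b ∈ M := hDM hb
    have hxe : x = a' * ⟨b, hbM⟩ := by
      apply Subtype.ext
      simpa using hab
    rw [hxe]
    exact Subgroup.mul_mem_sup ha' (Subgroup.mem_subgroupOf.2 hb)
  have hmap : (commutator ↥M).map (QuotientGroup.mk' N) ≤ D'.map (QuotientGroup.mk' N) := by
    refine (Subgroup.map_mono hle).trans ?_
    rw [Subgroup.map_sup]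
    have h0 : N.map (QuotientGroup.mk' N) = ⊥ := by
      rw [Subgroup.map_eq_bot_iff, QuotientGroup.ker_mk']
    rw [h0, bot_sup_eq]
  exact nilpotent_of_le (nilpotent_map (nilpotent_subgroupOf hnil hDM) _) hmap

/-- Case `M_F = M_σ`: a complement `E` of `M_σ` with `E'` nilpotent. -/
theorem nilpotent_image_caseA (M E : Subgroup G) (hE : IsComplIn E (sigmaCore M) M)
    (heq : fittingHallOf M = sigmaCore M) (hnil : Group.IsNilpotent ↥⁅E, E⁆) :
    Group.IsNilpotent
      ↥((commutator ↥M).map (QuotientGroup.mk' (Cfsg.fittingHall ↥M))) := by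
  have hEM : E ≤ M := hE.1
  have hEE : ⁅E, E⁆ ≤ E := by
    rw [Subgroup.commutator_le]
    intro g₁ h₁ g₂ h₂
    rw [commutatorElement_def]
    exact E.mul_mem (E.mul_mem (E.mul_mem h₁ h₂) (E.inv_mem h₁)) (E.inv_mem h₂)
  apply nilpotent_image_of_decomp M ⁅E, E⁆ (hEE.trans hEM) hnil
  set N : Subgroup ↥M := Cfsg.piCore (Cfsg.sigma M) ↥M with hN
  have hσ : sigmaCore M = N.map M.subtype := rfl
  set E' := E.subgroupOf M with hE'
  have hsup : E' ⊔ N = ⊤ := by
    rw [eq_top_iff]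
    intro m _
    obtain ⟨a, ha, b, hb, hab⟩ := hE.2.2.2 m.1 m.2
    rw [hσ] at hb
    obtain ⟨b', hb', rfl⟩ := hb
    have hme : m = ⟨a, hEM ha⟩ * b' := by
      apply Subtype.ext
      simpa using hab
    rw [hme]
    exact Subgroup.mul_mem_sup (Subgroup.mem_subgroupOf.2 ha) hb'
  set φ := QuotientGroup.mk' N with hφ
  have hker : φ.ker = N := QuotientGroup.ker_mk' N
  have h1 : Subgroup.map φ E' = Subgroup.map φ ⊤ := by
    rw [Subgroup.map_eq_map_iff, hker, hsup]
    simp
  have h2 : Subgroup.map φ ⁅(⊤ : Subgroup ↥M), ⊤⁆ = Subgroup.map φ ⁅E', E'⁆ := by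
    rw [Subgroup.map_commutator, Subgroup.map_commutator, h1]
  rw [Subgroup.map_eq_map_iff, hker] at h2
  have h3 : commutator ↥M ≤ ⁅E', E'⁆ ⊔ N := by
    rw [← h2, _root_.commutator_def]
    exact le_sup_left
  have hmapE : (⁅E', E'⁆).map M.subtype = ⁅E, E⁆ := by
    rw [Subgroup.map_commutator, Subgroup.map_subgroupOf_eq_of_le hEM]
  intro x hx
  rw [commutator_eq_map_subtype] at hx
  obtain ⟨x', hx', rfl⟩ := hx
  obtain ⟨c, hc, n, hn, hcn⟩ := Subgroup.mem_sup_of_normal_right.1 (h3 hx')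
  refine ⟨M.subtype (c * n * c⁻¹), ?_, M.subtype c, ?_, ?_⟩
  · rw [heq, hσ]
    exact ⟨c * n * c⁻¹, (inferInstance : N.Normal).conj_mem n hn c, rfl⟩
  · rw [← hmapE]
    exact ⟨c, hc, rfl⟩
  · rw [← map_mul, ← hcn]
    congr 1
    group

/-- Schur-Zassenhaus in the `IsComplIn` language: a normal Hall subgroup `Q` of `X` has a
complement. -/
theorem exists_isComplIn_of_coprime [Finite G] {Q X : Subgroup G} (hQX : Q ≤ X)
    (hn : X ≤ normalizer (Q : Set G)) (hcop : (Nat.card Q).Coprime (Q.relIndex X)) :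
    ∃ D : Subgroup G, IsComplIn Q D X := by
  set N : Subgroup ↥X := Q.subgroupOf X with hN
  haveI : N.Normal := (Subgroup.normal_subgroupOf_iff_le_normalizer hQX).2 hn
  have hcard : Nat.card N = Nat.card Q :=
    Nat.card_congr (Subgroup.subgroupOfEquivOfLe hQX).toEquiv
  have hcop' : (Nat.card N).Coprime N.index := by
    rw [hcard]
    exact hcop
  obtain ⟨H, hH⟩ := Subgroup.exists_right_complement'_of_coprime hcop'
  refine ⟨H.map X.subtype, hQX, Subgroup.map_subtype_le _, ?_, ?_⟩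
  · rw [eq_bot_iff]
    rintro x ⟨hxQ, ⟨h, hh, rfl⟩⟩
    have hdisj := hH.disjoint
    have : h ∈ N ⊓ H := ⟨Subgroup.mem_subgroupOf.2 hxQ, hh⟩
    rw [hdisj.eq_bot, Subgroup.mem_bot] at this
    rw [Subgroup.mem_bot, this]
    rfl
  · intro m hm
    obtain ⟨⟨⟨n, hn'⟩, ⟨h, hh⟩⟩, hmul, -⟩ := hH.existsUnique (⟨m, hm⟩ : ↥X)
    refine ⟨(n : G), Subgroup.mem_subgroupOf.1 hn', (h : G), ⟨h, hh, rfl⟩, ?_⟩
    have := congrArg Subtype.val hmul
    simpa using this.symm

/-- Case `M_F ≠ M_σ`, from the conclusion of B-G 15.2 (statement S1437): `M_σ = M'` has a normal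
Sylow `q`-subgroup `Q ≤ M_F` all of whose complements are nilpotent. -/
theorem caseB [Finite G] (M Q S : Subgroup G) (q : ℕ) (hq : q.Prime)
    (hS : S = ⁅M, M⁆) (hSM : S ≤ M)
    (hQF : Q ≤ fittingHallOf M) (hFS : fittingHallOf M ≤ S)
    (hQn : M ≤ normalizer (Q : Set G)) (hQp : IsPGroup q Q) (hQidx : ¬ q ∣ Q.relIndex S)
    (hD : ∀ D : Subgroup G, IsComplIn Q D S →
      Group.IsNilpotent ↥D ∧ Q ⊓ centralizer (D : Set G) < Q) :
    fittingHallOf M ≠ ⊥ ∧ Group.IsNilpotent
      ↥((commutator ↥M).map (QuotientGroup.mk' (Cfsg.fittingHall ↥M))) := by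
  haveI := Fact.mk hq
  have hQS : Q ≤ S := hQF.trans hFS
  have hcop : (Nat.card Q).Coprime (Q.relIndex S) := by
    obtain ⟨k, hk⟩ := IsPGroup.iff_card.mp hQp
    rw [hk]
    exact Nat.Coprime.pow_left k ((Nat.Prime.coprime_iff_not_dvd hq).2 hQidx)
  obtain ⟨D, hDc⟩ := exists_isComplIn_of_coprime hQS (hSM.trans hQn) hcop
  obtain ⟨hDnil, hlt⟩ := hD D hDc
  constructor
  · intro hbot
    have hQbot : Q = ⊥ := by
      rw [eq_bot_iff, ← hbot]
      exact hQF
    rw [hQbot] at hlt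
    exact (not_lt_bot hlt)
  · apply nilpotent_image_of_decomp M D (hDc.2.1.trans hSM) hDnil
    intro x hx
    rw [← hS] at hx
    obtain ⟨a, ha, b, hb, hab⟩ := hDc.2.2.2 x hx
    exact ⟨a, hQF ha, b, hb, hab⟩

end Cfsg.Agent.Helper83.BG152
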