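import Mathlib

set_option autoImplicit false

/-!
# Commuting modulo a subgroup, and a nilpotency criterion for subgroups

`cmod N Q` : the elements of the normalizer of `N` whose commutators with all of `Q` lie in `N`.
This is a subgroup, which makes it easy to check `⁅P, Q⁆ ≤ N` on generators of `P`.
-/

namespace Cfsg.Agent.Helper83

open scoped commutatorElement

variable {G : Type*} [Group G]

/-- elements of the normalizer of `N` commuting with `Q` modulo `N` -/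
def cmod (N Q : Subgroup G) : Subgroup G where
  carrier := {x | x ∈ Subgroup.normalizer (N : Set G) ∧ ∀ q ∈ Q, ⁅x, q⁆ ∈ N}
  one_mem' := ⟨Subgroup.one_mem _, fun q _ => by simp⟩
  mul_mem' := by
    rintro x y ⟨hx, hx'⟩ ⟨hy, hy'⟩
    refine ⟨Subgroup.mul_mem _ hx hy, fun q hq => ?_⟩
    have e : ⁅x * y, q⁆ = x * ⁅y, q⁆ * x⁻¹ * ⁅x, q⁆ := by
      simp only [commutatorElement_def]; group
    rw [e]
    exact N.mul_mem ((Subgroup.mem_normalizer_iff.1 hx _).1 (hy' q hq)) (hx' q hq)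
  inv_mem' := by
    rintro x ⟨hx, hx'⟩
    refine ⟨Subgroup.inv_mem _ hx, fun q hq => ?_⟩
    have e : ⁅x⁻¹, q⁆ = x⁻¹ * (⁅x, q⁆)⁻¹ * x⁻¹⁻¹ := by
      simp only [commutatorElement_def]; group
    rw [e]
    exact (Subgroup.mem_normalizer_iff.1 (Subgroup.inv_mem _ hx) _).1 (N.inv_mem (hx' q hq))

theorem mem_cmod {N Q : Subgroup G} {x : G} :
    x ∈ cmod N Q ↔ x ∈ Subgroup.normalizer (N : Set G) ∧ ∀ q ∈ Q, ⁅x, q⁆ ∈ N := Iff.rfl

theorem commutator_le_of_le_cmod {N P Q : Subgroup G} (h : P ≤ cmod N Q) : ⁅P, Q⁆ ≤ N := by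
  rw [Subgroup.commutator_le]
  intro p hp q hq
  exact (h hp).2 q hq

theorem le_cmod_of {N P Q : Subgroup G} (hP : P ≤ Subgroup.normalizer (N : Set G))
    (h : ⁅P, Q⁆ ≤ N) : P ≤ cmod N Q := by
  intro p hp
  exact ⟨hP hp, fun q hq => h (Subgroup.commutator_mem_commutator hp hq)⟩

/-- `⁅P₁ ⊔ P₂, Q⁆ ≤ N` can be checked on the two pieces, if both normalize `N`. -/
theorem commutator_sup_le {N P₁ P₂ Q : Subgroup G}
    (hN : P₁ ⊔ P₂ ≤ Subgroup.normalizer (N : Set G))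
    (h1 : ⁅P₁, Q⁆ ≤ N) (h2 : ⁅P₂, Q⁆ ≤ N) : ⁅P₁ ⊔ P₂, Q⁆ ≤ N :=
  commutator_le_of_le_cmod (sup_le (le_cmod_of (le_sup_left.trans hN) h1)
    (le_cmod_of (le_sup_right.trans hN) h2))

theorem commutator_sup_le' {N P Q₁ Q₂ : Subgroup G}
    (hN : Q₁ ⊔ Q₂ ≤ Subgroup.normalizer (N : Set G))
    (h1 : ⁅P, Q₁⁆ ≤ N) (h2 : ⁅P, Q₂⁆ ≤ N) : ⁅P, Q₁ ⊔ Q₂⁆ ≤ N := by
  rw [Subgroup.commutator_comm]
  rw [Subgroup.commutator_comm] at h1 h2
  exact commutator_sup_le hN h1 h2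

/-- `⁅closure s, Q⁆ ≤ N` can be checked on the generators. -/
theorem commutator_closure_le {N Q : Subgroup G} {s : Set G}
    (hs : ∀ x ∈ s, x ∈ Subgroup.normalizer (N : Set G))
    (h : ∀ x ∈ s, ∀ q ∈ Q, ⁅x, q⁆ ∈ N) : ⁅Subgroup.closure s, Q⁆ ≤ N := by
  apply commutator_le_of_le_cmod
  rw [Subgroup.closure_le]
  intro x hx
  exact ⟨hs x hx, h x hx⟩

/-- `⁅⁅A, F⁆, Q⁆ ≤ N` can be checked on the generating commutators. -/
theorem commutator_commutator_le {N A F Q : Subgroup G}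
    (hs : ∀ a ∈ A, ∀ f ∈ F, ⁅a, f⁆ ∈ Subgroup.normalizer (N : Set G))
    (h : ∀ a ∈ A, ∀ f ∈ F, ∀ q ∈ Q, ⁅⁅a, f⁆, q⁆ ∈ N) : ⁅⁅A, F⁆, Q⁆ ≤ N := by
  rw [Subgroup.commutator_def A F]
  apply commutator_closure_le
  · rintro x ⟨a, ha, f, hf, rfl⟩
    exact hs a ha f hf
  · rintro x ⟨a, ha, f, hf, rfl⟩ q hq
    exact h a ha f hf q hq

/-- A subgroup `R` with a finite chain `K 0 ≥ R`, ..., `K n ⊓ R = ⊥` such that
`⁅K i ⊓ R, R⁆ ≤ K (i+1)` is nilpotent. -/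
theorem isNilpotent_of_series (R : Subgroup G) (n : ℕ) (K : ℕ → Subgroup G)
    (h0 : R ≤ K 0) (hn : K n ⊓ R = ⊥)
    (hstep : ∀ i, ∀ x ∈ K i, x ∈ R → ∀ g ∈ R, ⁅x, g⁆ ∈ K (i + 1)) : Group.IsNilpotent R := by
  rw [Subgroup.nilpotent_iff_finite_descending_central_series]
  refine ⟨n, fun i => (K i).subgroupOf R, ⟨?_, ?_⟩, ?_⟩
  · exact Subgroup.subgroupOf_eq_top.2 h0
  · intro x i hx g
    rw [Subgroup.mem_subgroupOf] at hx ⊢
    have := hstep i x.1 hx x.2 g.1 g.2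
    simpa [commutatorElement_def] using this
  · rw [Subgroup.subgroupOf_eq_bot, disjoint_iff]
    exact hn

/-- If `P` is a subgroup all of whose elements `r` satisfy `r K r⁻¹ ≤ K`, then `P` normalizes `K`. -/
theorem le_normalizer_of_conj_le {P K : Subgroup G}
    (h : ∀ r ∈ P, ∀ k ∈ K, r * k * r⁻¹ ∈ K) : P ≤ Subgroup.normalizer (K : Set G) := by
  intro r hr
  rw [Subgroup.mem_normalizer_iff]
  intro k
  constructor
  · exact h r hr k
  · intro hk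
    have := h r⁻¹ (P.inv_mem hr) _ hk
    simpa [mul_assoc] using this

end Cfsg.Agent.Helper83
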