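import Mathlib
import Cfsg.Prelude.Def_RootSubgroups
import Cfsg.Agent.Lib.Helper21.RankOneSpecial
import Cfsg.Agent.Lib.Helper83.R2Defs

set_option autoImplicit false

namespace Cfsg.Agent.Helper83.R2

open Cfsg Cfsg.Agent.Helper83 Cfsg.Agent.Helper21.RankOneSpecial

variable {X : Type*} [Group X] {A B : Subgroup X}

/-- (N1) `n = nEl A B a` swaps `A` and `B` and conjugates `(β a)⁻¹` to `a`. -/
theorem nEl_conj (hs : IsSpecialRankOnePair A B) {a : X} (ha : a ∈ A) (ha1 : a ≠ 1) :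
    conjBy A (nEl A B a) = B ∧ conjBy B (nEl A B a) = A ∧
      nEl A B a * (bmap A B a)⁻¹ * (nEl A B a)⁻¹ = a := by
  have h := hs.1
  obtain ⟨h1, h2⟩ := bmap_spec h ha ha1
  have hbr := braid hs ha ha1
  have hinv : a⁻¹ ≠ 1 := by simpa using ha1
  obtain ⟨-, h3⟩ := bmap_spec h (A.inv_mem ha) hinv
  rw [bmap_inv hs ha] at h3
  -- h2 : conjBy A β = conjBy B a ; h3 : conjBy A β⁻¹ = conjBy B a⁻¹
  set β := bmap A B a with hβ
  have hβB : β ∈ B := bmap_mem A B a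
  refine ⟨?_, ?_, ?_⟩
  · -- n A n⁻¹ = a β⁻¹ a A ... = B
    have : nEl A B a = a * (β⁻¹ * a) := by unfold nEl; rw [← hβ]; group
    rw [this, ← conjBy_conjBy, ← conjBy_conjBy, conjBy_eq_self_of_mem ha, h3, conjBy_conjBy,
      mul_inv_cancel, conjBy_one]
  · have : nEl A B a = β⁻¹ * (a * β⁻¹) := by
      unfold nEl; rw [← hβ, hbr]; group
    rw [this, ← conjBy_conjBy, ← conjBy_conjBy, conjBy_eq_self_of_mem (B.inv_mem hβB), ← h2,
      conjBy_conjBy, inv_mul_cancel, conjBy_one]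
  · have e1 : nEl A B a = β⁻¹ * a * β⁻¹ := by unfold nEl; rw [← hβ, hbr]
    have e2 : nEl A B a = a * β⁻¹ * a := by unfold nEl; rw [← hβ]
    calc nEl A B a * β⁻¹ * (nEl A B a)⁻¹
        = (β⁻¹ * a * β⁻¹) * β⁻¹ * (β⁻¹ * a * β⁻¹)⁻¹ := by rw [← e1]
      _ = (β⁻¹ * a * β⁻¹) * a⁻¹ * β := by group
      _ = (a * β⁻¹ * a) * a⁻¹ * β := by rw [hbr]
      _ = a := by group

end Cfsg.Agent.Helper83.R2
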