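import Mathlib
import Cfsg.Prelude.Def_RootSubgroups
import Cfsg.Agent.Lib.Helper21.RankOneSpecial
import Cfsg.Agent.Lib.Helper83.R2Defs
import Cfsg.Agent.Lib.Helper83.R2N1

set_option autoImplicit false

namespace Cfsg.Agent.Helper83.R2

open Cfsg Cfsg.Agent.Helper83 Cfsg.Agent.Helper21.RankOneSpecial

variable {X : Type*} [Group X] {A B : Subgroup X}

/-- (M) the formula for the action of `h = n(a) n(c)⁻¹` on `c` (`c ≠ a`). -/
theorem mu_formula (hs : IsSpecialRankOnePair A B) {a c : X} (ha : a ∈ A) (ha1 : a ≠ 1)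
    (hc : c ∈ A) (hc1 : c ≠ 1) (hca : c ≠ a) :
    (nEl A B a * (nEl A B c)⁻¹) * c * (nEl A B a * (nEl A B c)⁻¹)⁻¹ =
      a * bmap B A ((bmap A B a)⁻¹ * bmap A B (a * c⁻¹)) := by
  have h := hs.1
  obtain ⟨-, -, ncc⟩ := nEl_conj hs hc hc1
  obtain ⟨mA, mB, -⟩ := nEl_conj hs ha ha1
  have hd : a * c⁻¹ ∈ A := A.mul_mem ha (A.inv_mem hc)
  have hd1 : a * c⁻¹ ≠ 1 := by
    intro e
    exact hca (mul_inv_eq_one.1 e).symm
  have hy1 : (bmap A B a)⁻¹ * bmap A B (a * c⁻¹) ≠ 1 := by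
    intro e
    have e1 : bmap A B (a * c⁻¹) = bmap A B a := (inv_mul_eq_one.1 e).symm
    have e2 : a * c⁻¹ = a := bmap_inj h hd ha e1
    apply hc1
    have : c⁻¹ = 1 := mul_left_cancel (e2.trans (mul_one a).symm)
    simpa using this
  have hyB : (bmap A B a)⁻¹ * bmap A B (a * c⁻¹) ∈ B :=
    B.mul_mem (B.inv_mem (bmap_mem A B a)) (bmap_mem A B _)
  have s1 : (nEl A B c)⁻¹ * c * nEl A B c = (bmap A B c)⁻¹ := by
    have : (nEl A B c)⁻¹ * (nEl A B c * (bmap A B c)⁻¹ * (nEl A B c)⁻¹) * nEl A B c =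
        (bmap A B c)⁻¹ := by group
    rwa [ncc] at this
  have e0 : (nEl A B a * (nEl A B c)⁻¹) * c * (nEl A B a * (nEl A B c)⁻¹)⁻¹ =
      nEl A B a * (bmap A B c)⁻¹ * (nEl A B a)⁻¹ := by
    rw [← s1]; group
  rw [e0]
  have hwA : nEl A B a * (bmap A B c)⁻¹ * (nEl A B a)⁻¹ ∈ A := by
    have := conj_mem_conjBy (A := B) (g := nEl A B a) (B.inv_mem (bmap_mem A B c))
    rwa [mB] at this
  apply rankOne_conj_inj h hwA (A.mul_mem ha (bmap_mem B A _))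
  -- compute both sides
  have hAB : conjBy B (nEl A B a)⁻¹ = A := (conjBy_eq_iff.1 mA).symm
  have hcinv : c⁻¹ ≠ 1 := by simpa using hc1
  have k1 : conjBy A (bmap A B c)⁻¹ = conjBy B c⁻¹ := by
    have := (bmap_spec h (A.inv_mem hc) hcinv).2
    rwa [bmap_inv hs hc] at this
  have k2 : conjBy B (a * c⁻¹) = conjBy A (bmap A B (a * c⁻¹)) := ((bmap_spec h hd hd1).2).symm
  have k3 : conjBy A ((bmap A B a)⁻¹ * bmap A B (a * c⁻¹)) =
      conjBy B (bmap B A ((bmap A B a)⁻¹ * bmap A B (a * c⁻¹))) :=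
    ((bmap_spec (RankOnePair_symm h) hyB hy1).2).symm
  have hn : nEl A B a * c⁻¹ = a * ((bmap A B a)⁻¹ * (a * c⁻¹)) := by
    unfold nEl; group
  calc conjBy B (nEl A B a * (bmap A B c)⁻¹ * (nEl A B a)⁻¹)
      = conjBy (conjBy (conjBy B (nEl A B a)⁻¹) (bmap A B c)⁻¹) (nEl A B a) := by
        rw [conjBy_conjBy, conjBy_conjBy, mul_assoc]
    _ = conjBy (conjBy B c⁻¹) (nEl A B a) := by rw [hAB, k1]
    _ = conjBy B (a * ((bmap A B a)⁻¹ * (a * c⁻¹))) := by rw [conjBy_conjBy, hn]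
    _ = conjBy (conjBy (conjBy B (a * c⁻¹)) (bmap A B a)⁻¹) a := by
        rw [conjBy_conjBy, conjBy_conjBy, mul_assoc]
    _ = conjBy (conjBy A ((bmap A B a)⁻¹ * bmap A B (a * c⁻¹))) a := by
        rw [k2, conjBy_conjBy A (bmap A B (a * c⁻¹)) (bmap A B a)⁻¹]
    _ = conjBy B (a * bmap B A ((bmap A B a)⁻¹ * bmap A B (a * c⁻¹))) := by
        rw [k3, conjBy_conjBy]

end Cfsg.Agent.Helper83.R2
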