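import Mathlib
import Cfsg.Prelude.Def_RootSubgroups
import Cfsg.Agent.Lib.Helper21.RankOneSpecial
import Cfsg.Agent.Lib.Helper83.R2Defs
import Cfsg.Agent.Lib.Helper83.R2N1

set_option autoImplicit false

namespace Cfsg.Agent.Helper83.R2

open Cfsg Cfsg.Agent.Helper83 Cfsg.Agent.Helper21.RankOneSpecial

variable {X : Type*} [Group X] {A B : Subgroup X}

theorem r2_nEl_mem_sup (a : X) (ha : a ∈ A) : nEl A B a ∈ A ⊔ B := by
  unfold nEl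
  have hA : a ∈ A ⊔ B := (le_sup_left : A ≤ A ⊔ B) ha
  have hB : (bmap A B a)⁻¹ ∈ A ⊔ B := (le_sup_right : B ≤ A ⊔ B) (B.inv_mem (bmap_mem A B a))
  exact (A ⊔ B).mul_mem ((A ⊔ B).mul_mem hA hB) hA

/-- (N2) `n(a) n(c)⁻¹ ∈ H`. -/
theorem nEl_mul_inv_mem_diag (hs : IsSpecialRankOnePair A B) {a c : X} (ha : a ∈ A) (ha1 : a ≠ 1)
    (hc : c ∈ A) (hc1 : c ≠ 1) :
    nEl A B a * (nEl A B c)⁻¹ ∈ rankOneDiagonal A B := by
  obtain ⟨cA, cB, -⟩ := nEl_conj hs hc hc1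
  obtain ⟨mA, mB, -⟩ := nEl_conj hs ha ha1
  have i1 : conjBy A (nEl A B c)⁻¹ = B := (conjBy_eq_iff.1 cB).symm
  have i2 : conjBy B (nEl A B c)⁻¹ = A := (conjBy_eq_iff.1 cA).symm
  refine ⟨⟨?_, ?_⟩, ?_⟩
  · exact (A ⊔ B).mul_mem (r2_nEl_mem_sup a ha) ((A ⊔ B).inv_mem (r2_nEl_mem_sup c hc))
  · have : conjBy A (nEl A B a * (nEl A B c)⁻¹) = A := by rw [← conjBy_conjBy, i1, mB]
    exact conjBy_eq_self_iff.1 this
  · have : conjBy B (nEl A B a * (nEl A B c)⁻¹) = B := by rw [← conjBy_conjBy, i2, mA]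
    exact conjBy_eq_self_iff.1 this

end Cfsg.Agent.Helper83.R2
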