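import Mathlib
import Cfsg.Prelude.Def_RootSubgroups
import Cfsg.Agent.Lib.Helper21.RankOneSpecial
import Cfsg.Agent.Lib.Helper83.R2Defs
import Cfsg.Agent.Lib.Helper83.R2N2
import Cfsg.Agent.Lib.Helper83.R2M

set_option autoImplicit false

namespace Cfsg.Agent.Helper83.R2

open Cfsg Cfsg.Agent.Helper83 Cfsg.Agent.Helper21.RankOneSpecial
open scoped commutatorElement

variable {X : Type*} [Group X] {A B : Subgroup X}

/-- `γ` is odd -/
theorem r2_gamma_inv (hs : IsSpecialRankOnePair A B) {y : X} (hy : y ∈ B) :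
    bmap B A y⁻¹ = (bmap B A y)⁻¹ := by
  have h := hs.1
  have hx : bmap B A y ∈ A := bmap_mem B A y
  have e1 : bmap A B (bmap B A y) = y := bmap_bmap (RankOnePair_symm h) hy
  have e2 : bmap A B (bmap B A y)⁻¹ = y⁻¹ := by rw [bmap_inv hs hx, e1]
  rw [← e2, bmap_bmap h (A.inv_mem hx)]

theorem r2_P_mem (hs : IsSpecialRankOnePair A B) (hab : HasAbelianUnipotents A B) {a d : X}
    (ha : a ∈ A) (ha1 : a ≠ 1) (hd : d ∈ A) (hd1 : d ≠ 1) (had : a ≠ d) :
    d * bmap B A ((bmap A B a)⁻¹ * bmap A B d) ∈ ⁅A, rankOneDiagonal A B⁆ := by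
  have hA := hab.1
  set c := d⁻¹ * a with hc
  have hcA : c ∈ A := A.mul_mem (A.inv_mem hd) ha
  have hc1 : c ≠ 1 := by
    intro e
    exact had (inv_mul_eq_one.1 e).symm
  have hca : c ≠ a := by
    intro e
    have : d⁻¹ = 1 := mul_right_cancel (e.trans (one_mul a).symm)
    exact hd1 (by simpa using this)
  have hacd : a * c⁻¹ = d := by rw [hc]; group
  have hH := nEl_mul_inv_mem_diag hs ha ha1 hcA hc1
  have hM := mu_formula hs ha ha1 hcA hc1 hca
  rw [hacd] at hM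
  have hcomm : ⁅nEl A B a * (nEl A B c)⁻¹, c⁆ ∈ ⁅rankOneDiagonal A B, A⁆ :=
    Subgroup.commutator_mem_commutator hH hcA
  rw [Subgroup.commutator_comm] at hcomm
  have hγ : bmap B A ((bmap A B a)⁻¹ * bmap A B d) ∈ A := bmap_mem B A _
  have e : ⁅nEl A B a * (nEl A B c)⁻¹, c⁆ = d * bmap B A ((bmap A B a)⁻¹ * bmap A B d) := by
    rw [commutatorElement_def, hM]
    have h1 : bmap B A ((bmap A B a)⁻¹ * bmap A B d) * c⁻¹ =
        c⁻¹ * bmap B A ((bmap A B a)⁻¹ * bmap A B d) := comm_of_mem hA hγ (A.inv_mem hcA)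
    rw [mul_assoc, h1, ← mul_assoc, hacd]
  rwa [e] at hcomm

/-- (E) products of two different non-identity elements of `A` lie in `[A, H]`. -/
theorem mul_mem_comm (hs : IsSpecialRankOnePair A B) (hab : HasAbelianUnipotents A B) {a d : X}
    (ha : a ∈ A) (ha1 : a ≠ 1) (hd : d ∈ A) (hd1 : d ≠ 1) (had : a ≠ d) :
    a * d ∈ ⁅A, rankOneDiagonal A B⁆ := by
  have hA := hab.1
  have h1 := r2_P_mem hs hab ha ha1 hd hd1 had
  have h2 := r2_P_mem hs hab hd hd1 ha ha1 (Ne.symm had)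
  set y := (bmap A B a)⁻¹ * bmap A B d with hy
  have hyB : y ∈ B := B.mul_mem (B.inv_mem (bmap_mem A B a)) (bmap_mem A B d)
  have hy' : (bmap A B d)⁻¹ * bmap A B a = y⁻¹ := by
    rw [hy, mul_inv_rev, inv_inv]
  rw [hy', r2_gamma_inv hs hyB] at h2
  have h3 := Subgroup.mul_mem _ h1 h2
  have hγ : bmap B A y ∈ A := bmap_mem B A y
  have e : d * bmap B A y * (a * (bmap B A y)⁻¹) = a * d := by
    have c1 : bmap B A y * a = a * bmap B A y := comm_of_mem hA hγ ha
    have c2 : d * a = a * d := comm_of_mem hA hd ha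
    calc d * bmap B A y * (a * (bmap B A y)⁻¹)
        = d * (bmap B A y * a) * (bmap B A y)⁻¹ := by group
      _ = d * (a * bmap B A y) * (bmap B A y)⁻¹ := by rw [c1]
      _ = d * a := by group
      _ = a * d := c2
  rwa [e] at h3

end Cfsg.Agent.Helper83.R2
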