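import Mathlib
import Cfsg.Prelude.Def_RootSubgroups
import Cfsg.Agent.Lib.Helper83.R2Defs
import Cfsg.Agent.S5017

set_option autoImplicit false

namespace Cfsg.Agent.Helper83.R2

open Cfsg Cfsg.Agent.Helper83
open scoped commutatorElement

variable {X : Type*} [Group X] {A B : Subgroup X}

/-- transport of quasisimplicity along an isomorphism -/
theorem r2_isQuasisimple_of_equiv {G₁ G₂ : Type*} [Group G₁] [Group G₂] (e : G₁ ≃* G₂)
    (h : Cfsg.IsQuasisimple G₁) : Cfsg.IsQuasisimple G₂ := by
  obtain ⟨hp, hsimp⟩ := h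
  refine ⟨?_, ?_⟩
  · rw [Group.isPerfect_def] at hp ⊢
    rw [eq_top_iff]
    intro y _
    have hx : e.symm y ∈ commutator G₁ := by rw [hp]; trivial
    have := Subgroup.mem_map_of_mem e.toMonoidHom hx
    rw [commutator_def, Subgroup.map_commutator] at this
    have htop : Subgroup.map e.toMonoidHom ⊤ = ⊤ :=
      Subgroup.map_top_of_surjective _ e.surjective
    rw [htop] at this
    simpa [commutator_def] using this
  · have hc : Subgroup.map e.toMonoidHom (Subgroup.center G₁) = Subgroup.center G₂ := by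
      ext y
      constructor
      · rintro ⟨x, hx, rfl⟩
        have hx' : x ∈ Subgroup.center G₁ := hx
        rw [Subgroup.mem_center_iff] at hx' ⊢
        intro z
        obtain ⟨w, rfl⟩ := e.surjective z
        show e w * e x = e x * e w
        rw [← map_mul, ← map_mul, hx' w]
      · intro hy
        refine ⟨e.symm y, ?_, by simp⟩
        show e.symm y ∈ Subgroup.center G₁
        rw [Subgroup.mem_center_iff] at hy ⊢
        intro z
        apply e.injective
        rw [map_mul, map_mul]
        simpa using hy (e z)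
    let q : G₁ ⧸ Subgroup.center G₁ ≃* G₂ ⧸ Subgroup.center G₂ :=
      QuotientGroup.congr (Subgroup.center G₁) (Subgroup.center G₂) e hc
    have := hsimp
    have hnt : Nontrivial (G₂ ⧸ Subgroup.center G₂) := q.symm.toEquiv.nontrivial
    exact IsSimpleGroup.isSimpleGroup_of_surjective q.toMonoidHom q.surjective

/-- (G) the big case -/
theorem big_case (h : IsRankOneGroup X A B) (hAE : A ≤ ⁅A, rankOneDiagonal A B⁆)
    (hcard : 3 < ENat.card A) (hconj : ∃ n : X, conjBy A n = B) :
    commutator X ⊔ A = ⊤ ∧ Cfsg.IsQuasisimple (commutator X) ∧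
      3 < ENat.card ↥(⁅A, Cfsg.rankOneDiagonal A B⁆ : Subgroup X) := by
  have hHA : ⁅A, rankOneDiagonal A B⁆ ≤ A := by
    rw [Subgroup.commutator_le]
    intro a ha g hg
    have hgN : g ∈ Subgroup.normalizer (A : Set X) := hg.1.2
    have h1 : g * a⁻¹ * g⁻¹ ∈ A := (Subgroup.mem_normalizer_iff.1 hgN a⁻¹).1 (A.inv_mem ha)
    have : ⁅a, g⁆ = a * (g * a⁻¹ * g⁻¹) := by rw [commutatorElement_def]; group
    rw [this]
    exact A.mul_mem ha h1
  have hEq : ⁅A, rankOneDiagonal A B⁆ = A := le_antisymm hHA hAE
  have hAc : A ≤ commutator X := by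
    rw [commutator_def]
    exact hAE.trans (Subgroup.commutator_mono le_top le_top)
  have hBc : B ≤ commutator X := by
    obtain ⟨n, hn⟩ := hconj
    rw [← hn]
    intro y hy
    rw [mem_conjBy] at hy
    have h1 : n⁻¹ * y * n ∈ commutator X := hAc hy
    have hnorm : (commutator X).Normal := inferInstance
    have := hnorm.conj_mem _ h1 n
    have e : n * (n⁻¹ * y * n) * n⁻¹ = y := by group
    rwa [e] at this
  have htop : commutator X = ⊤ := by
    rw [eq_top_iff, ← h.1]
    exact sup_le hAc hBc
  refine ⟨?_, ?_, ?_⟩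
  · rw [htop]; exact top_sup_eq _
  · have hperf : Group.IsPerfect X := ⟨htop⟩
    have hq : IsQuasisimple X := (Cfsg.Agent.S5017.result h).2 hperf
    have e : X ≃* ↥(commutator X) :=
      (Subgroup.topEquiv (G := X)).symm.trans (MulEquiv.subgroupCongr htop.symm)
    exact r2_isQuasisimple_of_equiv e hq
  · rw [hEq]; exact hcard

end Cfsg.Agent.Helper83.R2
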