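import Mathlib
import Cfsg.Prelude.Def_RootSubgroups
import Cfsg.Agent.Lib.Helper83.RootBasic

set_option autoImplicit false

namespace Cfsg.Agent.Helper83

open Cfsg
open scoped commutatorElement

variable {G : Type*} [Group G] {S : Set (Subgroup G)}

theorem commutatorCase_le_centralizer_right {A B : Subgroup G} (h : RootCommutatorCase S A B) :
    ⁅A, B⁆ ≤ Subgroup.centralizer (B : Set G) := by
  intro c hc
  rw [Subgroup.mem_centralizer_iff]
  intro b hb
  exact (h.2.1 c hc b (Subgroup.mem_sup_right hb)).symm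

theorem commutatorCase_le_centralizer_left {A B : Subgroup G} (h : RootCommutatorCase S A B) :
    ⁅A, B⁆ ≤ Subgroup.centralizer (A : Set G) := by
  intro c hc
  rw [Subgroup.mem_centralizer_iff]
  intro b hb
  exact (h.2.1 c hc b (Subgroup.mem_sup_left hb)).symm

/-- A member of `S` with a rank one partner meets every other member trivially. -/
theorem root_inf_eq_bot_or_eq (hS : IsRootSubgroupSet S) {A B₀ : Subgroup G} (hA : A ∈ S)
    (hB₀ : B₀ ∈ S) (hr : IsRankOnePair A B₀) : ∀ C ∈ S, A ⊓ C = ⊥ ∨ A = C := by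
  intro C hC
  by_contra hcon
  push Not at hcon
  obtain ⟨hne, hAC⟩ := hcon
  obtain ⟨a, ⟨haA, haC⟩, ha1⟩ := exists_mem_ne_one_of_ne_bot hne
  have hnotcent : a ∉ Subgroup.centralizer (B₀ : Set G) := by
    intro hc
    have : a ∈ A ⊓ Subgroup.normalizer (B₀ : Set G) := ⟨haA, centralizer_le_normalizer' B₀ hc⟩
    rw [rankOne_inf_normalizer hr, Subgroup.mem_bot] at this
    exact ha1 this
  rcases hS.pair C hC B₀ hB₀ with h1 | h1 | h1
  · rw [Subgroup.commutator_eq_bot_iff_le_centralizer] at h1
    exact hnotcent (h1 haC)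
  · obtain ⟨b, hb, _, hbe⟩ := hr.cond_left a haA ha1
    obtain ⟨b', hb', _, hbe'⟩ := h1.cond_left a haC ha1
    have hCeq : C = conjBy A (b' * b⁻¹) := by
      rw [← conjBy_conjBy, hbe, ← hbe', conjBy_conjBy_inv]
    have hCmem : C ∈ unipotentSubgroups A B₀ :=
      ⟨b' * b⁻¹, Subgroup.mem_sup_right (B₀.mul_mem hb' (B₀.inv_mem hb)), hCeq⟩
    have hsup := rankOne_sup_eq_of_mem hr (left_mem_unipotentSubgroups A B₀) hCmem hAC
    have h2 : A ⊔ C ≤ Subgroup.centralizer {a} := by
      apply sup_le
      · intro x hx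
        rw [Subgroup.mem_centralizer_iff]
        intro y hy
        rw [Set.mem_singleton_iff] at hy; subst hy
        exact mul_comm_of_isMulCommutative (hS.commutative A hA) haA hx
      · intro x hx
        rw [Subgroup.mem_centralizer_iff]
        intro y hy
        rw [Set.mem_singleton_iff] at hy; subst hy
        exact mul_comm_of_isMulCommutative (hS.commutative C hC) haC hx
    apply hnotcent
    rw [Subgroup.mem_centralizer_iff]
    intro x hx
    have hx' : x ∈ A ⊔ C := by rw [hsup]; exact Subgroup.mem_sup_right hx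
    have := h2 hx'
    rw [Subgroup.mem_centralizer_iff] at this
    exact (this a rfl).symm
  · exact rankOne_commutator_kill hr (hS.commutative B₀ hB₀) (commutatorCase_le_centralizer_right h1)
      haA ha1 (conjBy_le_sup_commutator (C.inv_mem haC))

end Cfsg.Agent.Helper83
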