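import Mathlib
import Cfsg.Prelude.Def_RootSubgroups
import Cfsg.Agent.Lib.Helper83.RootLemmas

set_option autoImplicit false

namespace Cfsg.Agent.Helper83

open Cfsg
open scoped commutatorElement

variable {G : Type*} [Group G] {S : Set (Subgroup G)}

theorem conjBy_eq_self_of_mem_centralizer {B : Subgroup G} {z : G}
    (hz : z ∈ Subgroup.centralizer (B : Set G)) : conjBy B z = B :=
  conjBy_eq_self_iff.2 (centralizer_le_normalizer' B hz)

/-- central translates of root elements are not root elements -/
theorem root_central_translate (hS : IsRootSubgroupSet S) {A B : Subgroup G} (hA : A ∈ S)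
    (hB : B ∈ S) (hr : IsRankOnePair A B) {z : G}
    (hz : z ∈ Subgroup.centralizer ((A ⊔ B : Subgroup G) : Set G)) (hz1 : z ≠ 1) :
    ∀ a ∈ A, a ≠ 1 → z * a ∉ rootElements S := by
  intro a ha ha1 hmem
  obtain ⟨hne, E, hE, he⟩ := hmem
  have hzA : z ∈ Subgroup.centralizer (A : Set G) :=
    Subgroup.centralizer_le (show (A : Set G) ⊆ ((A ⊔ B : Subgroup G) : Set G) from
      fun x hx => Subgroup.mem_sup_left hx) hz
  have hzB : z ∈ Subgroup.centralizer (B : Set G) :=
    Subgroup.centralizer_le (show (B : Set G) ⊆ ((A ⊔ B : Subgroup G) : Set G) from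
      fun x hx => Subgroup.mem_sup_right hx) hz
  have hconj : conjBy B (z * a)⁻¹ = conjBy B a⁻¹ := by
    rw [mul_inv_rev, ← conjBy_conjBy, conjBy_eq_self_of_mem_centralizer (Subgroup.inv_mem _ hzB)]
  have hanc : a ∉ Subgroup.centralizer (B : Set G) := by
    intro hc
    have : a ∈ A ⊓ Subgroup.normalizer (B : Set G) := ⟨ha, centralizer_le_normalizer' B hc⟩
    rw [rankOne_inf_normalizer hr, Subgroup.mem_bot] at this
    exact ha1 this
  rcases hS.pair E hE B hB with h1 | h1 | h1
  · rw [Subgroup.commutator_eq_bot_iff_le_centralizer] at h1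
    apply hanc
    have := Subgroup.mul_mem _ (Subgroup.inv_mem _ hzB) (h1 he)
    rwa [inv_mul_cancel_left] at this
  · obtain ⟨b, hb, _, hbe⟩ := hr.cond_left a ha ha1
    obtain ⟨b', hb', _, hbe'⟩ := h1.cond_left (z * a) he hne
    rw [hconj, ← hbe] at hbe'
    have hEeq : E = conjBy A (b' * b⁻¹) := by
      rw [← conjBy_conjBy, ← hbe', conjBy_conjBy_inv]
    have hEmem : E ∈ unipotentSubgroups A B :=
      ⟨b' * b⁻¹, Subgroup.mem_sup_right (B.mul_mem hb' (B.inv_mem hb)), hEeq⟩
    by_cases hEA : E = A
    · have hzA' : z ∈ A := by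
        have := A.mul_mem (hEA ▸ he) (A.inv_mem ha)
        rwa [mul_inv_cancel_right] at this
      have : z ∈ A ⊓ Subgroup.normalizer (B : Set G) := ⟨hzA', centralizer_le_normalizer' B hzB⟩
      rw [rankOne_inf_normalizer hr, Subgroup.mem_bot] at this
      exact hz1 this
    · have hEAr : IsRankOnePair E A :=
        isRankOnePair_of_mem hr hEmem (left_mem_unipotentSubgroups A B) hEA
      have hecent : z * a ∈ Subgroup.centralizer (A : Set G) :=
        Subgroup.mul_mem _ hzA (le_centralizer_self_of_comm (hS.commutative A hA) ha)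
      have : z * a ∈ E ⊓ Subgroup.normalizer (A : Set G) := ⟨he, centralizer_le_normalizer' A hecent⟩
      rw [rankOne_inf_normalizer hEAr, Subgroup.mem_bot] at this
      exact hne this
  · refine rankOne_commutator_kill hr (hS.commutative B hB) (commutatorCase_le_centralizer_right h1)
      ha ha1 ?_
    rw [← hconj]
    exact conjBy_le_sup_commutator (E.inv_mem he)

end Cfsg.Agent.Helper83
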