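import Mathlib
import Cfsg.Prelude.Def_RootSubgroups
import Cfsg.Agent.Lib.Helper83.RootLemmas2

set_option autoImplicit false

namespace Cfsg.Agent.Helper83

open Cfsg
open scoped commutatorElement

variable {G : Type*} [Group G] {S : Set (Subgroup G)}

/-- A member of `S` inside a rank one group `⟨E, E'⟩` not commuting with `E` is a unipotent
subgroup. -/
theorem root_mem_unipotent_of_not_commute (hS : IsRootSubgroupSet S) {E E' A : Subgroup G}
    (hE : E ∈ S) (hE' : E' ∈ S) (hr : IsRankOnePair E E') (hA : A ∈ S) (hle : A ≤ E ⊔ E')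
    (hnc : ⁅A, E⁆ ≠ ⊥) : A ∈ unipotentSubgroups E E' := by
  rcases hS.pair A hA E hE with h1 | h1 | h1
  · exact absurd h1 hnc
  · obtain ⟨x, hx, hx'⟩ := right_mem_unipotentSubgroups (RankOnePair_symm h1)
    exact ⟨x, (sup_le le_sup_left hle) hx, hx'⟩
  · exfalso
    obtain ⟨a, ha, ha1⟩ := exists_mem_ne_one_of_ne_bot (hS.ne_bot A hA)
    have hsub : conjBy E a ≤ E ⊔ ⁅A, E⁆ := conjBy_le_sup_commutator ha
    have hmem : conjBy E a ∈ unipotentSubgroups E E' := ⟨a, hle ha, rfl⟩
    have hFcent : ⁅A, E⁆ ≤ Subgroup.centralizer (E : Set G) := commutatorCase_le_centralizer_right h1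
    by_cases heq : conjBy E a = E
    · have hFle : ⁅A, E⁆ ≤ E := by
        rw [← h1.2.2.1 a ha ha1, Subgroup.closure_le]
        rintro _ ⟨e, he, rfl⟩
        have : a * e * a⁻¹ ∈ conjBy E a := conj_mem_conjBy he
        rw [heq] at this
        exact E.mul_mem this (E.inv_mem he)
      rcases root_inf_eq_bot_or_eq hS hE hE' hr _ h1.1 with h2 | h2
      · rw [inf_eq_right.2 hFle] at h2
        exact hS.ne_bot _ h1.1 h2
      · have h3 : E ≤ Subgroup.centralizer (A : Set G) := by
          have := commutatorCase_le_centralizer_left h1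
          rwa [← h2] at this
        rw [Subgroup.le_centralizer_iff, ← Subgroup.commutator_eq_bot_iff_le_centralizer] at h3
        exact hnc h3
    · have hsup := rankOne_sup_eq_of_mem hr (left_mem_unipotentSubgroups E E') hmem (Ne.symm heq)
      have h2 : E ⊔ conjBy E a ≤ Subgroup.centralizer (E : Set G) :=
        sup_le (le_centralizer_self_of_comm (hS.commutative E hE))
          (hsub.trans (sup_le (le_centralizer_self_of_comm (hS.commutative E hE)) hFcent))
      rw [hsup] at h2
      exact rankOne_not_le_centralizer (RankOnePair_symm hr) (le_sup_right.trans h2)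

/-- A member of `S` with a rank one partner, both contained in a rank one group `⟨C, D⟩`,
is a unipotent subgroup of it. -/
theorem root_mem_unipotent_of_le (hS : IsRootSubgroupSet S) {C D A B : Subgroup G}
    (hC : C ∈ S) (hD : D ∈ S) (hr : IsRankOnePair C D) (hA : A ∈ S) (hAB : IsRankOnePair A B)
    (hleA : A ≤ C ⊔ D) (hleB : B ≤ C ⊔ D) : A ∈ unipotentSubgroups C D := by
  by_cases h1 : ⁅A, C⁆ = ⊥
  · by_cases h2 : ⁅A, D⁆ = ⊥
    · exfalso
      rw [Subgroup.commutator_eq_bot_iff_le_centralizer, Subgroup.le_centralizer_iff] at h1 h2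
      exact rankOne_not_le_centralizer (RankOnePair_symm hAB) (hleB.trans (sup_le h1 h2))
    · rw [unipotentSubgroups_symm hr]
      exact root_mem_unipotent_of_not_commute hS hD hC (RankOnePair_symm hr) hA
        (by rwa [sup_comm]) h2
  · exact root_mem_unipotent_of_not_commute hS hC hD hr hA hleA h1

theorem root_rankOne_containment (hS : IsRootSubgroupSet S) {A B C D : Subgroup G} (hA : A ∈ S)
    (hC : C ∈ S) (hB : B ∈ S) (hAB : IsRankOnePair A B) (hD : D ∈ S) (hCD : IsRankOnePair C D)
    (hle : A ⊔ B ≤ C ⊔ D) :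
    A ⊔ B = C ⊔ D ∧ C ∈ unipotentSubgroups A B ∧ D ∈ unipotentSubgroups A B := by
  have hAm := root_mem_unipotent_of_le hS hC hD hCD hA hAB (le_sup_left.trans hle)
    (le_sup_right.trans hle)
  have hBm := root_mem_unipotent_of_le hS hC hD hCD hB (RankOnePair_symm hAB)
    (le_sup_right.trans hle) (le_sup_left.trans hle)
  obtain ⟨x, hx, hx1, hx2⟩ := rankOne_move_pair hCD hAm hBm hAB.ne
  have heq : A ⊔ B = C ⊔ D := by
    have : conjBy (A ⊔ B) x = conjBy (C ⊔ D) x := by
      rw [conjBy_sup, hx1, hx2, conjBy_eq_self_of_mem hx]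
    exact conjBy_inj.1 this
  refine ⟨heq, ⟨x, heq ▸ hx, hx1.symm⟩, ?_⟩
  rw [unipotentSubgroups_symm hAB]
  exact ⟨x, by rw [sup_comm, heq]; exact hx, hx2.symm⟩

end Cfsg.Agent.Helper83
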