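import Mathlib
import Cfsg.Prelude.Def_RootSubgroups
import Cfsg.Agent.Lib.Helper83.RootLemmas3
import Cfsg.Agent.Lib.Helper83.CommMod
import Cfsg.Agent.Lib.Helper94.RootComm

set_option autoImplicit false

/-!
# Three root subgroups `A, B, C` with `⁅A,B⁆, ⁅B,C⁆ ∈ S` and `⁅A,C⁆ = 1`
-/

namespace Cfsg.Agent.Helper83

open Cfsg Cfsg.Agent.Helper94
open scoped commutatorElement

variable {G : Type*} [Group G] {S : Set (Subgroup G)}

/-! ### general lemmas -/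

theorem le_centralizer_sup' {P X Y : Subgroup G} (h1 : P ≤ Subgroup.centralizer (X : Set G))
    (h2 : P ≤ Subgroup.centralizer (Y : Set G)) :
    P ≤ Subgroup.centralizer ((X ⊔ Y : Subgroup G) : Set G) := by
  rw [Subgroup.le_centralizer_iff]
  exact sup_le (Subgroup.le_centralizer_iff.1 h1) (Subgroup.le_centralizer_iff.1 h2)

theorem sup_le_centralizer' {P X Y : Subgroup G} (h1 : X ≤ Subgroup.centralizer (P : Set G))
    (h2 : Y ≤ Subgroup.centralizer (P : Set G)) :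
    X ⊔ Y ≤ Subgroup.centralizer (P : Set G) := sup_le h1 h2

theorem centralizer_le_normalizer'' {P K : Subgroup G}
    (h : P ≤ Subgroup.centralizer (K : Set G)) : P ≤ Subgroup.normalizer (K : Set G) :=
  h.trans (centralizer_le_normalizer' K)

theorem le_normalizer_of_centralizer_symm {P K : Subgroup G}
    (h : K ≤ Subgroup.centralizer (P : Set G)) : P ≤ Subgroup.normalizer (K : Set G) :=
  centralizer_le_normalizer'' (Subgroup.le_centralizer_iff.1 h)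

theorem le_normalizer_sup' {P H₁ H₂ : Subgroup G} (h1 : P ≤ Subgroup.normalizer (H₁ : Set G))
    (h2 : P ≤ Subgroup.normalizer (H₂ : Set G)) :
    P ≤ Subgroup.normalizer ((H₁ ⊔ H₂ : Subgroup G) : Set G) := by
  rw [Subgroup.le_normalizer_iff_commutator_le_right]
  apply commutator_sup_le' Subgroup.le_normalizer
  · exact (Subgroup.le_normalizer_iff_commutator_le_right.1 h1).trans le_sup_left
  · exact (Subgroup.le_normalizer_iff_commutator_le_right.1 h2).trans le_sup_right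

theorem comm3_le {N P₁ P₂ P₃ Q : Subgroup G}
    (hN : P₁ ⊔ P₂ ⊔ P₃ ≤ Subgroup.normalizer (N : Set G))
    (h1 : ⁅P₁, Q⁆ ≤ N) (h2 : ⁅P₂, Q⁆ ≤ N) (h3 : ⁅P₃, Q⁆ ≤ N) : ⁅P₁ ⊔ P₂ ⊔ P₃, Q⁆ ≤ N :=
  commutator_sup_le hN (commutator_sup_le (le_sup_left.trans hN) h1 h2) h3

theorem comm3_le' {N P Q₁ Q₂ Q₃ : Subgroup G}
    (hN : Q₁ ⊔ Q₂ ⊔ Q₃ ≤ Subgroup.normalizer (N : Set G))
    (h1 : ⁅P, Q₁⁆ ≤ N) (h2 : ⁅P, Q₂⁆ ≤ N) (h3 : ⁅P, Q₃⁆ ≤ N) : ⁅P, Q₁ ⊔ Q₂ ⊔ Q₃⁆ ≤ N :=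
  commutator_sup_le' hN (commutator_sup_le' (le_sup_left.trans hN) h1 h2) h3

theorem comm_eq_bot_of_commute {P Q : Subgroup G} (h : ∀ p ∈ P, ∀ q ∈ Q, p * q = q * p) :
    ⁅P, Q⁆ = ⊥ := by
  rw [Subgroup.commutator_eq_bot_iff_le_centralizer]
  exact le_centralizer_of_commute h

theorem commute_of_comm_eq_bot {P Q : Subgroup G} (h : ⁅P, Q⁆ = ⊥) :
    ∀ p ∈ P, ∀ q ∈ Q, p * q = q * p := fun _ hp _ hq =>
  commute_of_le_centralizer (Subgroup.commutator_eq_bot_iff_le_centralizer.1 h) hp hq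

theorem conjBy_commutator (P Q : Subgroup G) (g : G) :
    conjBy ⁅P, Q⁆ g = ⁅conjBy P g, conjBy Q g⁆ := Subgroup.map_commutator _ _ _

/-- class two: abelian `A`, `D` with `⁅A,D⁆` central in `A ⊔ D`. -/
theorem comm_sup_sup_le {A D : Subgroup G} (hA : IsMulCommutative A) (hD : IsMulCommutative D)
    (hZ : ⁅A, D⁆ ≤ Subgroup.centralizer ((A ⊔ D : Subgroup G) : Set G)) :
    ⁅A ⊔ D, A ⊔ D⁆ ≤ ⁅A, D⁆ := by
  have hN : A ⊔ D ≤ Subgroup.normalizer ((⁅A, D⁆ : Subgroup G) : Set G) :=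
    le_normalizer_of_centralizer_symm hZ
  have hAA : ⁅A, A⁆ = ⊥ := comm_eq_bot_of_commute
    (fun a ha a' ha' => mul_comm_of_isMulCommutative hA ha ha')
  have hDD : ⁅D, D⁆ = ⊥ := comm_eq_bot_of_commute
    (fun a ha a' ha' => mul_comm_of_isMulCommutative hD ha ha')
  apply commutator_sup_le hN
  · apply commutator_sup_le' hN
    · rw [hAA]; exact bot_le
    · exact le_rfl
  · apply commutator_sup_le' hN
    · rw [Subgroup.commutator_comm]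
    · rw [hDD]; exact bot_le

theorem isMulCommutative_sup {A D : Subgroup G} (hA : IsMulCommutative A)
    (hD : IsMulCommutative D) (h : ⁅A, D⁆ = ⊥) : IsMulCommutative ↥(A ⊔ D) := by
  rw [← Subgroup.le_centralizer_iff_isMulCommutative]
  have h1 : A ≤ Subgroup.centralizer (D : Set G) :=
    Subgroup.commutator_eq_bot_iff_le_centralizer.1 h
  have h2 : D ≤ Subgroup.centralizer (A : Set G) := Subgroup.le_centralizer_iff.1 h1
  exact sup_le (le_centralizer_sup' (le_centralizer_self_of_comm hA) h1)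
    (le_centralizer_sup' h2 (le_centralizer_self_of_comm hD))

theorem comm_self_eq_bot_of_isMulCommutative {X : Subgroup G} (h : IsMulCommutative ↥X) :
    ⁅X, X⁆ = ⊥ :=
  comm_eq_bot_of_commute (fun _ ha _ ha' => mul_comm_of_isMulCommutative h ha ha')

/-! ### the configuration -/

/-- `A, B, C ∈ S`, `(A,B)` and `(C,B)` in the commutator case, `⁅A,C⁆ = 1`. -/
structure Cfg3 (S : Set (Subgroup G)) (A B C : Subgroup G) : Prop where
  hS : IsRootSubgroupSet S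
  memA : A ∈ S
  memB : B ∈ S
  memC : C ∈ S
  caseA : RootCommutatorCase S A B
  caseC : RootCommutatorCase S C B
  comm : ⁅A, C⁆ = ⊥

namespace Cfg3

variable {A B C : Subgroup G}

theorem symm (h : Cfg3 S A B C) : Cfg3 S C B A :=
  ⟨h.hS, h.memC, h.memB, h.memA, h.caseC, h.caseA, by rw [Subgroup.commutator_comm]; exact h.comm⟩

theorem abA (h : Cfg3 S A B C) : IsMulCommutative A := h.hS.commutative A h.memA
theorem abB (h : Cfg3 S A B C) : IsMulCommutative B := h.hS.commutative B h.memB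
theorem abC (h : Cfg3 S A B C) : IsMulCommutative C := h.hS.commutative C h.memC

theorem A_le_cA (h : Cfg3 S A B C) : A ≤ Subgroup.centralizer (A : Set G) :=
  le_centralizer_self_of_comm h.abA

theorem A_le_cC (h : Cfg3 S A B C) : A ≤ Subgroup.centralizer (C : Set G) :=
  Subgroup.commutator_eq_bot_iff_le_centralizer.1 h.comm

theorem F_le_cA (h : Cfg3 S A B C) : ⁅A, B⁆ ≤ Subgroup.centralizer (A : Set G) :=
  commutatorCase_le_centralizer_left h.caseA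

theorem F_le_cB (h : Cfg3 S A B C) : ⁅A, B⁆ ≤ Subgroup.centralizer (B : Set G) :=
  commutatorCase_le_centralizer_right h.caseA

theorem conj_le (h : Cfg3 S A B C) {g : G} (hg : g ∈ B) : conjBy A g ≤ A ⊔ ⁅A, B⁆ := by
  have := conjBy_le_sup_commutator (E := B) (B := A) hg
  rwa [Subgroup.commutator_comm] at this

theorem F_le (h : Cfg3 S A B C) {g : G} (hg : g ∈ B) (hg1 : g ≠ 1) :
    ⁅A, B⁆ ≤ A ⊔ conjBy A g := by
  intro k hk
  obtain ⟨a, ha, rfl⟩ := commutatorCase_surj_left h.caseA hg hg1 k hk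
  have e : a * g * a⁻¹ * g⁻¹ = a * (g * a⁻¹ * g⁻¹) := by group
  rw [e]
  exact Subgroup.mul_mem _ (Subgroup.mem_sup_left ha)
    (Subgroup.mem_sup_right (conj_mem_conjBy (A.inv_mem ha)))

/-- `A` and `g A g⁻¹` commute -/
theorem conj_le_cA (h : Cfg3 S A B C) {g : G} (hg : g ∈ B) :
    conjBy A g ≤ Subgroup.centralizer (A : Set G) :=
  (h.conj_le hg).trans (sup_le h.A_le_cA h.F_le_cA)

/-- `A ⊔ F₁ ≤ C_G(A)` -/
theorem AF_le_cA (h : Cfg3 S A B C) : A ⊔ ⁅A, B⁆ ≤ Subgroup.centralizer (A : Set G) :=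
  sup_le h.A_le_cA h.F_le_cA

/-- `(A, g C g⁻¹)` is not a rank one pair -/
theorem not_rankOne (h : Cfg3 S A B C) {g : G} (hg : g ∈ B) (hg1 : g ≠ 1) :
    ¬ IsRankOnePair A (conjBy C g) := by
  intro hr
  have hK : ⁅C, B⁆ ≠ ⊥ := h.hS.ne_bot _ h.caseC.1
  obtain ⟨k, hk, hk1⟩ := (Subgroup.ne_bot_iff_exists_ne_one (H := ⁅C, B⁆)).1 hK |>.imp
    (fun k hk => hk) |> fun ⟨k, hk⟩ => (⟨k.1, k.2, fun e => hk (Subtype.ext e)⟩ :
      ∃ k : G, k ∈ ⁅C, B⁆ ∧ k ≠ 1)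
  obtain ⟨c, hc, hck⟩ := commutatorCase_surj_left h.caseC hg hg1 k hk
  -- `d = g c g⁻¹ = k⁻¹ c`
  have hc1 : c ≠ 1 := by
    rintro rfl
    apply hk1
    rw [← hck]; group
  have hd : g * c * g⁻¹ ∈ conjBy C g := conj_mem_conjBy hc
  have hd1 : g * c * g⁻¹ ≠ 1 := by
    intro e
    apply hc1
    have : c = g⁻¹ * (g * c * g⁻¹) * g := by group
    rw [this, e]; group
  -- `z = c⁻¹` is central in `conjBy C g ⊔ A`
  have hzA : c⁻¹ ∈ Subgroup.centralizer (A : Set G) :=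
    Subgroup.inv_mem _ ((Subgroup.le_centralizer_iff.1 h.A_le_cC) hc)
  have hzD : c⁻¹ ∈ Subgroup.centralizer ((conjBy C g : Subgroup G) : Set G) := by
    have h1 : C ≤ Subgroup.centralizer ((conjBy C g : Subgroup G) : Set G) :=
      Subgroup.le_centralizer_iff.1 (h.symm.conj_le_cA hg)
    exact Subgroup.inv_mem _ (h1 hc)
  have hz : c⁻¹ ∈ Subgroup.centralizer ((conjBy C g ⊔ A : Subgroup G) : Set G) := by
    have : Subgroup.zpowers c⁻¹ ≤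
        Subgroup.centralizer ((conjBy C g ⊔ A : Subgroup G) : Set G) := by
      apply le_centralizer_sup'
      · rw [Subgroup.zpowers_le]; exact hzD
      · rw [Subgroup.zpowers_le]; exact hzA
    exact this (Subgroup.mem_zpowers _)
  have hz1 : c⁻¹ ≠ 1 := by simpa using hc1
  have hnot := root_central_translate h.hS (h.hS.conj_mem C h.memC g) h.memA
    (RankOnePair_symm hr) hz hz1 _ hd hd1
  apply hnot
  -- `c⁻¹ * (g c g⁻¹) = k⁻¹`-ish lies in `⁅C,B⁆`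
  have e : c⁻¹ * (g * c * g⁻¹) = c⁻¹ * (c * g * c⁻¹ * g⁻¹)⁻¹ * c := by group
  refine ⟨?_, ⁅C, B⁆, h.caseC.1, ?_⟩
  · intro e1
    apply hd1
    have : g * c * g⁻¹ = c * (c⁻¹ * (g * c * g⁻¹)) := by group
    rw [this, e1, mul_one]
    -- need g c g⁻¹ = c; but then k = 1
    exfalso
    apply hk1
    rw [← hck]
    have e2 : g * c * g⁻¹ = c := by
      have : g * c * g⁻¹ = c * (c⁻¹ * (g * c * g⁻¹)) := by group
      rw [this, e1, mul_one]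
    calc c * g * c⁻¹ * g⁻¹ = c * (g * c * g⁻¹)⁻¹ := by group
      _ = 1 := by rw [e2]; group
  · rw [e, hck]
    have hkc : k⁻¹ ∈ ⁅C, B⁆ := Subgroup.inv_mem _ hk
    have := h.symm.F_le_cA hkc
    rw [Subgroup.mem_centralizer_iff] at this
    have e3 := this c hc
    have : c⁻¹ * k⁻¹ * c = k⁻¹ := by
      rw [mul_assoc, ← e3]; group
    rw [this]; exact hkc

/-- `⁅A, g C g⁻¹⁆ = 1 ↔ ⁅A, ⁅C,B⁆⁆ = 1` -/
theorem comm_iff (h : Cfg3 S A B C) {g : G} (hg : g ∈ B) (hg1 : g ≠ 1) :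
    ⁅A, conjBy C g⁆ = ⊥ ↔ ⁅A, ⁅C, B⁆⁆ = ⊥ := by
  simp only [Subgroup.commutator_eq_bot_iff_le_centralizer]
  rw [Subgroup.le_centralizer_iff, Subgroup.le_centralizer_iff (H := A)]
  constructor
  · intro h1
    exact (h.symm.F_le hg hg1).trans (sup_le (Subgroup.le_centralizer_iff.1 h.A_le_cC) h1)
  · intro h1
    exact (h.symm.conj_le hg).trans (sup_le (Subgroup.le_centralizer_iff.1 h.A_le_cC) h1)

theorem comm_iff' (h : Cfg3 S A B C) {g : G} (hg : g ∈ B) (hg1 : g ≠ 1) :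
    ⁅C, conjBy A g⁆ = ⊥ ↔ ⁅A, ⁅C, B⁆⁆ = ⊥ := by
  rw [← h.comm_iff (B.inv_mem hg) (inv_ne_one.2 hg1)]
  have e : conjBy ⁅C, conjBy A g⁆ g⁻¹ = ⁅A, conjBy C g⁻¹⁆ := by
    rw [conjBy_commutator, conjBy_inv_conjBy, Subgroup.commutator_comm]
  rw [← e, conjBy_eq_bot_iff]

/-- `⁅A, g C g⁻¹⁆` is central in `⟨A, g C g⁻¹⟩` -/
theorem Z_le (h : Cfg3 S A B C) {g : G} (hg : g ∈ B) (hg1 : g ≠ 1) :
    ⁅A, conjBy C g⁆ ≤ Subgroup.centralizer ((A ⊔ conjBy C g : Subgroup G) : Set G) := by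
  rcases h.hS.pair A h.memA _ (h.hS.conj_mem C h.memC g) with h1 | h1 | h1
  · rw [h1]; exact bot_le
  · exact absurd h1 (h.not_rankOne hg hg1)
  · intro z hz
    rw [Subgroup.mem_centralizer_iff]
    intro x hx
    exact (h1.2.1 z hz x hx).symm

/-- `X = ⟨A, g C g⁻¹⟩` and `Y = ⟨g A g⁻¹, C⟩` commute -/
theorem X_le_cY (h : Cfg3 S A B C) {g : G} (hg : g ∈ B) :
    A ⊔ conjBy C g ≤ Subgroup.centralizer ((conjBy A g ⊔ C : Subgroup G) : Set G) := by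
  apply sup_le
  · exact le_centralizer_sup' (Subgroup.le_centralizer_iff.1 (h.conj_le_cA hg)) h.A_le_cC
  · apply le_centralizer_sup'
    · have h1 : conjBy C g ≤ conjBy (Subgroup.centralizer (A : Set G)) g :=
        conjBy_mono (Subgroup.le_centralizer_iff.1 h.A_le_cC) g
      rwa [conjBy_centralizer] at h1
    · exact h.symm.conj_le_cA hg

theorem part2 (h : Cfg3 S A B C) {g : G} (hg : g ∈ B) :
    ⁅A ⊔ conjBy C g, conjBy A g ⊔ C⁆ = ⊥ :=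
  Subgroup.commutator_eq_bot_iff_le_centralizer.2 (h.X_le_cY hg)

theorem XY_eq (h : Cfg3 S A B C) {g : G} (hg : g ∈ B) (hg1 : g ≠ 1) :
    (A ⊔ conjBy C g) ⊔ (conjBy A g ⊔ C) = (A ⊔ ⁅A, B⁆) ⊔ (C ⊔ ⁅C, B⁆) := by
  apply le_antisymm
  · apply sup_le (sup_le ?_ ?_) (sup_le ?_ ?_)
    · exact le_sup_left.trans le_sup_left
    · exact (h.symm.conj_le hg).trans le_sup_right
    · exact (h.conj_le hg).trans le_sup_left
    · exact le_sup_left.trans le_sup_right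
  · apply sup_le (sup_le ?_ ?_) (sup_le ?_ ?_)
    · exact le_sup_left.trans le_sup_left
    · exact (h.F_le hg hg1).trans (sup_le (le_sup_left.trans le_sup_left)
        (le_sup_left.trans le_sup_right))
    · exact le_sup_right.trans le_sup_right
    · exact (h.symm.F_le hg hg1).trans (sup_le (le_sup_right.trans le_sup_right)
        (le_sup_right.trans le_sup_left))

/-- `B` normalizes `A ⊔ ⁅A,B⁆` -/
theorem B_le_nAF (h : Cfg3 S A B C) : B ≤ Subgroup.normalizer ((A ⊔ ⁅A, B⁆ : Subgroup G) : Set G) := by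
  rw [Subgroup.le_normalizer_iff_commutator_le_right]
  apply commutator_sup_le' Subgroup.le_normalizer
  · rw [Subgroup.commutator_comm]; exact le_sup_right
  · have : ⁅B, ⁅A, B⁆⁆ = ⊥ := by
      rw [Subgroup.commutator_comm, Subgroup.commutator_eq_bot_iff_le_centralizer]
      exact h.F_le_cB
    rw [this]; exact bot_le

/-- `R = ⟨A,B,C⟩` normalizes `M = A F₁ C F₂` -/
theorem R_le_nM (h : Cfg3 S A B C) :
    A ⊔ B ⊔ C ≤ Subgroup.normalizer (((A ⊔ ⁅A, B⁆) ⊔ (C ⊔ ⁅C, B⁆) : Subgroup G) : Set G) := by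
  apply sup_le (sup_le ?_ ?_) ?_
  · exact (le_sup_left.trans le_sup_left).trans Subgroup.le_normalizer
  · exact le_normalizer_sup' h.B_le_nAF h.symm.B_le_nAF
  · exact (le_sup_left.trans le_sup_right).trans Subgroup.le_normalizer

theorem M_le_R (h : Cfg3 S A B C) : (A ⊔ ⁅A, B⁆) ⊔ (C ⊔ ⁅C, B⁆) ≤ A ⊔ B ⊔ C := by
  have hA : A ≤ A ⊔ B ⊔ C := le_sup_left.trans le_sup_left
  have hB : B ≤ A ⊔ B ⊔ C := le_sup_right.trans le_sup_left
  have hC : C ≤ A ⊔ B ⊔ C := le_sup_right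
  apply sup_le (sup_le hA ?_) (sup_le hC ?_)
  · exact (commutator_le_sup' A B).trans (sup_le hA hB)
  · exact (commutator_le_sup' C B).trans (sup_le hC hB)

theorem part3 (h : Cfg3 S A B C) {g : G} (hg : g ∈ B) (hg1 : g ≠ 1) :
    ∀ r ∈ A ⊔ B ⊔ C, conjBy ((A ⊔ conjBy C g) ⊔ (conjBy A g ⊔ C)) r =
      (A ⊔ conjBy C g) ⊔ (conjBy A g ⊔ C) := by
  intro r hr
  rw [h.XY_eq hg hg1, conjBy_eq_self_iff]
  exact h.R_le_nM hr

theorem part4 (h : Cfg3 S A B C) {g : G} (hg : g ∈ B) (hg1 : g ≠ 1) :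
    ((A ⊔ conjBy C g) ⊔ (conjBy A g ⊔ C)) ⊔ B = A ⊔ B ⊔ C := by
  rw [h.XY_eq hg hg1]
  apply le_antisymm
  · exact sup_le h.M_le_R (le_sup_right.trans le_sup_left)
  · apply sup_le (sup_le ?_ le_sup_right) ?_
    · exact (le_sup_left.trans le_sup_left).trans le_sup_left
    · exact (le_sup_left.trans le_sup_right).trans le_sup_left

/-- class at most two for `X` -/
theorem X_class (h : Cfg3 S A B C) {g : G} (hg : g ∈ B) (hg1 : g ≠ 1) :
    ⁅⁅A ⊔ conjBy C g, A ⊔ conjBy C g⁆, A ⊔ conjBy C g⁆ = ⊥ := by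
  have hD : IsMulCommutative (conjBy C g) := isMulCommutative_conjBy h.abC g
  have h1 := comm_sup_sup_le h.abA hD (h.Z_le hg hg1)
  rw [Subgroup.commutator_eq_bot_iff_le_centralizer]
  exact h1.trans (h.Z_le hg hg1)

theorem part1 (h : Cfg3 S A B C) {g : G} (hg : g ∈ B) (hg1 : g ≠ 1) :
    (IsMulCommutative ↥(A ⊔ conjBy C g) ∧ IsMulCommutative ↥(conjBy A g ⊔ C)) ∨
      ((¬ IsMulCommutative ↥(A ⊔ conjBy C g) ∧
          ⁅⁅A ⊔ conjBy C g, A ⊔ conjBy C g⁆, A ⊔ conjBy C g⁆ = ⊥) ∧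
        (¬ IsMulCommutative ↥(conjBy A g ⊔ C) ∧
          ⁅⁅conjBy A g ⊔ C, conjBy A g ⊔ C⁆, conjBy A g ⊔ C⁆ = ⊥)) := by
  have hD : IsMulCommutative (conjBy C g) := isMulCommutative_conjBy h.abC g
  have hE : IsMulCommutative (conjBy A g) := isMulCommutative_conjBy h.abA g
  have hY : conjBy A g ⊔ C = C ⊔ conjBy A g := sup_comm _ _
  by_cases h0 : ⁅A, ⁅C, B⁆⁆ = ⊥
  · left
    refine ⟨isMulCommutative_sup h.abA hD ((h.comm_iff hg hg1).2 h0), ?_⟩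
    rw [hY]
    exact isMulCommutative_sup h.abC hE ((h.comm_iff' hg hg1).2 h0)
  · right
    refine ⟨⟨?_, h.X_class hg hg1⟩, ?_, ?_⟩
    · intro hc
      apply h0
      rw [← h.comm_iff hg hg1, ← le_bot_iff, ← comm_self_eq_bot_of_isMulCommutative hc]
      exact Subgroup.commutator_mono le_sup_left le_sup_right
    · intro hc
      apply h0
      rw [← h.comm_iff' hg hg1, ← le_bot_iff, ← comm_self_eq_bot_of_isMulCommutative hc]
      exact Subgroup.commutator_mono le_sup_right le_sup_left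
    · rw [hY]
      exact h.symm.X_class hg hg1

/-- `T₀ = ⁅A,D⁆ ⊔ ⁅C,E⁆` is central in `M` -/
theorem T0_le_cM (h : Cfg3 S A B C) {g : G} (hg : g ∈ B) (hg1 : g ≠ 1) :
    ⁅A, conjBy C g⁆ ⊔ ⁅C, conjBy A g⁆ ≤
      Subgroup.centralizer (((A ⊔ ⁅A, B⁆) ⊔ (C ⊔ ⁅C, B⁆) : Subgroup G) : Set G) := by
  rw [← h.XY_eq hg hg1]
  have hXY := h.X_le_cY hg
  have hYX : conjBy A g ⊔ C ≤ Subgroup.centralizer ((A ⊔ conjBy C g : Subgroup G) : Set G) :=
    Subgroup.le_centralizer_iff.1 hXY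
  have hZ := h.Z_le hg hg1
  have hZ' := h.symm.Z_le hg hg1
  have hYc : C ⊔ conjBy A g = conjBy A g ⊔ C := sup_comm _ _
  rw [hYc] at hZ'
  apply sup_le
  · apply le_centralizer_sup' hZ
    exact ((commutator_le_sup' _ _).trans le_rfl).trans hXY
  · apply le_centralizer_sup' _ hZ'
    refine (commutator_le_sup' _ _).trans ?_
    rw [hYc]; exact hYX

/-- `⁅M,M⁆ ≤ T₀` -/
theorem T_le_T0 (h : Cfg3 S A B C) {g : G} (hg : g ∈ B) (hg1 : g ≠ 1) :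
    ⁅(A ⊔ ⁅A, B⁆) ⊔ (C ⊔ ⁅C, B⁆), (A ⊔ ⁅A, B⁆) ⊔ (C ⊔ ⁅C, B⁆)⁆ ≤
      ⁅A, conjBy C g⁆ ⊔ ⁅C, conjBy A g⁆ := by
  have hc := h.T0_le_cM hg hg1
  have hN := le_normalizer_of_centralizer_symm hc
  rw [← h.XY_eq hg hg1] at hN ⊢
  have hD : IsMulCommutative (conjBy C g) := isMulCommutative_conjBy h.abC g
  have hE : IsMulCommutative (conjBy A g) := isMulCommutative_conjBy h.abA g
  have hXX := comm_sup_sup_le h.abA hD (h.Z_le hg hg1)
  have hYY := comm_sup_sup_le h.abC hE (h.symm.Z_le hg hg1)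
  have hYc : C ⊔ conjBy A g = conjBy A g ⊔ C := sup_comm _ _
  rw [hYc] at hYY
  have hXY := h.part2 hg
  apply commutator_sup_le hN
  · apply commutator_sup_le' hN (hXX.trans le_sup_left)
    rw [hXY]; exact bot_le
  · apply commutator_sup_le' hN _ (hYY.trans le_sup_right)
    rw [Subgroup.commutator_comm, hXY]; exact bot_le

/-- `⁅M,M⁆` is central in `M` -/
theorem T_le_cM (h : Cfg3 S A B C) {g : G} (hg : g ∈ B) (hg1 : g ≠ 1) :
    ⁅(A ⊔ ⁅A, B⁆) ⊔ (C ⊔ ⁅C, B⁆), (A ⊔ ⁅A, B⁆) ⊔ (C ⊔ ⁅C, B⁆)⁆ ≤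
      Subgroup.centralizer (((A ⊔ ⁅A, B⁆) ⊔ (C ⊔ ⁅C, B⁆) : Subgroup G) : Set G) :=
  (h.T_le_T0 hg hg1).trans (h.T0_le_cM hg hg1)

/-- key computation: `⁅⁅A,F₂⁆,B⁆ ≤ ⁅F₁,F₂⁆` when `⁅M,M⁆` is central in `M` -/
theorem key_comm (h : Cfg3 S A B C)
    (hTc : ⁅(A ⊔ ⁅A, B⁆) ⊔ (C ⊔ ⁅C, B⁆), (A ⊔ ⁅A, B⁆) ⊔ (C ⊔ ⁅C, B⁆)⁆ ≤
      Subgroup.centralizer (((A ⊔ ⁅A, B⁆) ⊔ (C ⊔ ⁅C, B⁆) : Subgroup G) : Set G)) :
    ⁅⁅A, ⁅C, B⁆⁆, B⁆ ≤ ⁅⁅A, B⁆, ⁅C, B⁆⁆ := by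
  set M := (A ⊔ ⁅A, B⁆) ⊔ (C ⊔ ⁅C, B⁆) with hM
  have hAM : A ≤ M := le_sup_left.trans le_sup_left
  have hF₁M : ⁅A, B⁆ ≤ M := le_sup_right.trans le_sup_left
  have hF₂M : ⁅C, B⁆ ≤ M := le_sup_right.trans le_sup_right
  have hVM : ⁅⁅A, B⁆, ⁅C, B⁆⁆ ≤ M :=
    (commutator_le_sup' _ _).trans (sup_le hF₁M hF₂M)
  have hcV : Subgroup.centralizer (M : Set G) ≤
      Subgroup.normalizer ((⁅⁅A, B⁆, ⁅C, B⁆⁆ : Subgroup G) : Set G) :=
    (Subgroup.centralizer_le hVM).trans (centralizer_le_normalizer' _)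
  apply commutator_commutator_le
  · intro a ha f hf
    exact hcV (hTc (Subgroup.commutator_mem_commutator (hAM ha) (hF₂M hf)))
  · intro a ha f hf q hq
    have hz : ⁅a, f⁆ ∈ Subgroup.centralizer (M : Set G) :=
      hTc (Subgroup.commutator_mem_commutator (hAM ha) (hF₂M hf))
    have hu : ⁅q, a⁆ ∈ ⁅A, B⁆ := by
      rw [Subgroup.commutator_comm]; exact Subgroup.commutator_mem_commutator hq ha
    have hqf : q * f = f * q := by
      have := h.symm.F_le_cB hf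
      rw [Subgroup.mem_centralizer_iff] at this
      exact this q hq
    rw [Subgroup.mem_centralizer_iff] at hz
    have hzu : ⁅q, a⁆ * ⁅a, f⁆ = ⁅a, f⁆ * ⁅q, a⁆ := hz _ (hF₁M hu)
    have hzv : ⁅⁅q, a⁆, f⁆ * ⁅a, f⁆ = ⁅a, f⁆ * ⁅⁅q, a⁆, f⁆ :=
      hz _ (hVM (Subgroup.commutator_mem_commutator hu hf))
    -- `q z q⁻¹ = z ⁅u, f⁆`
    have e1 : q * ⁅a, f⁆ * q⁻¹ = ⁅a, f⁆ * ⁅⁅q, a⁆, f⁆ := by
      have hqf' : q * f * q⁻¹ = f := by rw [hqf]; group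
      have hqf'' : q * f⁻¹ * q⁻¹ = f⁻¹ := by
        have : q * f⁻¹ * q⁻¹ = (q * f * q⁻¹)⁻¹ := by group
        rw [this, hqf']
      calc q * ⁅a, f⁆ * q⁻¹
          = (q * a * q⁻¹) * (q * f * q⁻¹) * (q * a * q⁻¹)⁻¹ * (q * f⁻¹ * q⁻¹) := by
            simp only [commutatorElement_def]; group
        _ = (q * a * q⁻¹) * f * (q * a * q⁻¹)⁻¹ * f⁻¹ := by rw [hqf', hqf'']
        _ = (⁅q, a⁆ * ⁅a, f⁆) * (f * ⁅q, a⁆⁻¹ * f⁻¹) := by
            simp only [commutatorElement_def]; group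
        _ = (⁅a, f⁆ * ⁅q, a⁆) * (f * ⁅q, a⁆⁻¹ * f⁻¹) := by rw [hzu]
        _ = ⁅a, f⁆ * ⁅⁅q, a⁆, f⁆ := by
            simp only [commutatorElement_def]; group
    have e2 : ⁅⁅a, f⁆, q⁆ = (⁅⁅q, a⁆, f⁆)⁻¹ := by
      have : ⁅⁅a, f⁆, q⁆ = ⁅a, f⁆ * (q * ⁅a, f⁆ * q⁻¹)⁻¹ := by
        simp only [commutatorElement_def]; group
      rw [this, e1, ← hzv]; group
    rw [e2]
    exact Subgroup.inv_mem _ (Subgroup.commutator_mem_commutator hu hf)

/-- `⁅A, g C g⁻¹⁆ ≤ ⁅A, F₂⁆` -/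
theorem Z_le_W (h : Cfg3 S A B C) {g : G} (hg : g ∈ B) (hg1 : g ≠ 1) :
    ⁅A, conjBy C g⁆ ≤ ⁅A, ⁅C, B⁆⁆ := by
  set M := (A ⊔ ⁅A, B⁆) ⊔ (C ⊔ ⁅C, B⁆) with hM
  have hAM : A ≤ M := le_sup_left.trans le_sup_left
  have hF₂M : ⁅C, B⁆ ≤ M := le_sup_right.trans le_sup_right
  have hTc := h.T_le_cM hg hg1
  have hW : ⁅A, ⁅C, B⁆⁆ ≤ Subgroup.centralizer (M : Set G) :=
    (Subgroup.commutator_mono hAM hF₂M).trans hTc
  have hN : C ⊔ ⁅C, B⁆ ≤ Subgroup.normalizer ((⁅A, ⁅C, B⁆⁆ : Subgroup G) : Set G) :=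
    (le_sup_right : C ⊔ ⁅C, B⁆ ≤ M).trans (le_normalizer_of_centralizer_symm hW)
  refine (Subgroup.commutator_mono le_rfl (h.symm.conj_le hg)).trans ?_
  apply commutator_sup_le' hN
  · rw [h.comm]; exact bot_le
  · exact le_rfl

theorem part5 (h : Cfg3 S A B C) {g : G} (hg : g ∈ B) (hg1 : g ≠ 1) :
    Group.IsNilpotent ↥(A ⊔ B ⊔ C) := by
  have hTc := h.T_le_cM hg hg1
  have hTT0 := h.T_le_T0 hg hg1
  have hkey := h.key_comm hTc
  have hkey' := h.symm.key_comm (by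
    have e : (C ⊔ ⁅C, B⁆) ⊔ (A ⊔ ⁅A, B⁆) = (A ⊔ ⁅A, B⁆) ⊔ (C ⊔ ⁅C, B⁆) := sup_comm _ _
    rw [e]; exact hTc)
  have hZW := h.Z_le_W hg hg1
  have hZW' := h.symm.Z_le_W hg hg1
  have hRnM := h.R_le_nM
  have hMR := h.M_le_R
  have hF₁cB : ⁅A, B⁆ ≤ Subgroup.centralizer (B : Set G) := h.F_le_cB
  have hF₂cB : ⁅C, B⁆ ≤ Subgroup.centralizer (B : Set G) := h.symm.F_le_cB
  have hF₁cA : ⁅A, B⁆ ≤ Subgroup.centralizer (A : Set G) := h.F_le_cA
  have hF₂cC : ⁅C, B⁆ ≤ Subgroup.centralizer (C : Set G) := h.symm.F_le_cA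
  have hAA : ⁅A, A⁆ = ⊥ := comm_self_eq_bot_of_isMulCommutative h.abA
  have hBB : ⁅B, B⁆ = ⊥ := comm_self_eq_bot_of_isMulCommutative h.abB
  have hCC : ⁅C, C⁆ = ⊥ := comm_self_eq_bot_of_isMulCommutative h.abC
  have hAC : ⁅A, C⁆ = ⊥ := h.comm
  have hCA : ⁅C, A⁆ = ⊥ := h.symm.comm
  generalize hF₁ : ⁅A, B⁆ = F₁ at *
  generalize hF₂ : ⁅C, B⁆ = F₂ at *
  generalize hM : (A ⊔ F₁) ⊔ (C ⊔ F₂) = M at *
  have hAM : A ≤ M := hM ▸ le_sup_left.trans le_sup_left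
  have hF₁M : F₁ ≤ M := hM ▸ le_sup_right.trans le_sup_left
  have hCM : C ≤ M := hM ▸ le_sup_left.trans le_sup_right
  have hF₂M : F₂ ≤ M := hM ▸ le_sup_right.trans le_sup_right
  generalize hR : A ⊔ B ⊔ C = R at *
  have hAR : A ≤ R := hR ▸ le_sup_left.trans le_sup_left
  have hBR : B ≤ R := hR ▸ le_sup_right.trans le_sup_left
  have hCR : C ≤ R := hR ▸ le_sup_right
  have hBA : ⁅B, A⁆ = F₁ := by rw [Subgroup.commutator_comm]; exact hF₁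
  have hBC : ⁅B, C⁆ = F₂ := by rw [Subgroup.commutator_comm]; exact hF₂
  have hMcT : M ≤ Subgroup.centralizer ((⁅M, M⁆ : Subgroup G) : Set G) :=
    Subgroup.le_centralizer_iff.1 hTc
  have hTM : ⁅M, M⁆ ≤ M := (commutator_le_sup' M M).trans (sup_le le_rfl le_rfl)
  -- `R` normalizes `T = ⁅M,M⁆`
  have hRnT : R ≤ Subgroup.normalizer ((⁅M, M⁆ : Subgroup G) : Set G) := by
    intro r hr
    rw [← conjBy_eq_self_iff, conjBy_commutator, conjBy_eq_self_iff.2 (hRnM hr)]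
  -- `V = ⁅F₁,F₂⁆`
  have hVT : ⁅F₁, F₂⁆ ≤ ⁅M, M⁆ := Subgroup.commutator_mono hF₁M hF₂M
  have hVcB : ⁅F₁, F₂⁆ ≤ Subgroup.centralizer (B : Set G) := by
    rw [Subgroup.commutator_le]
    intro x hx y hy
    rw [commutatorElement_def]
    exact Subgroup.mul_mem _ (Subgroup.mul_mem _ (Subgroup.mul_mem _ (hF₁cB hx) (hF₂cB hy))
      (Subgroup.inv_mem _ (hF₁cB hx))) (Subgroup.inv_mem _ (hF₂cB hy))
  have hVcM : ⁅F₁, F₂⁆ ≤ Subgroup.centralizer (M : Set G) := hVT.trans hTc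
  have hVcR : ⁅F₁, F₂⁆ ≤ Subgroup.centralizer (R : Set G) := by
    rw [← hR]
    exact le_centralizer_sup' (le_centralizer_sup' (hVcM.trans (Subgroup.centralizer_le hAM)) hVcB)
      (hVcM.trans (Subgroup.centralizer_le hCM))
  have hRnV : R ≤ Subgroup.normalizer ((⁅F₁, F₂⁆ : Subgroup G) : Set G) :=
    le_normalizer_of_centralizer_symm hVcR
  -- `K₁ = F₁ ⊔ F₂ ⊔ T`
  have hK₁M : F₁ ⊔ F₂ ⊔ ⁅M, M⁆ ≤ M := sup_le (sup_le hF₁M hF₂M) hTM
  have hMnK₁ : M ≤ Subgroup.normalizer ((F₁ ⊔ F₂ ⊔ ⁅M, M⁆ : Subgroup G) : Set G) := by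
    rw [Subgroup.le_normalizer_iff_commutator_le_right]
    exact (Subgroup.commutator_mono le_rfl hK₁M).trans le_sup_right
  have hBnK₁ : B ≤ Subgroup.normalizer ((F₁ ⊔ F₂ ⊔ ⁅M, M⁆ : Subgroup G) : Set G) :=
    le_normalizer_sup' (le_normalizer_sup' (le_normalizer_of_centralizer_symm hF₁cB)
      (le_normalizer_of_centralizer_symm hF₂cB)) (hBR.trans hRnT)
  have hRnK₁ : R ≤ Subgroup.normalizer ((F₁ ⊔ F₂ ⊔ ⁅M, M⁆ : Subgroup G) : Set G) := by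
    rw [← hR]
    exact sup_le (sup_le (hAM.trans hMnK₁) hBnK₁) (hCM.trans hMnK₁)
  have hRnK₁' : A ⊔ B ⊔ C ≤ Subgroup.normalizer ((F₁ ⊔ F₂ ⊔ ⁅M, M⁆ : Subgroup G) : Set G) := by
    rw [hR]; exact hRnK₁
  have hRnT' : A ⊔ B ⊔ C ≤ Subgroup.normalizer ((⁅M, M⁆ : Subgroup G) : Set G) := by
    rw [hR]; exact hRnT
  have hRnV' : A ⊔ B ⊔ C ≤ Subgroup.normalizer ((⁅F₁, F₂⁆ : Subgroup G) : Set G) := by
    rw [hR]; exact hRnV
  have hle1 : F₁ ≤ F₁ ⊔ F₂ ⊔ ⁅M, M⁆ := le_sup_left.trans le_sup_left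
  have hle2 : F₂ ≤ F₁ ⊔ F₂ ⊔ ⁅M, M⁆ := le_sup_right.trans le_sup_left
  -- step 0
  have s0 : ⁅R, R⁆ ≤ F₁ ⊔ F₂ ⊔ ⁅M, M⁆ := by
    rw [← hR]
    apply comm3_le hRnK₁'
    · apply comm3_le' hRnK₁'
      · rw [hAA]; exact bot_le
      · rw [hF₁]; exact hle1
      · rw [hAC]; exact bot_le
    · apply comm3_le' hRnK₁'
      · rw [hBA]; exact hle1
      · rw [hBB]; exact bot_le
      · rw [hBC]; exact hle2
    · apply comm3_le' hRnK₁'
      · rw [hCA]; exact bot_le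
      · rw [hF₂]; exact hle2
      · rw [hCC]; exact bot_le
  -- step 1
  have hTA : ⁅⁅M, M⁆, A⁆ = ⊥ :=
    Subgroup.commutator_eq_bot_iff_le_centralizer.2 (hTc.trans (Subgroup.centralizer_le hAM))
  have hTC : ⁅⁅M, M⁆, C⁆ = ⊥ :=
    Subgroup.commutator_eq_bot_iff_le_centralizer.2 (hTc.trans (Subgroup.centralizer_le hCM))
  have s1 : ⁅F₁ ⊔ F₂ ⊔ ⁅M, M⁆, R⁆ ≤ ⁅M, M⁆ := by
    rw [← hR]
    apply comm3_le ((hK₁M.trans hMR).trans hRnT)
    · apply comm3_le' hRnT'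
      · rw [Subgroup.commutator_eq_bot_iff_le_centralizer.2 hF₁cA]; exact bot_le
      · rw [Subgroup.commutator_eq_bot_iff_le_centralizer.2 hF₁cB]; exact bot_le
      · exact Subgroup.commutator_mono hF₁M hCM
    · apply comm3_le' hRnT'
      · exact Subgroup.commutator_mono hF₂M hAM
      · rw [Subgroup.commutator_eq_bot_iff_le_centralizer.2 hF₂cB]; exact bot_le
      · rw [Subgroup.commutator_eq_bot_iff_le_centralizer.2 hF₂cC]; exact bot_le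
    · apply comm3_le' hRnT'
      · rw [hTA]; exact bot_le
      · exact Subgroup.le_normalizer_iff_commutator_le_left.1 (hBR.trans hRnT)
      · rw [hTC]; exact bot_le
  -- step 2
  have hTB : ⁅⁅M, M⁆, B⁆ ≤ ⁅F₁, F₂⁆ := by
    refine (Subgroup.commutator_mono hTT0 le_rfl).trans ?_
    have hT0R : ⁅A, conjBy C g⁆ ⊔ ⁅C, conjBy A g⁆ ≤ R := by
      have hgR : g ∈ R := hBR hg
      apply sup_le
      · exact (commutator_le_sup' _ _).trans (sup_le hAR (conjBy_le_of_mem hCR hgR))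
      · exact (commutator_le_sup' _ _).trans (sup_le hCR (conjBy_le_of_mem hAR hgR))
    apply commutator_sup_le (hT0R.trans hRnV)
    · exact (Subgroup.commutator_mono hZW le_rfl).trans hkey
    · refine (Subgroup.commutator_mono hZW' le_rfl).trans (hkey'.trans ?_)
      rw [Subgroup.commutator_comm]
  have s2 : ⁅⁅M, M⁆, R⁆ ≤ ⁅F₁, F₂⁆ := by
    rw [← hR]
    apply comm3_le' hRnV'
    · rw [hTA]; exact bot_le
    · exact hTB
    · rw [hTC]; exact bot_le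
  -- step 3
  have s3 : ⁅⁅F₁, F₂⁆, R⁆ = ⊥ := Subgroup.commutator_eq_bot_iff_le_centralizer.2 hVcR
  -- assemble
  let K : ℕ → Subgroup G := fun i =>
    match i with
    | 0 => R
    | 1 => F₁ ⊔ F₂ ⊔ ⁅M, M⁆
    | 2 => ⁅M, M⁆
    | 3 => ⁅F₁, F₂⁆
    | _ => ⊥
  apply isNilpotent_of_series R 4 K le_rfl
  · show (⊥ : Subgroup G) ⊓ R = ⊥
    exact bot_inf_eq _
  · intro i x hx hxR y hy
    match i with
    | 0 => exact s0 (Subgroup.commutator_mem_commutator hx hy)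
    | 1 => exact s1 (Subgroup.commutator_mem_commutator hx hy)
    | 2 => exact s2 (Subgroup.commutator_mem_commutator hx hy)
    | 3 =>
      have : ⁅x, y⁆ ∈ (⊥ : Subgroup G) := by
        rw [← s3]; exact Subgroup.commutator_mem_commutator hx hy
      exact this
    | (n + 4) =>
      have hx1 : x = 1 := by
        have : x ∈ (⊥ : Subgroup G) := hx
        simpa using this
      show ⁅x, y⁆ ∈ (⊥ : Subgroup G)
      rw [hx1]; simp

end Cfg3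

end Cfsg.Agent.Helper83
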