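import Mathlib
import Cfsg.Prelude.Def_RootSubgroups
import Cfsg.Agent.Lib.Helper83.Conj
import Cfsg.Agent.Lib.Helper83.RankOne
import Cfsg.Agent.Lib.Helper83.RootBasic

set_option autoImplicit false

namespace Cfsg.Agent.Helper83.R3

open Cfsg Cfsg.Agent.Helper83

variable {G : Type*} [Group G]

/-- Standing hypotheses on the set `S` of abstract root subgroups (R3 server, S5033). -/
structure RootCtx (S : Set (Subgroup G)) : Prop where
  hS : IsRootSubgroupSet S
  conj : ∀ A ∈ S, ∀ B ∈ S, ∃ g : G, B = conjBy A g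
  special : ∀ A ∈ S, ∀ B ∈ S, IsRankOnePair A B → IsSpecialRankOnePair A B
  partner : ∀ A ∈ S, ∃ B ∈ S, IsRankOnePair A B
  big : IsDegenerateRootSet S → ∀ A ∈ S, 3 < ENat.card A
  distinct : ∀ A ∈ S, ∀ C ∈ S, A ≠ C → centralizingMembers S A ≠ centralizingMembers S C

/-- `N` is a normal subgroup of `G` containing no member of `S`. -/
structure NCtx (S : Set (Subgroup G)) (N : Subgroup G) : Prop where
  root : RootCtx S
  normal : N.Normal
  noMem : ∀ A ∈ S, ¬ A ≤ N

/-- (FP) as a property of `S`: big unipotent subgroups lie in `[A, H]`. -/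
def BigInComm (S : Set (Subgroup G)) : Prop :=
  ∀ A ∈ S, ∀ B ∈ S, IsRankOnePair A B → 3 < ENat.card A → A ≤ ⁅A, rankOneDiagonal A B⁆

/-- (A) as a property: `N ∩ X` is central in `X` for every rank one group `X = ⟨A, B⟩` in `S`. -/
def InfCentral (S : Set (Subgroup G)) (N : Subgroup G) : Prop :=
  ∀ A ∈ S, ∀ B ∈ S, IsRankOnePair A B →
    N ⊓ (A ⊔ B) ≤ Subgroup.centralizer ((A ⊔ B : Subgroup G) : Set G)

/-- (B) as a property: every member of `S` commutes with its conjugates under `N`. -/
def ConjCommute (S : Set (Subgroup G)) (N : Subgroup G) : Prop :=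
  ∀ A ∈ S, ∀ n ∈ N, ⁅A, conjBy A n⁆ = ⊥

/-- (LN) a rank one pair `(A, B)` with `B` abelian cannot have `[A, B]` centralizing `B`. -/
theorem rankOne_comm_not_central {A B : Subgroup G} (h : IsRankOnePair A B)
    (hB : IsMulCommutative B) (hc : ⁅A, B⁆ ≤ Subgroup.centralizer (B : Set G)) : False := by
  obtain ⟨a, ha, ha1⟩ := exists_mem_ne_one_of_ne_bot (rankOne_ne_bot_left h)
  exact rankOne_commutator_kill h hB hc ha ha1
    (conjBy_le_sup_commutator (E := A) (B := B) (A.inv_mem ha))

/-- (CC) conjugate subgroups have the same cardinality. -/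
theorem card_conjBy (A : Subgroup G) (g : G) : ENat.card (conjBy A g) = ENat.card A := by
  have e : A ≃ (conjBy A g) :=
    (Subgroup.equivMapOfInjective A (MulAut.conj g).toMonoidHom (MulAut.conj g).injective).toEquiv
  exact (ENat.card_congr e).symm

/-- (SC) a subgroup with at most three elements lies in every subgroup containing one of its
non-identity elements. -/
theorem le_of_card_le_three {E N : Subgroup G} (hcard : ENat.card E ≤ 3) {n : G} (hnE : n ∈ E)
    (hnN : n ∈ N) (hn1 : n ≠ 1) : E ≤ N := by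
  have hfin : Finite E := by
    rw [← ENat.card_lt_top]
    exact lt_of_le_of_lt hcard (by decide)
  have hle : Nat.card E ≤ 3 := by
    have h1 : (Nat.card E : ℕ∞) = ENat.card E := by
      rw [ENat.card_eq_coe_natCard]
    have : (Nat.card E : ℕ∞) ≤ 3 := h1 ▸ hcard
    exact_mod_cast this
  have hz : Subgroup.zpowers n ≤ E := Subgroup.zpowers_le.2 hnE
  have hdvd : orderOf n ∣ Nat.card E := Subgroup.orderOf_dvd_natCard E hnE
  have hpos : 0 < Nat.card E := Nat.card_pos
  have ho1 : orderOf n ≠ 1 := fun h => hn1 (orderOf_eq_one_iff.1 h)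
  have hole : orderOf n ≤ Nat.card E := Nat.le_of_dvd hpos hdvd
  have hoeq : orderOf n = Nat.card E := by
    have ho2 : 2 ≤ orderOf n := by
      have ho0 : orderOf n ≠ 0 := fun h => by rw [h, zero_dvd_iff] at hdvd; omega
      omega
    generalize orderOf n = o at *
    generalize Nat.card E = c at *
    interval_cases c <;> interval_cases o <;> first | rfl | omega
  have heq : Subgroup.zpowers n = E := by
    apply Subgroup.eq_of_le_of_card_ge hz
    rw [Nat.card_zpowers, hoeq]
  rw [← heq]
  exact Subgroup.zpowers_le.2 hnN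

end Cfsg.Agent.Helper83.R3
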