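import Mathlib
import Cfsg.Prelude.Def_FusionSystem
import Cfsg.Agent.Lib.Helper87.FusionAlperin
import Cfsg.Agent.Lib.Helper84.FusSat
import Cfsg.Agent.Lib.Helper84.GrpSE

/-!
Roberts–Shpectorov: if `S` is fully automized and every fully normalized subgroup is receptive, then
every fully normalized subgroup is fully automized (hence the system is saturated).
-/

set_option autoImplicit false

namespace Cfsg.Agent.Helper83

open Cfsg Cfsg.FusionSystem Cfsg.Agent.Helper87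

variable {Ω : Type*} [Group Ω] {S : Subgroup Ω}

/-- in a finite subgroup, `s H s⁻¹ ⊆ H` implies `s` normalizes `H` -/
theorem mem_normalizer_of_conj_mem_of_finite {H : Subgroup Ω} [Finite H] {s : Ω}
    (h : ∀ y ∈ H, s * y * s⁻¹ ∈ H) : s ∈ Subgroup.normalizer (H : Set Ω) := by
  rw [Subgroup.mem_normalizer_iff]
  intro y
  refine ⟨h y, fun hy => ?_⟩
  have hinj : Function.Injective (fun z : H => (⟨s * z * s⁻¹, h z z.2⟩ : H)) := by
    intro a b hab
    have h1 : s * (a : Ω) * s⁻¹ = s * (b : Ω) * s⁻¹ := congrArg Subtype.val hab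
    exact Subtype.ext (mul_left_cancel (mul_right_cancel h1))
  obtain ⟨z, hz⟩ := (Finite.injective_iff_surjective.1 hinj) ⟨_, hy⟩
  have h1 : s * (z : Ω) * s⁻¹ = s * y * s⁻¹ := congrArg Subtype.val hz
  have h2 : (z : Ω) = y := mul_left_cancel (mul_right_cancel h1)
  rw [← h2]
  exact z.2

/-- powers of an automorphism extending another one extend its powers -/
theorem aut_pow_restrict {N Q : Subgroup Ω} (hQN : Q ≤ N) (β : MulAut N) (α : MulAut Q)
    (h : ∀ x : Q, ((β ⟨x, hQN x.2⟩ : N) : Ω) = ((α x : Q) : Ω)) (j : ℕ) :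
    ∀ x : Q, (((β ^ j) ⟨x, hQN x.2⟩ : N) : Ω) = (((α ^ j) x : Q) : Ω) := by
  induction j with
  | zero => intro x; simp
  | succ j ih =>
    intro x
    rw [pow_succ, pow_succ]
    show (((β ^ j) (β ⟨x, hQN x.2⟩) : N) : Ω) = (((α ^ j) (α x) : Q) : Ω)
    rw [← ih (α x)]
    congr 2
    exact Subtype.ext (h x)

/-- an automorphism of a receptive subgroup `Q` normalizing `Aut_S(Q)` extends to `N_S(Q)` -/
theorem exists_aut_extension {F : FusionSystem S} {Q : Subgroup Ω} (hrec : F.IsReceptive Q)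
    {α : MulAut Q} (hα : α ∈ F.autGroup Q)
    (hnorm : ∀ τ ∈ autInducedBy S Q, α * τ * α⁻¹ ∈ autInducedBy S Q) :
    ∃ b, Mor F (normalizerIn S Q) b ∧ ∀ x ∈ Q, b x = extAut α x := by
  have hQ : Q ≤ S := hrec.1
  have hmor : Mor F Q (extAut α) := (mem_autGroup_iff hQ).1 hα
  have h : Iso F Q Q (extAut α) := iso_of_mor_extAut hmor
  obtain ⟨g, hg, eg⟩ := (isReceptive_iff.1 hrec).2 Q _ h
  have hext : h.ext = normalizerIn S Q := by
    apply le_antisymm h.ext_le_normalizerIn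
    intro n hn
    have hτ : conjAut Q n hn.2 ∈ autInducedBy S Q := conjAut_mem_autInducedBy hn.1 hn.2
    obtain ⟨k, hk, ek⟩ := mem_autInducedBy_iff.1 (hnorm _ hτ)
    refine ⟨hn.1, hn.2, k, hk, fun x hx => ?_⟩
    have hx' : n * x * n⁻¹ ∈ Q := (Subgroup.mem_normalizer_iff.1 hn.2 x).1 hx
    rw [extAut_mem α hx', extAut_mem α hx]
    have h1 := ek (α ⟨x, hx⟩)
    rw [← h1]
    show ((α ⟨n * x * n⁻¹, hx'⟩ : Q) : Ω) = ((α (conjAut Q n hn.2 (α⁻¹ (α ⟨x, hx⟩))) : Q) : Ω)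
    congr 2
    apply Subtype.ext
    rw [conjAut_apply]
    simp
  rw [hext] at hg
  exact ⟨g, hg, eg⟩

/-- key step: a `p`-element of `Aut_F(N_S(Q))` preserving the fully normalized subgroup `Q` acts on `Q` as an
element of `N_S(Q)`, provided fully normalized subgroups of the order of `N_S(Q)` are fully automized -/
theorem aut_normalizer_restrict {p : ℕ} [Fact p.Prime] [Finite S] {F : FusionSystem S}
    {Q : Subgroup Ω} (hQ : F.IsFullyNormalized Q)
    (hfa : ∀ R : Subgroup Ω, F.IsFullyNormalized R → Nat.card (normalizerIn S Q) = Nat.card R →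
      F.IsFullyAutomized p R)
    {β : MulAut (normalizerIn S Q)} (hβ : β ∈ F.autGroup (normalizerIn S Q)) {e : ℕ}
    (hβp : β ^ p ^ e = 1)
    (hβQ : ∀ x : normalizerIn S Q, (x : Ω) ∈ Q → ((β x : normalizerIn S Q) : Ω) ∈ Q) :
    ∃ t ∈ normalizerIn S Q, ∀ x : normalizerIn S Q, (x : Ω) ∈ Q →
      ((β x : normalizerIn S Q) : Ω) = t * x * t⁻¹ := by
  classical
  have hQS : Q ≤ S := hQ.1
  have hNS : normalizerIn S Q ≤ S := inf_le_left
  have hQN : Q ≤ normalizerIn S Q := le_normalizerIn hQS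
  obtain ⟨R', hconj, hfn⟩ := exists_fullyNormalized_conj F hNS
  obtain ⟨χ, hχ⟩ := isConj_iff.1 hconj
  have hR'S : R' ≤ S := hfn.1
  have hfinR' : Finite R' := finite_of_le hR'S
  have hfaR := hfa R' hfn hχ.card_eq
  rw [Helper84.fullyAutomized_iff] at hfaR
  obtain ⟨-, hsyl⟩ := hfaR
  -- transport `β` to `R'`
  have hγ : MulAut.congr hχ.equiv β ∈ F.autGroup R' := congr_mem_autGroup hχ hβ
  have hγp : (MulAut.congr hχ.equiv β) ^ p ^ e = 1 := by
    rw [← map_pow, hβp, map_one]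
  have hH : IsPGroup p (Subgroup.zpowers (MulAut.congr hχ.equiv β)) := by
    rintro ⟨x, hx⟩
    obtain ⟨j, rfl⟩ := Subgroup.mem_zpowers_iff.1 hx
    refine ⟨e, Subtype.ext ?_⟩
    show ((MulAut.congr hχ.equiv β) ^ j) ^ p ^ e = 1
    rw [← zpow_natCast, ← zpow_mul, mul_comm, zpow_mul, zpow_natCast, hγp, one_zpow]
  have hHK : Subgroup.zpowers (MulAut.congr hχ.equiv β) ≤ F.autGroup R' :=
    Subgroup.zpowers_le.2 hγ
  obtain ⟨δ, hδ, hle⟩ := hsyl.exists_conj_ge hHK hH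
  obtain ⟨τ, hτ, hτγ⟩ := hle (Subgroup.mem_zpowers _)
  obtain ⟨s, hsS, hsN, es⟩ := mem_autInducedBy_iff'.1 hτ
  -- the corrected isomorphism
  have hδ' : Mor F R' (extAut δ⁻¹) := (mem_autGroup_iff hR'S).1 (Subgroup.inv_mem _ hδ)
  have hχ' : Iso F (normalizerIn S Q) R' (fun x => extAut δ⁻¹ (χ x)) :=
    hχ.comp (iso_of_mor_extAut hδ')
  have key : ∀ x (hx : x ∈ normalizerIn S Q), extAut δ⁻¹ (χ ((β ⟨x, hx⟩ : normalizerIn S Q) : Ω)) =
      s * extAut δ⁻¹ (χ x) * s⁻¹ := by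
    intro x hx
    have h1 : δ⁻¹ * (MulAut.congr hχ.equiv β) = τ * δ⁻¹ := by
      rw [← hτγ]
      show δ⁻¹ * (δ * τ * δ⁻¹) = τ * δ⁻¹
      group
    have h2 := congrArg (fun f : MulAut R' => ((f (hχ.equiv ⟨x, hx⟩) : R') : Ω)) h1
    simp only [MulAut.mul_apply] at h2
    rw [es] at h2
    have h3 : (MulAut.congr hχ.equiv β) (hχ.equiv ⟨x, hx⟩) = hχ.equiv (β ⟨x, hx⟩) := by
      show hχ.equiv (β (hχ.equiv.symm (hχ.equiv ⟨x, hx⟩))) = _
      rw [MulEquiv.symm_apply_apply]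
    rw [h3] at h2
    rw [extAut_mem δ⁻¹ (hχ.map_mem (β ⟨x, hx⟩).2), extAut_mem δ⁻¹ (hχ.map_mem hx)]
    exact h2
  -- the image of `Q`
  have hQQ' : Iso F Q (hχ'.1.restrict hQN).image (fun x => extAut δ⁻¹ (χ x)) := Iso.of_mor _
  set Q' := (hχ'.1.restrict hQN).image with hQ'def
  have hQ'R' : Q' ≤ R' := by
    rintro _ ⟨x, hx, rfl⟩
    exact hχ'.map_mem (hQN hx)
  have hfinQ' : Finite Q' := finite_of_le (hQ'R'.trans hR'S)
  have hsQ' : s ∈ Subgroup.normalizer (Q' : Set Ω) := by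
    apply mem_normalizer_of_conj_mem_of_finite
    rintro _ ⟨x, hx, rfl⟩
    show s * extAut δ⁻¹ (χ x) * s⁻¹ ∈ Q'
    rw [← key x (hQN hx)]
    exact ⟨_, hβQ ⟨x, hQN hx⟩ hx, rfl⟩
  have hR'le : R' ≤ normalizerIn S Q' := by
    intro r hr
    obtain ⟨n, hn, rfl⟩ := hχ'.surj hr
    exact ⟨hR'S hr, hχ'.1.map_normalizer hQN hQQ' hn hn.2⟩
  have hcard : Nat.card (normalizerIn S Q') ≤ Nat.card R' := by
    rw [← hχ.card_eq]
    exact hQ.2 Q' (isConj_iff.2 ⟨_, hQQ'⟩)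
  have hfinN' : Finite (normalizerIn S Q') := finite_of_le inf_le_left
  have hReq : R' = normalizerIn S Q' := Subgroup.eq_of_le_of_card_ge hR'le hcard
  have hsR' : s ∈ R' := by rw [hReq]; exact ⟨hsS, hsQ'⟩
  obtain ⟨t, ht, hts⟩ := hχ'.surj hsR'
  refine ⟨t, ht, fun x hx => ?_⟩
  have hxN : (x : Ω) ∈ normalizerIn S Q := x.2
  apply hχ'.1.inj (β x).2 ((normalizerIn S Q).mul_mem ((normalizerIn S Q).mul_mem ht hxN)
    ((normalizerIn S Q).inv_mem ht))
  rw [hχ'.1.map_conj ht hxN, hts]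
  exact key x hxN

/-- **Roberts–Shpectorov**: if `S` is fully automized and all fully normalized subgroups are receptive, then all
fully normalized subgroups are fully automized -/
theorem fullyAutomized_of_receptive {p : ℕ} [hp : Fact p.Prime] [Finite S] (hS : IsPGroup p S)
    {F : FusionSystem S} (hSA : F.IsFullyAutomized p S)
    (hrec : ∀ P : Subgroup Ω, F.IsFullyNormalized P → F.IsReceptive P) :
    ∀ Q : Subgroup Ω, F.IsFullyNormalized Q → F.IsFullyAutomized p Q := by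
  classical
  suffices H : ∀ n : ℕ, ∀ Q : Subgroup Ω, F.IsFullyNormalized Q → Nat.card S - Nat.card Q = n →
      F.IsFullyAutomized p Q from fun Q hQ => H _ Q hQ rfl
  intro n
  induction n using Nat.strong_induction_on with
  | _ n ih =>
  intro Q hQ hn
  have hQS : Q ≤ S := hQ.1
  by_cases hQeq : Q = S
  · rw [hQeq]; exact hSA
  have hfinQ : Finite Q := finite_of_le hQS
  have hNS : normalizerIn S Q ≤ S := inf_le_left
  have hQN : Q ≤ normalizerIn S Q := le_normalizerIn hQS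
  obtain ⟨n1, hn1, hn1Q⟩ := exists_normalizer_not_mem hS hQS hQeq
  have hlt : Nat.card Q < Nat.card (normalizerIn S Q) := card_lt_of_not_mem hQN hNS hn1 hn1Q
  have hfa : ∀ R : Subgroup Ω, F.IsFullyNormalized R → Nat.card (normalizerIn S Q) = Nat.card R →
      F.IsFullyAutomized p R := by
    intro R hR hcard
    have hRle := Subgroup.card_le_of_le hR.1
    exact ih (Nat.card S - Nat.card R) (by omega) R hR rfl
  rw [Helper84.fullyAutomized_iff]
  refine ⟨hQS, ?_⟩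
  obtain ⟨T₁, hle, hsyl⟩ := Helper84.exists_isSylIn_ge (autInducedBy_le_autGroup F hQS)
    (isPGroup_autInducedBy hS Q)
  by_cases heq : autInducedBy S Q = T₁
  · rw [heq]; exact hsyl
  exfalso
  have hlt' : autInducedBy S Q < T₁ := lt_of_le_of_ne hle heq
  obtain ⟨α, hαT₁, hαN, hαT₀⟩ := Helper84.exists_mem_normalizer_not_mem hsyl.2.1 hlt'
  have hαA : α ∈ F.autGroup Q := hsyl.1 hαT₁
  obtain ⟨k, hk⟩ := hsyl.2.1 ⟨α, hαT₁⟩
  have hαp : α ^ p ^ k = 1 := congrArg Subtype.val hk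
  have hnorm : ∀ τ ∈ autInducedBy S Q, α * τ * α⁻¹ ∈ autInducedBy S Q :=
    fun τ hτ => (Subgroup.mem_normalizer_iff.1 hαN τ).1 hτ
  obtain ⟨b, hb, eb⟩ := exists_aut_extension (hrec Q hQ) hαA hnorm
  have hmorα : Mor F Q (extAut α) := (mem_autGroup_iff hQS).1 hαA
  have hQQ : Iso F Q Q b := (iso_of_mor_extAut hmorα).congr (fun x hx => (eb x hx).symm)
  have hNN : Iso F (normalizerIn S Q) (normalizerIn S Q) b :=
    iso_of_card_le hb hNS (fun n hn => map_normalizerIn hb hQQ hn) le_rfl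
  have hβ : hNN.equiv ∈ F.autGroup (normalizerIn S Q) := hNN.equiv_mem_autGroup
  have hβα : ∀ x : Q, ((hNN.equiv ⟨x, hQN x.2⟩ : normalizerIn S Q) : Ω) = ((α x : Q) : Ω) := by
    intro x
    rw [hNN.equiv_apply]
    show b x = _
    rw [eb x x.2, extAut_apply]
  have hfinN : Finite (normalizerIn S Q) := finite_of_le hNS
  obtain ⟨e, m, hm, hem⟩ := Nat.exists_eq_pow_mul_and_not_dvd (orderOf_pos hNN.equiv).ne' p
    hp.out.ne_one
  have hβ'p : (hNN.equiv ^ m) ^ p ^ e = 1 := by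
    rw [← pow_mul, mul_comm, ← hem, pow_orderOf_eq_one]
  have hpow := aut_pow_restrict hQN hNN.equiv α hβα m
  have hβ'Q : ∀ x : normalizerIn S Q, (x : Ω) ∈ Q →
      (((hNN.equiv ^ m) x : normalizerIn S Q) : Ω) ∈ Q := by
    intro x hx
    have := hpow ⟨x, hx⟩
    have hx' : (⟨((⟨(x : Ω), hx⟩ : Q) : Ω), hQN hx⟩ : normalizerIn S Q) = x := Subtype.ext rfl
    rw [hx'] at this
    rw [this]
    exact ((α ^ m) ⟨x, hx⟩).2
  obtain ⟨t, ht, et⟩ := aut_normalizer_restrict hQ hfa (Subgroup.pow_mem _ hβ m) hβ'p hβ'Q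
  have hαm : α ^ m ∈ autInducedBy S Q := by
    apply mem_autInducedBy_iff.2
    refine ⟨t, ht.1, fun x => ?_⟩
    rw [← hpow x]
    exact et ⟨x, hQN x.2⟩ x.2
  have hord : orderOf α ∣ p ^ k := orderOf_dvd_of_pow_eq_one hαp
  obtain ⟨j, -, hj⟩ := (Nat.dvd_prime_pow hp.out).1 hord
  have hcop : m.Coprime (orderOf α) := by
    rw [hj]
    exact ((Nat.Prime.coprime_iff_not_dvd hp.out).2 hm).symm.pow_right j
  obtain ⟨m', hm'⟩ := exists_pow_eq_self_of_coprime hcop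
  apply hαT₀
  rw [← hm']
  exact Subgroup.pow_mem _ hαm m'

end Cfsg.Agent.Helper83
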