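import Mathlib
import Cfsg.Agent.Lib.Helper83.OrderP3
import Cfsg.Agent.Lib.Helper48.TransferInv
import Cfsg.Agent.Lib.Helper11.PGroup
import Cfsg.Agent.S0013

set_option autoImplicit false

/-!
# Tools for groups of order `p⁴`

Invariant chains of length four, splitting off a central direct factor of order `p`, the
commutator homomorphism of a class-two situation, and the bound `|H'| ≤ p` when `|Z(H)| = p²`.
-/

namespace Cfsg.Agent.Helper83

open scoped commutatorElement

section tools

variable {H : Type*} [Group H]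

theorem map_mem_of_characteristic (K : Subgroup H) [hK : K.Characteristic] (α : MulAut H) {x : H}
    (hx : x ∈ K) : α x ∈ K :=
  (Subgroup.characteristic_iff_le_comap.1 hK α) hx

theorem map_mem_centralizer (K : Subgroup H) (hK : ∀ α : MulAut H, ∀ x ∈ K, α x ∈ K)
    (α : MulAut H) {g : H} (hg : g ∈ Subgroup.centralizer (K : Set H)) :
    α g ∈ Subgroup.centralizer (K : Set H) := by
  rw [Subgroup.mem_centralizer_iff] at hg ⊢
  intro k hk
  have h1 := hg (α⁻¹ k) (hK α⁻¹ k hk)
  have h2 := congrArg α h1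
  simpa using h2

theorem sup_zpowers_eq_of_relIndex_prime {p : ℕ} (hp : p.Prime) {K L : Subgroup H} (hKL : K ≤ L)
    (hidx : K.relIndex L = p) {x : H} (hxL : x ∈ L) (hxK : x ∉ K) :
    K ⊔ Subgroup.zpowers x = L := by
  have hle : K ⊔ Subgroup.zpowers x ≤ L := sup_le hKL ((Subgroup.zpowers_le).2 hxL)
  apply le_antisymm hle
  have h1 := Subgroup.relIndex_mul_relIndex K (K ⊔ Subgroup.zpowers x) L le_sup_left hle
  rw [hidx] at h1
  have h2 : K.relIndex (K ⊔ Subgroup.zpowers x) ≠ 1 := by
    intro h
    rw [Subgroup.relIndex_eq_one] at h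
    exact hxK (h ((le_sup_right : Subgroup.zpowers x ≤ _) (Subgroup.mem_zpowers x)))
  have h3 : K.relIndex (K ⊔ Subgroup.zpowers x) ∣ p := Dvd.intro _ h1
  rcases (Nat.dvd_prime hp).1 h3 with h | h
  · exact absurd h h2
  · rw [h] at h1
    have h4 : (K ⊔ Subgroup.zpowers x).relIndex L = 1 := by
      have : p * (K ⊔ Subgroup.zpowers x).relIndex L = p * 1 := by rw [h1, mul_one]
      exact Nat.eq_of_mul_eq_mul_left hp.pos this
    exact Subgroup.relIndex_eq_one.1 h4

/-- `g ↦ ⁅g, x⁆` is a homomorphism when these commutators are central -/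
def commHom (x : H) (hx : ∀ g : H, ⁅g, x⁆ ∈ Subgroup.center H) : H →* H :=
  MonoidHom.mk' (fun g => ⁅g, x⁆) (by
    intro a b
    have hb := Subgroup.mem_center_iff.1 (hx b)
    have ha := Subgroup.mem_center_iff.1 (hx a)
    have h1 : ⁅a * b, x⁆ = a * ⁅b, x⁆ * a⁻¹ * ⁅a, x⁆ := by
      simp only [commutatorElement_def]; group
    rw [h1, hb a, mul_inv_cancel_right]
    exact ha _)

theorem commHom_apply (x : H) (hx : ∀ g : H, ⁅g, x⁆ ∈ Subgroup.center H) (g : H) :
    commHom x hx g = ⁅g, x⁆ := rfl

theorem mem_ker_commHom (x : H) (hx : ∀ g : H, ⁅g, x⁆ ∈ Subgroup.center H) {g : H} :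
    g ∈ (commHom x hx).ker ↔ g * x = x * g := by
  rw [MonoidHom.mem_ker, commHom_apply, commutatorElement_eq_one_iff_mul_comm]

theorem commutator_le_of_quotient_comm (R : Subgroup H) [R.Normal]
    (hq : ∀ a b : H ⧸ R, a * b = b * a) : commutator H ≤ R := by
  rw [commutator_eq_closure, Subgroup.closure_le]
  rintro _ ⟨x, y, rfl⟩
  rw [SetLike.mem_coe, ← QuotientGroup.eq_one_iff]
  have : ((⁅x, y⁆ : H) : H ⧸ R) = ⁅(x : H ⧸ R), (y : H ⧸ R)⁆ :=
    map_commutatorElement (QuotientGroup.mk' R) x y
  rw [this, commutatorElement_eq_one_iff_mul_comm]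
  exact hq _ _

theorem commutatorElement_mem_commutator (a b : H) : ⁅a, b⁆ ∈ commutator H := by
  rw [commutator_def]
  exact Subgroup.commutator_mem_commutator (Subgroup.mem_top a) (Subgroup.mem_top b)

theorem commutator_ne_bot_of_nonabelian (hna : ∃ a b : H, a * b ≠ b * a) : commutator H ≠ ⊥ := by
  intro h
  obtain ⟨a, b, hab⟩ := hna
  apply hab
  rw [← commutatorElement_eq_one_iff_mul_comm, ← Subgroup.mem_bot, ← h]
  exact commutatorElement_mem_commutator a b

end tools

section chain5

variable {H : Type*} [Group H] [Finite H] {p : ℕ} [hp : Fact p.Prime]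

/-- the chain `⊤ > X > Y > Z > ⊥` -/
def chain5 (X Y Z : Subgroup H) : ℕ → Subgroup H
  | 0 => ⊤
  | 1 => X
  | 2 => Y
  | 3 => Z
  | _ => ⊥

theorem false_of_three_invariant (hcard : Nat.card H = p ^ 4)
    (A : Subgroup (MulAut H)) (N : Subgroup A)
    [N.Normal] (hOp : ∀ M : Subgroup (A ⧸ N), M.Normal → IsPGroup p M → M = ⊥)
    (hdvd : p ∣ Nat.card (A ⧸ N))
    (X Y Z : Subgroup H)
    (hX : Nat.card X = p ^ 3) (hY : Nat.card Y = p ^ 2) (hZ : Nat.card Z = p)
    (hYX : Y ≤ X) (hZY : Z ≤ Y)
    (hXinv : ∀ α : MulAut H, ∀ x ∈ X, α x ∈ X) (hYinv : ∀ α : MulAut H, ∀ x ∈ Y, α x ∈ Y)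
    (hZinv : ∀ α : MulAut H, ∀ x ∈ Z, α x ∈ Z) : False := by
  have hH : IsPGroup p H := IsPGroup.of_card hcard
  have hp0 : 0 < p := hp.out.pos
  apply false_of_invariant_chain hH A N hOp hdvd (chain5 X Y Z) 4 rfl rfl
  · intro k
    match k with
    | 0 => exact (inferInstance : (⊤ : Subgroup H).Normal)
    | 1 => exact normal_of_forall_aut X hXinv
    | 2 => exact normal_of_forall_aut Y hYinv
    | 3 => exact normal_of_forall_aut Z hZinv
    | (k + 4) => exact (inferInstance : (⊥ : Subgroup H).Normal)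
  · intro k hk
    match k, hk with
    | 0, _ =>
      show X.relIndex ⊤ = p
      rw [Subgroup.relIndex_top_right]
      have := Subgroup.card_mul_index X
      rw [hX, hcard] at this
      have h2 : p ^ 3 * X.index = p ^ 3 * p := by rw [this]; ring
      exact Nat.eq_of_mul_eq_mul_left (pow_pos hp0 3) h2
    | 1, _ =>
      show Y.relIndex X = p
      have := relIndex_mul_card_of_le hYX
      rw [hX, hY] at this
      have h2 : p ^ 2 * Y.relIndex X = p ^ 2 * p := by rw [this]; ring
      exact Nat.eq_of_mul_eq_mul_left (pow_pos hp0 2) h2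
    | 2, _ =>
      show Z.relIndex Y = p
      have := relIndex_mul_card_of_le hZY
      rw [hY, hZ] at this
      have h2 : p * Z.relIndex Y = p * p := by rw [this]; ring
      exact Nat.eq_of_mul_eq_mul_left hp0 h2
    | 3, _ =>
      show (⊥ : Subgroup H).relIndex Z = p
      rw [Subgroup.relIndex_bot_left, hZ]
  · intro k α _ x hx
    match k with
    | 0 => exact Subgroup.mem_top _
    | 1 => exact hXinv α x hx
    | 2 => exact hYinv α x hx
    | 3 => exact hZinv α x hx
    | (k + 4) =>
      have : x = 1 := hx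
      rw [this, map_one]
      exact Subgroup.one_mem _

end chain5

section split

variable {H : Type*} [Group H] [Finite H] {p : ℕ} [hp : Fact p.Prime]

/-- A central element of order `p` outside the Frattini subgroup generates a direct factor. -/
theorem exists_split (hH : IsPGroup p H) {z : H} (hz : z ∈ Subgroup.center H) (hzp : z ^ p = 1)
    (hzΦ : z ∉ frattini H) :
    ∃ M : Subgroup H, M.index = p ∧ z ∉ M ∧ frattini H ≤ M ∧
      Nonempty (H ≃* M × Multiplicative (ZMod p)) := by
  have hpp := hp.out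
  obtain ⟨M, hM, hzM⟩ : ∃ M : Subgroup H, IsCoatom M ∧ z ∉ M := by
    by_contra hcon
    push Not at hcon
    exact hzΦ ((Cfsg.Agent.S0013.mem_frattini_iff z).2 hcon)
  have hidx : M.index = p := Cfsg.Agent.Helper48.index_of_isCoatom_of_isPGroup hH hM
  refine ⟨M, hidx, hzM, frattini_le_coatom hM, ?_⟩
  have hz1 : z ≠ 1 := fun h => hzM (h ▸ M.one_mem)
  have hord : orderOf z = p := orderOf_eq_prime hzp hz1
  have hKcard : Nat.card (Subgroup.zpowers z) = p := by rw [Nat.card_zpowers, hord]
  have hcomm : ∀ (m : M) (k : Subgroup.zpowers z),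
      Commute (M.subtype m) ((Subgroup.zpowers z).subtype k) := by
    intro m k
    obtain ⟨k, hk⟩ := k
    obtain ⟨i, rfl⟩ := Subgroup.mem_zpowers_iff.1 hk
    have : (z ^ i) ∈ Subgroup.center H := Subgroup.zpow_mem _ hz i
    exact (Subgroup.mem_center_iff.1 this) m
  set f := MonoidHom.noncommCoprod M.subtype (Subgroup.zpowers z).subtype hcomm with hf
  have hinj : Function.Injective f := by
    rw [injective_iff_map_eq_one]
    rintro ⟨m, k⟩ hmk
    rw [hf, MonoidHom.noncommCoprod_apply] at hmk
    simp only [Subgroup.coe_subtype] at hmk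
    have hkM : (k : H) ∈ M := by
      have : (k : H) = (m : H)⁻¹ := eq_inv_of_mul_eq_one_right hmk
      rw [this]; exact M.inv_mem m.2
    have hk1 : k = 1 := by
      by_contra hne
      have htop := zpowers_eq_top_of_prime_card hKcard hne
      have h1 : (⟨z, Subgroup.mem_zpowers z⟩ : Subgroup.zpowers z) ∈ Subgroup.zpowers k := by
        rw [htop]; exact Subgroup.mem_top _
      obtain ⟨i, hi⟩ := Subgroup.mem_zpowers_iff.1 h1
      apply hzM
      have h2 : (k : H) ^ i = z := by
        have := congrArg Subtype.val hi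
        simpa using this
      rw [← h2]; exact M.zpow_mem hkM i
    subst hk1
    have hm1 : (m : H) = 1 := by simpa using hmk
    have : m = 1 := Subtype.ext hm1
    subst this
    rfl
  have hbij : Function.Bijective f := by
    apply Function.Injective.bijective_of_nat_card_le hinj
    rw [Nat.card_prod, hKcard, ← hidx, Subgroup.card_mul_index]
  have e₁ : M × Subgroup.zpowers z ≃* H := MulEquiv.ofBijective f hbij
  have e₂ : Subgroup.zpowers z ≃* Multiplicative (ZMod p) := by
    apply mulEquivOfCyclicCardEq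
    rw [hKcard, Nat.card_eq_fintype_card]
    simp
  exact ⟨e₁.symm.trans (MulEquiv.prodCongr (MulEquiv.refl M) e₂)⟩

end split

section center

variable {H : Type*} [Group H] [Finite H] {p : ℕ} [hp : Fact p.Prime]

theorem card_center_of_nonabelian_p4 (hcard : Nat.card H = p ^ 4)
    (hna : ∃ a b : H, a * b ≠ b * a) :
    Nat.card (Subgroup.center H) = p ∨ Nat.card (Subgroup.center H) = p ^ 2 := by
  have hpp := hp.out
  have hH : IsPGroup p H := IsPGroup.of_card hcard
  have : Nontrivial H := by
    obtain ⟨a, b, hab⟩ := hna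
    refine ⟨a, 1, ?_⟩
    rintro rfl
    simp at hab
  have hZ1 : Subgroup.center H ≠ ⊥ := (hH.bot_lt_center).ne'
  have hZ2 : Subgroup.center H ≠ ⊤ := by
    intro h
    obtain ⟨a, b, hab⟩ := hna
    apply hab
    have : a ∈ Subgroup.center H := h ▸ Subgroup.mem_top a
    exact ((Subgroup.mem_center_iff.1 this) b).symm
  obtain ⟨k, hk4, hk⟩ := (Nat.dvd_prime_pow hpp).1
    (hcard ▸ Subgroup.card_subgroup_dvd_card (Subgroup.center H))
  have hk0 : k ≠ 0 := by
    rintro rfl
    rw [pow_zero] at hk
    exact hZ1 (Subgroup.eq_bot_of_card_eq _ hk)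
  have hk4' : k ≠ 4 := by
    rintro rfl
    apply hZ2
    apply Subgroup.eq_top_of_card_eq
    rw [hk, hcard]
  have hk3 : k ≠ 3 := by
    rintro rfl
    have h1 := Subgroup.card_mul_index (Subgroup.center H)
    rw [hk, hcard] at h1
    have h2 : p ^ 3 * (Subgroup.center H).index = p ^ 3 * p := by rw [h1]; ring
    have h3 : (Subgroup.center H).index = p := Nat.eq_of_mul_eq_mul_left (pow_pos hpp.pos 3) h2
    have h4 : Nat.card (H ⧸ Subgroup.center H) = p := h3
    haveI : IsCyclic (H ⧸ Subgroup.center H) := isCyclic_of_prime_card h4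
    obtain ⟨a, b, hab⟩ := hna
    apply hab
    exact commutative_of_cyclic_center_quotient (QuotientGroup.mk' (Subgroup.center H))
      (by rw [QuotientGroup.ker_mk']) a b
  have : k = 1 ∨ k = 2 := by omega
  rcases this with rfl | rfl
  · left; rw [hk, pow_one]
  · right; exact hk

/-- If `|Z(H)| = p²` then `H/Z(H)` is elementary abelian of order `p²` and `H' ≤ Z(H)`. -/
theorem class_two_of_card_center_sq (hcard : Nat.card H = p ^ 4)
    (hna : ∃ a b : H, a * b ≠ b * a) (hZ : Nat.card (Subgroup.center H) = p ^ 2) :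
    Nat.card (H ⧸ Subgroup.center H) = p ^ 2 ∧ commutator H ≤ Subgroup.center H ∧
      ∀ x : H, x ^ p ∈ Subgroup.center H := by
  have hpp := hp.out
  have hq : Nat.card (H ⧸ Subgroup.center H) = p ^ 2 := by
    have h1 := Subgroup.card_mul_index (Subgroup.center H)
    rw [hZ, hcard] at h1
    have h2 : p ^ 2 * (Subgroup.center H).index = p ^ 2 * p ^ 2 := by rw [h1]; ring
    exact Nat.eq_of_mul_eq_mul_left (pow_pos hpp.pos 2) h2
  have hqc : ∀ a b : H ⧸ Subgroup.center H, a * b = b * a := fun a b =>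
    (IsPGroup.isMulCommutative_of_card_eq_prime_sq hq).is_comm.comm a b
  have hnc : ¬ IsCyclic (H ⧸ Subgroup.center H) := by
    intro hc
    obtain ⟨a, b, hab⟩ := hna
    apply hab
    exact commutative_of_cyclic_center_quotient (QuotientGroup.mk' (Subgroup.center H))
      (by rw [QuotientGroup.ker_mk']) a b
  have hqe : ∀ x : H ⧸ Subgroup.center H, x ^ p = 1 := pow_prime_eq_one_of_card_sq hq hnc
  refine ⟨hq, commutator_le_of_quotient_comm _ hqc, ?_⟩
  intro x
  rw [← QuotientGroup.eq_one_iff, QuotientGroup.mk_pow]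
  exact hqe _

/-- If `|Z(H)| = p²` then `|H'|` divides `p`. -/
theorem card_commutator_dvd_of_card_center_sq (hcard : Nat.card H = p ^ 4)
    (hna : ∃ a b : H, a * b ≠ b * a) (hZ : Nat.card (Subgroup.center H) = p ^ 2) :
    Nat.card (commutator H) ∣ p := by
  have hpp := hp.out
  obtain ⟨hq, hle, -⟩ := class_two_of_card_center_sq hcard hna hZ
  -- a noncentral element
  obtain ⟨x, hxZ⟩ : ∃ x : H, x ∉ Subgroup.center H := by
    obtain ⟨a, b, hab⟩ := hna
    refine ⟨a, fun h => hab ?_⟩
    exact ((Subgroup.mem_center_iff.1 h) b).symm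
  have hx : ∀ g : H, ⁅g, x⁆ ∈ Subgroup.center H := fun g =>
    hle (commutatorElement_mem_commutator g x)
  set φ := commHom x hx with hφ
  have hRle : φ.range ≤ Subgroup.center H := by
    rintro _ ⟨g, rfl⟩
    exact hx g
  have hRn : φ.range.Normal := Cfsg.Agent.Helper11.normal_of_le_center hRle
  -- the kernel has order `p³`
  have hker : Nat.card φ.ker = p ^ 3 := by
    obtain ⟨k, hk4, hk⟩ := (Nat.dvd_prime_pow hpp).1
      (hcard ▸ Subgroup.card_subgroup_dvd_card φ.ker)
    have hZk : Subgroup.center H ≤ φ.ker := by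
      intro z hz
      rw [mem_ker_commHom]
      exact ((Subgroup.mem_center_iff.1 hz) x).symm
    have hxk : x ∈ φ.ker := by rw [mem_ker_commHom]
    have h1 : p ^ 2 < p ^ k := by
      by_contra hcon
      push Not at hcon
      have := Subgroup.eq_of_le_of_card_ge hZk (by rw [hZ, hk]; exact hcon)
      exact hxZ (this ▸ hxk)
    have hk2 : 2 < k := (Nat.pow_lt_pow_iff_right hpp.one_lt).1 h1
    have hk4' : k ≠ 4 := by
      rintro rfl
      have htop : φ.ker = ⊤ := Subgroup.eq_top_of_card_eq _ (by rw [hk, hcard])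
      apply hxZ
      rw [Subgroup.mem_center_iff]
      intro g
      have : g ∈ φ.ker := htop ▸ Subgroup.mem_top g
      rwa [mem_ker_commHom] at this
    have : k = 3 := by omega
    rw [hk, this]
  have hR : Nat.card φ.range = p := by
    have h1 := Subgroup.card_mul_index φ.ker
    rw [Subgroup.index_ker, hker, hcard] at h1
    have h2 : p ^ 3 * Nat.card φ.range = p ^ 3 * p := by rw [h1]; ring
    exact Nat.eq_of_mul_eq_mul_left (pow_pos hpp.pos 3) h2
  have hQcard : Nat.card (H ⧸ φ.range) = p ^ 3 := by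
    have h1 := Subgroup.card_mul_index φ.range
    rw [hR, hcard] at h1
    have h2 : p * φ.range.index = p * p ^ 3 := by rw [h1]; ring
    exact Nat.eq_of_mul_eq_mul_left hpp.pos h2
  -- the quotient is abelian
  have hQc : ∀ a b : H ⧸ φ.range, a * b = b * a := by
    by_contra hcon
    push Not at hcon
    have hZQ := card_center_of_nonabelian_p3 hQcard hcon
    set W := (Subgroup.center H).map (QuotientGroup.mk' φ.range) with hW
    have hWle : W ≤ Subgroup.center (H ⧸ φ.range) := by
      rintro _ ⟨z, hz, rfl⟩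
      rw [Subgroup.mem_center_iff]
      intro q
      induction q using QuotientGroup.induction_on with
      | H g =>
        show (g : H ⧸ φ.range) * (z : H ⧸ φ.range) = (z : H ⧸ φ.range) * (g : H ⧸ φ.range)
        rw [← QuotientGroup.mk_mul, ← QuotientGroup.mk_mul, (Subgroup.mem_center_iff.1 hz) g]
    have hWcard : Nat.card W = p := by
      have h1 : W.index = (Subgroup.center H).index := by
        rw [hW]
        have hk : (QuotientGroup.mk' φ.range).ker ≤ Subgroup.center H := by
          rw [QuotientGroup.ker_mk']; exact hRle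
        exact Subgroup.index_map_eq (Subgroup.center H) (QuotientGroup.mk'_surjective φ.range) hk
      have h2 := Subgroup.card_mul_index W
      have h3 : (Subgroup.center H).index = p ^ 2 := hq
      rw [h1, h3, hQcard] at h2
      have h4 : Nat.card W * p ^ 2 = p * p ^ 2 := by rw [h2]; ring
      exact Nat.eq_of_mul_eq_mul_right (pow_pos hpp.pos 2) h4
    have hWeq : W = Subgroup.center (H ⧸ φ.range) :=
      Subgroup.eq_of_le_of_card_ge hWle (by rw [hZQ, hWcard])
    have hxc : ((x : H) : H ⧸ φ.range) ∈ Subgroup.center (H ⧸ φ.range) := by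
      rw [Subgroup.mem_center_iff]
      intro q
      induction q using QuotientGroup.induction_on with
      | H g =>
        rw [← commutatorElement_eq_one_iff_mul_comm]
        have : ⁅((g : H) : H ⧸ φ.range), ((x : H) : H ⧸ φ.range)⁆ = ((⁅g, x⁆ : H) : H ⧸ φ.range) :=
          (map_commutatorElement (QuotientGroup.mk' φ.range) g x).symm
        rw [this, QuotientGroup.eq_one_iff]
        exact ⟨g, rfl⟩
    rw [← hWeq] at hxc
    obtain ⟨z, hz, hzx⟩ := hxc
    have h1 : z⁻¹ * x ∈ φ.range := QuotientGroup.eq.1 hzx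
    apply hxZ
    have h2 : x = z * (z⁻¹ * x) := by group
    rw [h2]
    exact Subgroup.mul_mem _ hz (hRle h1)
  have := commutator_le_of_quotient_comm φ.range hQc
  rw [← hR]
  exact Subgroup.card_dvd_of_le this

end center

section abelian3

variable {B : Type*} [Group B] [Finite B] {p : ℕ} [hp : Fact p.Prime]

/-- An abelian group of order `p³` that is not elementary abelian has characteristic subgroups
of orders `p²` and `p`, one inside the other. -/
theorem exists_chain_abelian_p3 (hcard : Nat.card B = p ^ 3)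
    (hcomm : ∀ a b : B, a * b = b * a) (hne : ∃ x : B, x ^ p ≠ 1) :
    ∃ X Y : Subgroup B, Nat.card X = p ^ 2 ∧ Nat.card Y = p ∧ Y ≤ X ∧
      (∀ α : MulAut B, ∀ x ∈ X, α x ∈ X) ∧ (∀ α : MulAut B, ∀ x ∈ Y, α x ∈ Y) := by
  have hpp := hp.out
  set φ := powHom hcomm p with hφ
  have hmul : Nat.card φ.ker * Nat.card φ.range = p ^ 3 := by
    rw [← Subgroup.index_ker, Subgroup.card_mul_index, hcard]
  have hker : ∀ x : B, x ∈ φ.ker ↔ x ^ p = 1 := fun x => MonoidHom.mem_ker
  have hrange : ∀ x : B, x ∈ φ.range ↔ ∃ y : B, y ^ p = x := fun x => MonoidHom.mem_range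
  have hkinv : ∀ α : MulAut B, ∀ x ∈ φ.ker, α x ∈ φ.ker := by
    intro α x hx
    rw [hker] at hx ⊢
    rw [← map_pow, hx, map_one]
  have hrinv : ∀ α : MulAut B, ∀ x ∈ φ.range, α x ∈ φ.range := by
    intro α x hx
    rw [hrange] at hx ⊢
    obtain ⟨y, rfl⟩ := hx
    exact ⟨α y, (map_pow α y p).symm⟩
  have hkbot : φ.ker ≠ ⊥ := by
    have hd : p ∣ Nat.card B := by rw [hcard]; exact dvd_pow_self p (by norm_num)
    obtain ⟨x, hx⟩ := exists_prime_orderOf_dvd_card' p hd
    intro h
    have h1 : x ∈ φ.ker := by rw [hker, ← hx]; exact pow_orderOf_eq_one x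
    rw [h, Subgroup.mem_bot] at h1
    rw [h1, orderOf_one] at hx
    exact hpp.one_lt.ne hx
  have hktop : φ.ker ≠ ⊤ := by
    obtain ⟨x, hx⟩ := hne
    intro h
    apply hx
    rw [← hker, h]
    exact Subgroup.mem_top _
  obtain ⟨a, ha3, ha⟩ := (Nat.dvd_prime_pow hpp).1 (Dvd.intro _ hmul)
  have ha0 : a ≠ 0 := by
    rintro rfl
    rw [pow_zero] at ha
    exact hkbot (Subgroup.eq_bot_of_card_eq _ ha)
  have ha3' : a ≠ 3 := by
    rintro rfl
    apply hktop
    apply Subgroup.eq_top_of_card_eq
    rw [ha, hcard]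
  have ha12 : a = 1 ∨ a = 2 := by omega
  rcases ha12 with rfl | rfl
  · rw [pow_one] at ha
    have hr : Nat.card φ.range = p ^ 2 := by
      rw [ha] at hmul
      have h2 : p * Nat.card φ.range = p * p ^ 2 := by rw [hmul]; ring
      exact Nat.eq_of_mul_eq_mul_left hpp.pos h2
    have hle : φ.ker ≤ φ.range := by
      have hd : p ∣ Nat.card φ.range := by rw [hr]; exact dvd_pow_self p (by norm_num)
      obtain ⟨y, hy⟩ := exists_prime_orderOf_dvd_card' p hd
      have hy' : orderOf (y : B) = p := by rw [Subgroup.orderOf_coe]; exact hy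
      have h1 : Subgroup.zpowers (y : B) ≤ φ.ker := by
        rw [Subgroup.zpowers_le, hker, ← hy']
        exact pow_orderOf_eq_one _
      have h2 : Subgroup.zpowers (y : B) = φ.ker := by
        apply Subgroup.eq_of_le_of_card_ge h1
        rw [ha, Nat.card_zpowers, hy']
      rw [← h2, Subgroup.zpowers_le]
      exact y.2
    exact ⟨φ.range, φ.ker, hr, ha, hle, hrinv, hkinv⟩
  · have hr : Nat.card φ.range = p := by
      rw [ha] at hmul
      have h2 : p ^ 2 * Nat.card φ.range = p ^ 2 * p := by rw [hmul]; ring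
      exact Nat.eq_of_mul_eq_mul_left (pow_pos hpp.pos 2) h2
    have hle : φ.range ≤ φ.ker := by
      intro y hy
      rw [hker]
      have : (⟨y, hy⟩ : φ.range) ^ p = 1 := by
        rw [← hr]; exact pow_card_eq_one'
      exact congrArg Subtype.val this
    exact ⟨φ.ker, φ.range, ha, hr, hle, hkinv, hrinv⟩

end abelian3

end Cfsg.Agent.Helper83
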