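import Mathlib
import Cfsg.Agent.Lib.Helper83.OrderP4a

/-!
# `p`-groups with an abelian subgroup of index `p` (inside an ambient group)

Basic group theory for a finite `p`-subgroup `S` of an ambient group `Ω` with an abelian
subgroup `A ≤ S` of index `p`.
-/

set_option autoImplicit false

namespace Cfsg.Agent.Helper83.AbIdx

variable {Ω : Type*} [Group Ω]

/-- the standing hypotheses -/
structure Setting (p : ℕ) (S A : Subgroup Ω) : Prop where
  pS : IsPGroup p S
  le : A ≤ S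
  comm : ∀ a ∈ A, ∀ b ∈ A, a * b = b * a
  idx : A.relIndex S = p
  nonab : ∃ s ∈ S, ∃ t ∈ S, s * t ≠ t * s

/-- the centre of `S`, as a subgroup of `Ω` -/
abbrev ZS (S : Subgroup Ω) : Subgroup Ω := S ⊓ Subgroup.centralizer (S : Set Ω)

theorem mem_ZS_iff {S : Subgroup Ω} {z : Ω} : z ∈ ZS S ↔ z ∈ S ∧ ∀ s ∈ S, s * z = z * s := by
  rw [Subgroup.mem_inf, Subgroup.mem_centralizer_iff]
  rfl

variable {p : ℕ} [hp : Fact p.Prime] {S A : Subgroup Ω} [Finite S]

theorem Setting.card_ne_one (h : Setting p S A) : Nat.card S ≠ 1 := by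
  intro h1
  obtain ⟨s, hs, t, ht, hst⟩ := h.nonab
  haveI : Subsingleton S := (Nat.card_eq_one_iff_unique.1 h1).1
  have e1 : (⟨s, hs⟩ : S) = 1 := Subsingleton.elim _ _
  have e2 : s = 1 := congrArg Subtype.val e1
  apply hst
  rw [e2, one_mul, mul_one]

theorem Setting.normal_subgroupOf (h : Setting p S A) : (A.subgroupOf S).Normal := by
  apply Subgroup.normal_of_index_eq_minFac_card
  obtain ⟨n, hn⟩ := (IsPGroup.iff_card (p := p) (G := S)).1 h.pS
  have hn0 : n ≠ 0 := by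
    rintro rfl
    rw [pow_zero] at hn
    exact h.card_ne_one hn
  rw [hn, Nat.Prime.pow_minFac hp.out hn0]
  exact h.idx

theorem Setting.conj_mem (h : Setting p S A) {s a : Ω} (hs : s ∈ S) (ha : a ∈ A) :
    s * a * s⁻¹ ∈ A := by
  have hn := h.normal_subgroupOf
  have := hn.conj_mem ⟨a, h.le ha⟩ (by rw [Subgroup.mem_subgroupOf]; exact ha) ⟨s, hs⟩
  rw [Subgroup.mem_subgroupOf] at this
  simpa using this

theorem Setting.conj_mem' (h : Setting p S A) {s a : Ω} (hs : s ∈ S) (ha : a ∈ A) :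
    s⁻¹ * a * s ∈ A := by
  have := h.conj_mem (S.inv_mem hs) ha
  rwa [inv_inv] at this

/-- `S = A⟨x⟩` for `x ∈ S ∖ A`, elementwise -/
theorem Setting.decomp (h : Setting p S A) {x : Ω} (hx : x ∈ S) (hxA : x ∉ A) {s : Ω} (hs : s ∈ S) :
    ∃ a ∈ A, ∃ k : ℤ, s = a * x ^ k := by
  have hsup : A ⊔ Subgroup.zpowers x = S :=
    sup_zpowers_eq_of_relIndex_prime hp.out h.le h.idx hx hxA
  have := h.normal_subgroupOf
  have h1 : (A.subgroupOf S) ⊔ Subgroup.zpowers (⟨x, hx⟩ : S) = ⊤ := by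
    have h2 := sup_zpowers_eq_of_relIndex_prime (H := S) hp.out (K := A.subgroupOf S) (L := ⊤)
      le_top (by rw [Subgroup.relIndex_top_right]; exact h.idx) (x := ⟨x, hx⟩) (Subgroup.mem_top _)
      (by rw [Subgroup.mem_subgroupOf]; exact hxA)
    exact h2
  have h3 : (⟨s, hs⟩ : S) ∈ (A.subgroupOf S) ⊔ Subgroup.zpowers (⟨x, hx⟩ : S) := by
    rw [h1]; trivial
  rw [← SetLike.mem_coe, Subgroup.normal_mul] at h3
  obtain ⟨a, ha, y, hy, hay⟩ := h3
  obtain ⟨k, rfl⟩ := hy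
  refine ⟨a, ha, k, ?_⟩
  have := congrArg Subtype.val hay
  simp only [Subgroup.coe_mul, Subgroup.coe_zpow] at this
  exact this.symm

/-- `S/A` is abelian, elementwise -/
theorem Setting.comm_mem (h : Setting p S A) {u v : Ω} (hu : u ∈ S) (hv : v ∈ S) :
    u * v * u⁻¹ * v⁻¹ ∈ A := by
  have := h.normal_subgroupOf
  have hcard : Nat.card (S ⧸ A.subgroupOf S) = p := h.idx
  haveI : IsCyclic (S ⧸ A.subgroupOf S) := isCyclic_of_prime_card hcard
  have hcm : IsMulCommutative (S ⧸ A.subgroupOf S) := IsCyclic.isMulCommutative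
  have hq : ∀ a b : S ⧸ A.subgroupOf S, a * b = b * a := fun a b => hcm.is_comm.comm a b
  have h1 := commutator_le_of_quotient_comm (A.subgroupOf S) hq
  have h2 : (⟨u, hu⟩ : S) * ⟨v, hv⟩ * (⟨u, hu⟩ : S)⁻¹ * (⟨v, hv⟩ : S)⁻¹ ∈ A.subgroupOf S := by
    have := h1 (commutatorElement_mem_commutator (⟨u, hu⟩ : S) ⟨v, hv⟩)
    rwa [commutatorElement_def] at this
  rw [Subgroup.mem_subgroupOf] at h2
  simpa using h2

/-- `x ^ p ∈ A` -/
theorem Setting.pow_mem (h : Setting p S A) {x : Ω} (hx : x ∈ S) : x ^ p ∈ A := by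
  have := h.normal_subgroupOf
  have hcard : Nat.card (S ⧸ A.subgroupOf S) = p := h.idx
  have h1 : ((⟨x, hx⟩ : S) : S ⧸ A.subgroupOf S) ^ p = 1 := by
    rw [← hcard]; exact pow_card_eq_one'
  rw [← QuotientGroup.mk_pow, QuotientGroup.eq_one_iff, Subgroup.mem_subgroupOf] at h1
  simpa using h1

/-- `Z(S) ≤ A` -/
theorem Setting.center_le (h : Setting p S A) : ZS S ≤ A := by
  intro z hz
  by_contra hzA
  rw [mem_ZS_iff] at hz
  obtain ⟨s, hs, t, ht, hst⟩ := h.nonab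
  obtain ⟨a, ha, k, rfl⟩ := h.decomp hz.1 hzA hs
  obtain ⟨b, hb, l, rfl⟩ := h.decomp hz.1 hzA ht
  apply hst
  have hza : z ^ k * b = b * z ^ k := by
    have : Commute z b := (hz.2 b (h.le hb)).symm
    exact (this.zpow_left k).eq
  have hzb : z ^ l * a = a * z ^ l := by
    have : Commute z a := (hz.2 a (h.le ha)).symm
    exact (this.zpow_left l).eq
  have hkl : z ^ k * z ^ l = z ^ l * z ^ k := by rw [← zpow_add, ← zpow_add, add_comm]
  calc a * z ^ k * (b * z ^ l) = a * (z ^ k * b) * z ^ l := by group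
    _ = a * (b * z ^ k) * z ^ l := by rw [hza]
    _ = (a * b) * (z ^ k * z ^ l) := by group
    _ = (b * a) * (z ^ l * z ^ k) := by rw [h.comm a ha b hb, hkl]
    _ = b * (a * z ^ l) * z ^ k := by group
    _ = b * (z ^ l * a) * z ^ k := by rw [hzb]
    _ = b * z ^ l * (a * z ^ k) := by group

/-- an element of `A` commuting with some `x ∈ S ∖ A` is central in `S` -/
theorem Setting.mem_center_of_comm (h : Setting p S A) {a x : Ω} (ha : a ∈ A) (hx : x ∈ S)
    (hxA : x ∉ A) (hax : a * x = x * a) : a ∈ ZS S := by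
  rw [mem_ZS_iff]
  refine ⟨h.le ha, ?_⟩
  intro s hs
  obtain ⟨b, hb, k, rfl⟩ := h.decomp hx hxA hs
  have h1 : x ^ k * a = a * x ^ k := by
    have : Commute x a := hax.symm
    exact (this.zpow_left k).eq
  calc b * x ^ k * a = b * (x ^ k * a) := by group
    _ = b * (a * x ^ k) := by rw [h1]
    _ = (b * a) * x ^ k := by group
    _ = (a * b) * x ^ k := by rw [h.comm a ha b hb]
    _ = a * (b * x ^ k) := by group

/-- decomposition inside a subgroup `P ≤ S` containing `x ∉ A` -/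
theorem Setting.decomp_in (h : Setting p S A) {P : Subgroup Ω} (hPS : P ≤ S) {x : Ω} (hx : x ∈ P)
    (hxA : x ∉ A) {y : Ω} (hy : y ∈ P) : ∃ a ∈ P ⊓ A, ∃ k : ℤ, y = a * x ^ k := by
  obtain ⟨a, ha, k, rfl⟩ := h.decomp (hPS hx) hxA (hPS hy)
  refine ⟨a, ⟨?_, ha⟩, k, rfl⟩
  have : a = a * x ^ k * (x ^ k)⁻¹ := by group
  rw [this]
  exact P.mul_mem hy (P.inv_mem (P.zpow_mem hx k))

end Cfsg.Agent.Helper83.AbIdx
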