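import Mathlib
import Cfsg.Agent.Lib.Helper83.AbIdxA
import Cfsg.Agent.Lib.Helper83.OrderP3
import Cfsg.Agent.Lib.Helper86.ChainStabilizer
import Cfsg.Agent.Lib.Helper87.FusionSaturated
import Cfsg.Agent.Lib.Helper87.FusionAlperin

/-!
# Centric radical subgroups of a `p`-group with an abelian subgroup of index `p`

Following Oliver, *Simple fusion systems over p-groups with abelian subgroup of index p: I*,
Lemma 2.3, in an abstract form: `Γ ≤ Aut(P)` plays the role of `Aut_F(P)`.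
-/

set_option autoImplicit false

namespace Cfsg.Agent.Helper83.AbIdx

open Cfsg Cfsg.Agent.Helper87

variable {Ω : Type*} [Group Ω]

/-- the second centre of `S`, as a subgroup of `Ω` -/
abbrev Z2 (S : Subgroup Ω) : Subgroup Ω := (Subgroup.upperCentralSeries ↥S 2).map S.subtype

theorem mem_Z2_iff {S : Subgroup Ω} {z : Ω} :
    z ∈ Z2 S ↔ z ∈ S ∧ ∀ s ∈ S, z * s * z⁻¹ * s⁻¹ ∈ ZS S := by
  have hc : ∀ w : S, w ∈ Subgroup.center S ↔ (w : Ω) ∈ ZS S := by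
    intro w
    rw [Subgroup.mem_center_iff, mem_ZS_iff]
    constructor
    · intro h
      refine ⟨w.2, fun s hs => ?_⟩
      exact congrArg Subtype.val (h ⟨s, hs⟩)
    · rintro ⟨-, h⟩ g
      exact Subtype.ext (h g g.2)
  constructor
  · rintro ⟨z', hz', rfl⟩
    refine ⟨z'.2, fun s hs => ?_⟩
    have h2 : z' ∈ Subgroup.upperCentralSeries S (1 + 1) := hz'
    rw [Subgroup.mem_upperCentralSeries_succ_iff, Subgroup.upperCentralSeries_one] at h2
    have := (hc _).1 (h2 ⟨s, hs⟩)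
    simpa [commutatorElement_def] using this
  · rintro ⟨hzS, h⟩
    refine ⟨⟨z, hzS⟩, ?_, rfl⟩
    show (⟨z, hzS⟩ : S) ∈ Subgroup.upperCentralSeries S (1 + 1)
    rw [Subgroup.mem_upperCentralSeries_succ_iff, Subgroup.upperCentralSeries_one]
    intro y
    rw [hc]
    simpa [commutatorElement_def] using h y y.2

theorem Z2_le (S : Subgroup Ω) : Z2 S ≤ S := fun _ hz => (mem_Z2_iff.1 hz).1

theorem ZS_le_Z2 (S : Subgroup Ω) : ZS S ≤ Z2 S := by
  intro z hz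
  rw [mem_Z2_iff]
  refine ⟨hz.1, fun s hs => ?_⟩
  have := (mem_ZS_iff.1 hz).2 s hs
  have h1 : z * s * z⁻¹ * s⁻¹ = 1 := by
    rw [← this]; group
  rw [h1]
  exact Subgroup.one_mem _

variable {p : ℕ} [hp : Fact p.Prime] {S A P : Subgroup Ω}

/-- hypotheses on a subgroup `P` with a group `Γ` of automorphisms (`Γ = Aut_F(P)`) -/
structure PHyp (p : ℕ) (S P : Subgroup Ω) (Γ : Subgroup (MulAut P)) : Prop where
  le : P ≤ S
  cen : ∀ c ∈ S, (∀ y ∈ P, c * y = y * c) → c ∈ P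
  ne : P ≠ S
  autS : ∀ n ∈ S, ∀ hn : n ∈ Subgroup.normalizer (P : Set Ω), conjAut P n hn ∈ Γ
  rad : ∀ γ (hγ : γ ∈ Γ), (⟨γ, hγ⟩ : Γ) ∈ pCore p Γ → γ ∈ Inn P

variable {Γ : Subgroup (MulAut P)}

theorem PHyp.ZS_le (hP : PHyp p S P Γ) : ZS S ≤ P := by
  intro z hz
  rw [mem_ZS_iff] at hz
  exact hP.cen z hz.1 (fun y hy => (hz.2 y (hP.le hy)).symm)

theorem PHyp.mem_of_inn (hP : PHyp p S P Γ) {n : Ω} (hnS : n ∈ S)
    (hnN : n ∈ Subgroup.normalizer (P : Set Ω)) (h1 : conjAut P n hnN ∈ Inn P) : n ∈ P := by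
  obtain ⟨x, hx⟩ := h1
  have hc : (x : Ω)⁻¹ * n ∈ P := by
    apply hP.cen _ (S.mul_mem (S.inv_mem (hP.le x.2)) hnS)
    intro y hy
    have h2 : ((MulAut.conj x ⟨y, hy⟩ : P) : Ω) = ((conjAut P n hnN ⟨y, hy⟩ : P) : Ω) := by rw [hx]
    rw [conjAut_apply] at h2
    have h3 : (x : Ω) * y * (x : Ω)⁻¹ = n * y * n⁻¹ := by
      rw [← h2]; simp [MulAut.conj_apply]
    calc (x : Ω)⁻¹ * n * y = (x : Ω)⁻¹ * (n * y * n⁻¹) * n := by group
      _ = (x : Ω)⁻¹ * ((x : Ω) * y * (x : Ω)⁻¹) * n := by rw [h3]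
      _ = y * ((x : Ω)⁻¹ * n) := by group
  have h5 : n = (x : Ω) * ((x : Ω)⁻¹ * n) := by group
  rw [h5]
  exact P.mul_mem x.2 hc

/-- an element `a` with `a y a⁻¹ y⁻¹ ∈ P` for all `y ∈ P` normalizes `P` (for `a` in a subgroup `K` of such) -/
theorem mem_normalizer_of_comm_mem {K : Subgroup Ω} (hK : ∀ a ∈ K, ∀ y ∈ P, a * y * a⁻¹ * y⁻¹ ∈ P)
    {a : Ω} (ha : a ∈ K) : a ∈ Subgroup.normalizer (P : Set Ω) := by
  rw [Subgroup.mem_normalizer_iff]
  intro y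
  constructor
  · intro hy
    have := P.mul_mem (hK a ha y hy) hy
    simpa [mul_assoc] using this
  · intro hy
    have h1 := hK a⁻¹ (K.inv_mem ha) _ hy
    have h2 := P.mul_mem h1 hy
    have h3 : a⁻¹ * (a * y * a⁻¹) * a⁻¹⁻¹ * (a * y * a⁻¹)⁻¹ * (a * y * a⁻¹) = y := by group
    rwa [h3] at h2

section core

variable [Finite S] (h : Setting p S A) (hP : PHyp p S P Γ)

include h hP

/-- case `P ≤ A` -/
theorem PHyp.eq_of_le (hPA : P ≤ A) : P = A := by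
  apply le_antisymm hPA
  intro a ha
  exact hP.cen a (h.le ha) (fun y hy => h.comm a ha y (hPA hy))

/-- elements of `P` central in `P` are central in `S`, provided `P ∩ A ≰ Z(S)` and `P ≰ A` -/
theorem PHyp.center_le {a₀ : Ω} (ha₀ : a₀ ∈ P ⊓ A) (ha₀Z : a₀ ∉ ZS S) {x : Ω} (hx : x ∈ P)
    (hxA : x ∉ A) {w : Ω} (hw : w ∈ P) (hwc : ∀ y ∈ P, w * y = y * w) : w ∈ ZS S := by
  by_cases hwA : w ∈ A
  · exact h.mem_center_of_comm hwA (hP.le hx) hxA (hwc x hx)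
  · exfalso
    apply ha₀Z
    exact h.mem_center_of_comm ha₀.2 (hP.le hw) hwA (hwc a₀ ha₀.1).symm

/-- elements of `Z₂(S) ∩ A` lie in `P` when `Z(P) = Z(S)` -/
theorem PHyp.Z2_inf_le (hcenP : ∀ w ∈ P, (∀ y ∈ P, w * y = y * w) → w ∈ ZS S) :
    Z2 S ⊓ A ≤ P := by
  haveI : Finite P := finite_of_le hP.le
  have hZP := hP.ZS_le
  have hK : ∀ a ∈ Z2 S ⊓ A, ∀ y ∈ P, a * y * a⁻¹ * y⁻¹ ∈ P := by
    intro a ha y hy
    exact hZP ((mem_Z2_iff.1 ha.1).2 y (hP.le hy))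
  intro a ha
  have haS : a ∈ S := h.le ha.2
  have hn : a ∈ Subgroup.normalizer (P : Set Ω) := mem_normalizer_of_comm_mem hK ha
  have hβΓ := hP.autS a haS hn
  let D : ℕ → Subgroup P := fun k => if k = 0 then ⊤ else if k = 1 then Subgroup.center P else ⊥
  have hcore := Cfsg.Agent.Helper86.chain_stabilizer_mem_pCore (p := p) (h.pS.to_le hP.le) Γ D 2
    (by simp [D]) (by simp [D])
    (by
      intro k α _ x hx
      by_cases hk0 : k = 0
      · simp [D, hk0]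
      · by_cases hk1 : k = 1
        · simp only [D, hk1, if_true] at hx ⊢
          simp only [one_ne_zero, if_false] at hx ⊢
          exact map_mem_center α hx
        · simp only [D, hk0, hk1, if_false] at hx ⊢
          rw [Subgroup.mem_bot] at hx ⊢
          rw [hx, map_one])
    (conjAut P a hn) hβΓ
    (by
      intro k hk x hx
      interval_cases k
      · simp only [D, zero_add, one_ne_zero, if_false, if_true]
        rw [Subgroup.mem_center_iff]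
        intro g
        have h1 : ((x⁻¹ * conjAut P a hn x : P) : Ω) ∈ ZS S := by
          have h2 := (mem_Z2_iff.1 ha.1).2 (x : Ω)⁻¹ (S.inv_mem (hP.le x.2))
          have h3 := (ZS S).inv_mem h2
          have h4 : (a * (x : Ω)⁻¹ * a⁻¹ * (x : Ω)⁻¹⁻¹)⁻¹ = (x : Ω)⁻¹ * (a * x * a⁻¹) := by group
          rw [h4] at h3
          simpa [conjAut_apply] using h3
        apply Subtype.ext
        have := (mem_ZS_iff.1 h1).2 g (hP.le g.2)
        simpa using this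
      · simp only [D, one_ne_zero, if_false, if_true, Nat.reduceAdd, OfNat.ofNat_ne_zero,
          OfNat.ofNat_ne_one]
        rw [Subgroup.mem_bot]
        have hx' : x ∈ Subgroup.center P := by simpa [D] using hx
        have hxZ : (x : Ω) ∈ ZS S := by
          apply hcenP x x.2
          intro y hy
          have := (Subgroup.mem_center_iff.1 hx') ⟨y, hy⟩
          exact (congrArg Subtype.val this).symm
        have h1 : a * (x : Ω) = (x : Ω) * a := (mem_ZS_iff.1 hxZ).2 a haS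
        apply Subtype.ext
        simp only [Subgroup.coe_mul, Subgroup.coe_inv, conjAut_apply, Subgroup.coe_one]
        rw [h1]; group)
  exact hP.mem_of_inn haS hn (hP.rad _ hβΓ hcore)

end core

/-- `Z₂(S) ≤ A` unless `S` has class two with `A ≤ Z₂(S)` -/
theorem Setting.le_Z2_of_not [Finite S] (h : Setting p S A) {y : Ω} (hy : y ∈ Z2 S) (hyA : y ∉ A) :
    A ≤ Z2 S := by
  intro a ha
  rw [mem_Z2_iff]
  refine ⟨h.le ha, fun s hs => ?_⟩
  have hyS := Z2_le S hy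
  obtain ⟨b, hb, k, rfl⟩ := h.decomp hyS hyA hs
  have hyk : y ^ k ∈ Z2 S := (Z2 S).zpow_mem hy k
  have h1 := (mem_Z2_iff.1 hyk).2 a (h.le ha)
  have h2 := (ZS S).inv_mem h1
  have h3 : (y ^ k * a * (y ^ k)⁻¹ * a⁻¹)⁻¹ = a * y ^ k * a⁻¹ * (y ^ k)⁻¹ := by group
  rw [h3] at h2
  have h4 : b * (a * y ^ k * a⁻¹ * (y ^ k)⁻¹) = (a * y ^ k * a⁻¹ * (y ^ k)⁻¹) * b :=
    (mem_ZS_iff.1 h2).2 b (h.le hb)
  have h5 : a * (b * y ^ k) * a⁻¹ * (b * y ^ k)⁻¹
      = (a * b) * (y ^ k * a⁻¹ * (y ^ k)⁻¹) * b⁻¹ := by group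
  have h6 : a * (b * y ^ k) * a⁻¹ * (b * y ^ k)⁻¹ = a * y ^ k * a⁻¹ * (y ^ k)⁻¹ := by
    rw [h5, h.comm a ha b hb]
    calc b * a * (y ^ k * a⁻¹ * (y ^ k)⁻¹) * b⁻¹
        = (b * (a * y ^ k * a⁻¹ * (y ^ k)⁻¹)) * b⁻¹ := by group
      _ = (a * y ^ k * a⁻¹ * (y ^ k)⁻¹) * b * b⁻¹ := by rw [h4]
      _ = a * y ^ k * a⁻¹ * (y ^ k)⁻¹ := by group
  rw [h6]
  exact h2

section core2

variable [Finite S] (h : Setting p S A) (hP : PHyp p S P Γ)

include h hP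

/-- if `Z₂(S) ∩ A ≤ P` and `P ≰ A` then `Z₂(S) ≤ A` -/
theorem PHyp.Z2_le_A (hle : Z2 S ⊓ A ≤ P) {x : Ω} (hx : x ∈ P) (hxA : x ∉ A) : Z2 S ≤ A := by
  intro y hy
  by_contra hyA
  have hA2 : A ≤ Z2 S := h.le_Z2_of_not hy hyA
  have hAP : A ≤ P := fun a ha => hle ⟨hA2 ha, ha⟩
  apply hP.ne
  apply le_antisymm hP.le
  intro s hs
  obtain ⟨a, ha, k, rfl⟩ := h.decomp (hP.le hx) hxA hs
  exact P.mul_mem (hAP ha) (P.zpow_mem hx k)

/-- `P ∩ A` is not `Γ`-invariant when `P ≰ A` -/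
theorem PHyp.exists_moved {x : Ω} (hx : x ∈ P) (hxA : x ∉ A) :
    ∃ α ∈ Γ, ∃ y : P, (y : Ω) ∈ A ∧ ((α y : P) : Ω) ∉ A := by
  haveI : Finite P := finite_of_le hP.le
  by_contra hcon
  push Not at hcon
  obtain ⟨n, hn, hnP⟩ := exists_normalizer_not_mem h.pS hP.le hP.ne
  obtain ⟨a, ha, k, rfl⟩ := h.decomp (hP.le hx) hxA hn.1
  have hxk : x ^ k ∈ P := P.zpow_mem hx k
  have haP : a ∉ P := fun haP => hnP (P.mul_mem haP hxk)
  have haN : a ∈ Subgroup.normalizer (P : Set Ω) := by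
    have : a = a * x ^ k * (x ^ k)⁻¹ := by group
    rw [this]
    exact Subgroup.mul_mem _ hn.2 (Subgroup.inv_mem _ (Subgroup.le_normalizer hxk))
  have haS : a ∈ S := h.le ha
  have hβΓ := hP.autS a haS haN
  let D : ℕ → Subgroup P := fun k => if k = 0 then ⊤ else if k = 1 then A.subgroupOf P else ⊥
  have hcore := Cfsg.Agent.Helper86.chain_stabilizer_mem_pCore (p := p) (h.pS.to_le hP.le) Γ D 2
    (by simp [D]) (by simp [D])
    (by
      intro k α hα x hx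
      by_cases hk0 : k = 0
      · simp [D, hk0]
      · by_cases hk1 : k = 1
        · simp only [D, hk1, if_true] at hx ⊢
          simp only [one_ne_zero, if_false] at hx ⊢
          rw [Subgroup.mem_subgroupOf] at hx ⊢
          exact hcon α hα x hx
        · simp only [D, hk0, hk1, if_false] at hx ⊢
          rw [Subgroup.mem_bot] at hx ⊢
          rw [hx, map_one])
    (conjAut P a haN) hβΓ
    (by
      intro k hk x hx
      interval_cases k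
      · simp only [D, zero_add, one_ne_zero, if_false, if_true]
        rw [Subgroup.mem_subgroupOf]
        have h1 := h.conj_mem' (hP.le x.2) ha
        have h2 := A.mul_mem h1 (A.inv_mem ha)
        have h3 : (x : Ω)⁻¹ * a * x * a⁻¹ = (x : Ω)⁻¹ * (a * x * a⁻¹) := by group
        rw [h3] at h2
        simpa [conjAut_apply] using h2
      · simp only [D, one_ne_zero, if_false, if_true, Nat.reduceAdd, OfNat.ofNat_ne_zero,
          OfNat.ofNat_ne_one]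
        rw [Subgroup.mem_bot]
        have hx' : (x : Ω) ∈ A := by
          have : x ∈ A.subgroupOf P := by simpa [D] using hx
          exact this
        have h1 : a * (x : Ω) = (x : Ω) * a := h.comm a ha _ hx'
        apply Subtype.ext
        simp only [Subgroup.coe_mul, Subgroup.coe_inv, conjAut_apply, Subgroup.coe_one]
        rw [h1]; group)
  exact haP (hP.mem_of_inn haS haN (hP.rad _ hβΓ hcore))

/-- commutators of elements of `P` are central in `S` when `P ∩ A ≰ Z(S)` -/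
theorem PHyp.comm_mem_ZS {a₀ : Ω} (ha₀ : a₀ ∈ P ⊓ A) (ha₀Z : a₀ ∉ ZS S) {x : Ω} (hx : x ∈ P)
    (hxA : x ∉ A) {u w : Ω} (hu : u ∈ P) (hw : w ∈ P) : u * w * u⁻¹ * w⁻¹ ∈ ZS S := by
  obtain ⟨α, hα, y₁, hy₁A, hαy₁⟩ := hP.exists_moved h hx hxA
  set v : Ω := ((α y₁ : P) : Ω) with hv
  have hvP : v ∈ P := (α y₁).2
  have hcP : u * w * u⁻¹ * w⁻¹ ∈ P := P.mul_mem (P.mul_mem (P.mul_mem hu hw) (P.inv_mem hu)) (P.inv_mem hw)
  apply hP.center_le h ha₀ ha₀Z hx hxA hcP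
  -- the commutator lies in `A`
  have hcA : u * w * u⁻¹ * w⁻¹ ∈ A := h.comm_mem (hP.le hu) (hP.le hw)
  -- it commutes with `v`
  have hcv : u * w * u⁻¹ * w⁻¹ * v = v * (u * w * u⁻¹ * w⁻¹) := by
    set u' : P := α⁻¹ ⟨u, hu⟩ with hu'
    set w' : P := α⁻¹ ⟨w, hw⟩ with hw'
    have hc'A : ((u' * w' * u'⁻¹ * w'⁻¹ : P) : Ω) ∈ A := by
      have := h.comm_mem (hP.le u'.2) (hP.le w'.2)
      simpa using this
    have h1 : (u' * w' * u'⁻¹ * w'⁻¹) * y₁ = y₁ * (u' * w' * u'⁻¹ * w'⁻¹) := by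
      apply Subtype.ext
      exact h.comm _ hc'A _ hy₁A
    have h2 := congrArg α h1
    have hαu : α u' = ⟨u, hu⟩ := by simp [hu']
    have hαw : α w' = ⟨w, hw⟩ := by simp [hw']
    simp only [map_mul, map_inv, hαu, hαw] at h2
    have h3 := congrArg Subtype.val h2
    simpa using h3
  intro y hy
  obtain ⟨b, hb, k, rfl⟩ := h.decomp_in hP.le hvP hαy₁ hy
  have hcb : u * w * u⁻¹ * w⁻¹ * b = b * (u * w * u⁻¹ * w⁻¹) := h.comm _ hcA _ hb.2
  have hcvk : u * w * u⁻¹ * w⁻¹ * v ^ k = v ^ k * (u * w * u⁻¹ * w⁻¹) := by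
    have : Commute (u * w * u⁻¹ * w⁻¹) v := hcv
    exact (this.zpow_right k).eq
  calc u * w * u⁻¹ * w⁻¹ * (b * v ^ k) = (u * w * u⁻¹ * w⁻¹ * b) * v ^ k := by group
    _ = b * (u * w * u⁻¹ * w⁻¹ * v ^ k) := by rw [hcb]; group
    _ = b * v ^ k * (u * w * u⁻¹ * w⁻¹) := by rw [hcvk]; group

/-- `P ∩ A ≤ Z₂(S)` when `P ∩ A ≰ Z(S)` -/
theorem PHyp.inf_le_Z2 {a₀ : Ω} (ha₀ : a₀ ∈ P ⊓ A) (ha₀Z : a₀ ∉ ZS S) {x : Ω} (hx : x ∈ P)
    (hxA : x ∉ A) : P ⊓ A ≤ Z2 S := by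
  intro a ha
  rw [mem_Z2_iff]
  refine ⟨hP.le ha.1, fun s hs => ?_⟩
  obtain ⟨b, hb, k, rfl⟩ := h.decomp (hP.le hx) hxA hs
  have h1 := hP.comm_mem_ZS h ha₀ ha₀Z hx hxA ha.1 (P.zpow_mem hx k)
  have h4 : b * (a * x ^ k * a⁻¹ * (x ^ k)⁻¹) = (a * x ^ k * a⁻¹ * (x ^ k)⁻¹) * b :=
    (mem_ZS_iff.1 h1).2 b (h.le hb)
  have h5 : a * (b * x ^ k) * a⁻¹ * (b * x ^ k)⁻¹
      = (a * b) * (x ^ k * a⁻¹ * (x ^ k)⁻¹) * b⁻¹ := by group
  have h6 : a * (b * x ^ k) * a⁻¹ * (b * x ^ k)⁻¹ = a * x ^ k * a⁻¹ * (x ^ k)⁻¹ := by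
    rw [h5, h.comm a ha.2 b hb]
    calc b * a * (x ^ k * a⁻¹ * (x ^ k)⁻¹) * b⁻¹
        = (b * (a * x ^ k * a⁻¹ * (x ^ k)⁻¹)) * b⁻¹ := by group
      _ = (a * x ^ k * a⁻¹ * (x ^ k)⁻¹) * b * b⁻¹ := by rw [h4]
      _ = a * x ^ k * a⁻¹ * (x ^ k)⁻¹ := by group
  rw [h6]
  exact h1

end core2

end Cfsg.Agent.Helper83.AbIdx
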