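import Mathlib
import Cfsg.Agent.Lib.Helper83.AbIdxB

/-!
# Index computations for centric radical subgroups (abelian subgroup of index `p`)
-/

set_option autoImplicit false

namespace Cfsg.Agent.Helper83.AbIdx

open Cfsg Cfsg.Agent.Helper87

variable {Ω : Type*} [Group Ω] {p : ℕ} [hp : Fact p.Prime] {S A P : Subgroup Ω}

/-- a relative index in a `p`-group that is `≤ p` and not `1` is `p` -/
theorem relIndex_eq_prime_of_le [Finite S] (hS : IsPGroup p S) {H K : Subgroup Ω} (hK : K ≤ S)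
    (hne : ¬ K ≤ H) (hle : H.relIndex K ≤ p) : H.relIndex K = p := by
  haveI : Finite K := finite_of_le hK
  obtain ⟨m, hm⟩ := (IsPGroup.iff_card (p := p) (G := K)).1 (hS.to_le hK)
  have h1 : H.relIndex K ∣ p ^ m := hm ▸ Subgroup.relIndex_dvd_card H K
  obtain ⟨j, -, hj⟩ := (Nat.dvd_prime_pow hp.out).1 h1
  have hj0 : j ≠ 0 := by
    rintro rfl
    rw [pow_zero, Subgroup.relIndex_eq_one] at hj
    exact hne hj
  rw [hj] at hle ⊢
  have : j ≤ 1 := by
    by_contra hcon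
    push Not at hcon
    have h2 : p ^ 2 ≤ p ^ j := Nat.pow_le_pow_right hp.out.pos hcon
    have h3 : p < p ^ 2 := by
      have := hp.out.one_lt
      nlinarith
    omega
  have hj1 : j = 1 := by omega
  rw [hj1, pow_one]

variable [Finite S]

/-- `|P : P ∩ A| = p` for `P ≰ A` -/
theorem Setting.relIndex_of_not_le (h : Setting p S A) (hPS : P ≤ S) (hPA : ¬ P ≤ A) :
    A.relIndex P = p := by
  have := h.normal_subgroupOf
  have h1 : (A.subgroupOf S).relIndex (P.subgroupOf S) ∣ (A.subgroupOf S).index :=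
    Subgroup.relIndex_dvd_index_of_normal _ _
  rw [Subgroup.relIndex_subgroupOf hPS] at h1
  have h2 : (A.subgroupOf S).index = p := h.idx
  rw [h2] at h1
  rcases (Nat.dvd_prime hp.out).1 h1 with h3 | h3
  · rw [Subgroup.relIndex_eq_one] at h3
    exact absurd h3 hPA
  · exact h3

/-- an element of `A` whose commutator with `x ∉ A` is central lies in `Z₂(S)` -/
theorem Setting.mem_Z2_of_comm (h : Setting p S A) {a x : Ω} (ha : a ∈ A) (hx : x ∈ S) (hxA : x ∉ A)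
    (hc : a * x * a⁻¹ * x⁻¹ ∈ ZS S) : a ∈ Z2 S := by
  rw [mem_Z2_iff]
  refine ⟨h.le ha, fun s hs => ?_⟩
  obtain ⟨b, hb, k, rfl⟩ := h.decomp hx hxA hs
  set c := a * x * a⁻¹ * x⁻¹ with hcdef
  have hcx : Commute c x := by
    have := (mem_ZS_iff.1 hc).2 x hx
    exact this.symm
  have h1 : a * x * a⁻¹ = c * x := by rw [hcdef]; group
  have h2 : a * x ^ k * a⁻¹ = (c * x) ^ k := by
    rw [← h1]
    have : a * x * a⁻¹ = MulAut.conj a x := by simp [MulAut.conj_apply]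
    rw [this, ← map_zpow]
    simp [MulAut.conj_apply]
  have h3 : a * x ^ k * a⁻¹ * (x ^ k)⁻¹ = c ^ k := by
    rw [h2, hcx.mul_zpow]; group
  have hck : c ^ k ∈ ZS S := (ZS S).zpow_mem hc k
  have h4 : b * c ^ k = c ^ k * b := (mem_ZS_iff.1 hck).2 b (h.le hb)
  have h5 : a * (b * x ^ k) * a⁻¹ * (b * x ^ k)⁻¹
      = (a * b) * (x ^ k * a⁻¹ * (x ^ k)⁻¹) * b⁻¹ := by group
  have h6 : a * (b * x ^ k) * a⁻¹ * (b * x ^ k)⁻¹ = c ^ k := by
    rw [h5, h.comm a ha b hb]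
    calc b * a * (x ^ k * a⁻¹ * (x ^ k)⁻¹) * b⁻¹
        = (b * (a * x ^ k * a⁻¹ * (x ^ k)⁻¹)) * b⁻¹ := by group
      _ = (b * c ^ k) * b⁻¹ := by rw [h3]
      _ = c ^ k := by rw [h4]; group
  rw [h6]
  exact hck

/-- the commutator homomorphism `a ↦ a x a⁻¹ x⁻¹` of `A` -/
noncomputable def Setting.delta (h : Setting p S A) {x : Ω} (hx : x ∈ S) : A →* A :=
  MonoidHom.mk' (fun a => ⟨a * x * (a : Ω)⁻¹ * x⁻¹, by
    have h1 := h.conj_mem hx (A.inv_mem a.2)
    have h2 := A.mul_mem a.2 h1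
    have h3 : (a : Ω) * (x * (a : Ω)⁻¹ * x⁻¹) = a * x * (a : Ω)⁻¹ * x⁻¹ := by group
    rwa [h3] at h2⟩) (by
    intro a b
    apply Subtype.ext
    simp only [Subgroup.coe_mul, mul_inv_rev]
    have h1 := h.conj_mem hx (A.inv_mem b.2)
    have h2 : (a : Ω)⁻¹ * (x * (b : Ω)⁻¹ * x⁻¹) = (x * (b : Ω)⁻¹ * x⁻¹) * (a : Ω)⁻¹ :=
      h.comm _ (A.inv_mem a.2) _ h1
    have h3 : (b : Ω) * (x * (b : Ω)⁻¹ * x⁻¹) * (a : Ω)⁻¹ = (a : Ω)⁻¹ * ((b : Ω) * (x * (b : Ω)⁻¹ * x⁻¹)) :=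
      (h.comm _ (A.inv_mem a.2) _ (A.mul_mem b.2 h1)).symm
    calc (a : Ω) * b * x * ((b : Ω)⁻¹ * (a : Ω)⁻¹) * x⁻¹
        = (a : Ω) * ((b : Ω) * (x * (b : Ω)⁻¹ * x⁻¹)) * (x * (a : Ω)⁻¹ * x⁻¹) := by group
      _ = (a : Ω) * (x * (a : Ω)⁻¹ * x⁻¹) * ((b : Ω) * (x * (b : Ω)⁻¹ * x⁻¹)) := by
        have h4 := h.conj_mem hx (A.inv_mem a.2)
        have h5 := h.comm _ (A.mul_mem b.2 h1) _ h4
        rw [mul_assoc, h5]; group
      _ = (a : Ω) * x * (a : Ω)⁻¹ * x⁻¹ * ((b : Ω) * x * (b : Ω)⁻¹ * x⁻¹) := by group)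

theorem Setting.delta_apply (h : Setting p S A) {x : Ω} (hx : x ∈ S) (a : A) :
    ((h.delta hx a : A) : Ω) = a * x * (a : Ω)⁻¹ * x⁻¹ := rfl

theorem Setting.delta_ker (h : Setting p S A) {x : Ω} (hx : x ∈ S) (hxA : x ∉ A) :
    (h.delta hx).ker = (ZS S).subgroupOf A := by
  ext a
  rw [MonoidHom.mem_ker, Subgroup.mem_subgroupOf]
  constructor
  · intro h1
    have h2 := congrArg Subtype.val h1
    rw [h.delta_apply] at h2
    apply h.mem_center_of_comm a.2 hx hxA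
    have h3 : (a : Ω) * x = ((a : Ω) * x * (a : Ω)⁻¹ * x⁻¹) * x * a := by group
    rw [h3, h2]
    simp
  · intro h1
    apply Subtype.ext
    rw [h.delta_apply]
    have h2 : x * (a : Ω) = a * x := (mem_ZS_iff.1 h1).2 x hx
    rw [← h2]
    simp

section core3

variable {Γ : Subgroup (MulAut P)} (h : Setting p S A) (hP : PHyp p S P Γ)

include h hP

/-- `|P ∩ A : Z(S)| = p` when `P ∩ A ≰ Z(S)` -/
theorem PHyp.relIndex_ZS_inf {a₀ : Ω} (ha₀ : a₀ ∈ P ⊓ A) (ha₀Z : a₀ ∉ ZS S) {x : Ω} (hx : x ∈ P)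
    (hxA : x ∉ A) : (ZS S).relIndex (P ⊓ A) = p := by
  haveI : Finite P := finite_of_le hP.le
  have hPA : ¬ P ≤ A := fun hle => hxA (hle hx)
  obtain ⟨α, hα, y₁, hy₁A, hαy₁⟩ := hP.exists_moved h hx hxA
  set v : Ω := ((α y₁ : P) : Ω) with hv
  have hvP : v ∈ P := (α y₁).2
  set P₀ : Subgroup P := A.subgroupOf P with hP₀
  set P₁ : Subgroup P := P₀.map α.toMonoidHom with hP₁
  have hidx0 : P₀.index = p := h.relIndex_of_not_le hP.le hPA
  have hidx1 : P₁.index = p := by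
    have := Subgroup.index_map_equiv P₀ α
    rw [hidx0] at this
    exact this
  -- `P₁` is normal
  have hP₁n : P₁.Normal := by
    apply Subgroup.normal_of_index_eq_minFac_card
    obtain ⟨n, hn⟩ := (IsPGroup.iff_card (p := p) (G := P)).1 (h.pS.to_le hP.le)
    have hn0 : n ≠ 0 := by
      rintro rfl
      rw [pow_zero] at hn
      have := Subgroup.card_mul_index P₀
      rw [hn, hidx0] at this
      have h1 : p ∣ 1 := Dvd.intro_left _ this
      exact hp.out.one_lt.ne' (Nat.dvd_one.1 h1)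
    rw [hn, Nat.Prime.pow_minFac hp.out hn0]
    exact hidx1
  -- `P₀ ≰ P₁`
  have hnle : ¬ P₀ ≤ P₁ := by
    intro hle
    have h1 := Subgroup.relIndex_mul_index hle
    rw [hidx0, hidx1] at h1
    have h2 : P₀.relIndex P₁ = 1 := by
      have : P₀.relIndex P₁ * p = 1 * p := by rw [h1, one_mul]
      exact Nat.eq_of_mul_eq_mul_right hp.out.pos this
    rw [Subgroup.relIndex_eq_one] at h2
    have h3 : α y₁ ∈ P₁ := ⟨y₁, hy₁A, rfl⟩
    exact hαy₁ (h2 h3)
  have hrel : (P₀ ⊓ P₁).relIndex P₀ = p := by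
    rw [Subgroup.inf_relIndex_left]
    have h1 : P₁.relIndex P₀ ∣ P₁.index := Subgroup.relIndex_dvd_index_of_normal _ _
    rw [hidx1] at h1
    rcases (Nat.dvd_prime hp.out).1 h1 with h3 | h3
    · rw [Subgroup.relIndex_eq_one] at h3
      exact absurd h3 hnle
    · exact h3
  set Z' : Subgroup P := (ZS S).subgroupOf P with hZ'
  have hle1 : P₀ ⊓ P₁ ≤ Z' := by
    intro w hw
    obtain ⟨hw0, w₀, hw₀, hw₀w⟩ := hw
    rw [hZ', Subgroup.mem_subgroupOf]
    apply hP.center_le h ha₀ ha₀Z hx hxA w.2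
    have hwv : (w : Ω) * v = v * w := by
      have h1 : w₀ * y₁ = y₁ * w₀ := Subtype.ext (h.comm _ hw₀ _ hy₁A)
      have h2 := congrArg α h1
      simp only [map_mul] at h2
      have hw' : α w₀ = w := hw₀w
      rw [hw'] at h2
      exact congrArg Subtype.val h2
    intro y hy
    obtain ⟨b, hb, k, rfl⟩ := h.decomp_in hP.le hvP hαy₁ hy
    have hwb : (w : Ω) * b = b * w := h.comm _ hw0 _ hb.2
    have hwvk : (w : Ω) * v ^ k = v ^ k * w := by
      have : Commute (w : Ω) v := hwv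
      exact (this.zpow_right k).eq
    calc (w : Ω) * (b * v ^ k) = ((w : Ω) * b) * v ^ k := by group
      _ = b * ((w : Ω) * v ^ k) := by rw [hwb]; group
      _ = b * v ^ k * w := by rw [hwvk]; group
  have hle2 : Z' ≤ P₀ := by
    intro w hw
    exact h.center_le hw
  have hrelZ : Z'.relIndex P₀ = p := by
    have h1 : Z'.relIndex P₀ ∣ (P₀ ⊓ P₁).relIndex P₀ := Subgroup.relIndex_dvd_of_le_left P₀ hle1
    rw [hrel] at h1
    rcases (Nat.dvd_prime hp.out).1 h1 with h3 | h3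
    · rw [Subgroup.relIndex_eq_one] at h3
      exfalso
      apply ha₀Z
      have : (⟨a₀, ha₀.1⟩ : P) ∈ Z' := h3 ha₀.2
      exact this
    · exact h3
  have h4 : P₀ = (P ⊓ A).subgroupOf P := (Subgroup.inf_subgroupOf_left A P).symm
  rw [h4, hZ', Subgroup.relIndex_subgroupOf inf_le_left] at hrelZ
  exact hrelZ

end core3

/-- `|N_S(P) : P| = |N_A(P) : P ∩ A|` for `P ≰ A` -/
theorem Setting.relIndex_normalizer_eq (h : Setting p S A) (hPS : P ≤ S) {x : Ω} (hx : x ∈ P)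
    (hxA : x ∉ A) :
    P.relIndex (S ⊓ Subgroup.normalizer (P : Set Ω))
      = (P ⊓ A).relIndex ((S ⊓ Subgroup.normalizer (P : Set Ω)) ⊓ A) := by
  set N : Subgroup Ω := S ⊓ Subgroup.normalizer (P : Set Ω) with hN
  have hPN : P ≤ N := le_inf hPS Subgroup.le_normalizer
  have hn : (P.subgroupOf N).Normal := Subgroup.normal_subgroupOf_of_le_normalizer inf_le_right
  have hsup : P.subgroupOf N ⊔ A.subgroupOf N = ⊤ := by
    rw [eq_top_iff]
    intro n _
    obtain ⟨a, ha, k, hak⟩ := h.decomp (hPS hx) hxA n.2.1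
    have hxk : x ^ k ∈ P := P.zpow_mem hx k
    have haN : a ∈ N := by
      have : a = n * (x ^ k)⁻¹ := by rw [hak]; group
      rw [this]
      exact N.mul_mem n.2 (N.inv_mem (hPN hxk))
    have h1 : n = (⟨a, haN⟩ : N) * ⟨x ^ k, hPN hxk⟩ := Subtype.ext hak
    rw [h1, sup_comm]
    exact Subgroup.mul_mem_sup (by rw [Subgroup.mem_subgroupOf]; exact ha)
      (by rw [Subgroup.mem_subgroupOf]; exact hxk)
  have h1 : P.relIndex N = (P.subgroupOf N).relIndex (P.subgroupOf N ⊔ A.subgroupOf N) := by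
    rw [hsup, Subgroup.relIndex_top_right]
    rfl
  rw [h1, Subgroup.relIndex_sup_left, ← Subgroup.inf_relIndex_right]
  have h2 : P.subgroupOf N ⊓ A.subgroupOf N = (P ⊓ A).subgroupOf N := by
    ext y
    simp [Subgroup.mem_subgroupOf]
  have h3 : A.subgroupOf N = (N ⊓ A).subgroupOf N := (Subgroup.inf_subgroupOf_left A N).symm
  rw [h2, h3, Subgroup.relIndex_subgroupOf inf_le_left]

section core4

variable {Γ : Subgroup (MulAut P)} (h : Setting p S A) (hP : PHyp p S P Γ)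

include h hP

/-- `|N_A(P) : P ∩ A| ≤ p` when `P ∩ A ≰ Z(S)` -/
theorem PHyp.relIndex_inf_le {a₀ : Ω} (ha₀ : a₀ ∈ P ⊓ A) (ha₀Z : a₀ ∉ ZS S) {x : Ω} (hx : x ∈ P)
    (hxA : x ∉ A) :
    (P ⊓ A).relIndex ((S ⊓ Subgroup.normalizer (P : Set Ω)) ⊓ A) ≤ p := by
  haveI : Finite A := finite_of_le h.le
  set N : Subgroup Ω := S ⊓ Subgroup.normalizer (P : Set Ω) with hN
  have hPN : P ≤ N := le_inf hP.le Subgroup.le_normalizer
  have hxS : x ∈ S := hP.le hx
  set δ := h.delta hxS with hδ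
  set NA : Subgroup A := N.subgroupOf A with hNA
  set PA : Subgroup A := P.subgroupOf A with hPA
  have hcenP : ∀ w ∈ P, (∀ y ∈ P, w * y = y * w) → w ∈ ZS S :=
    fun w hw hwc => hP.center_le h ha₀ ha₀Z hx hxA hw hwc
  have h1 : NA.map δ ≤ PA := by
    rintro _ ⟨a, ha, rfl⟩
    rw [hPA, Subgroup.mem_subgroupOf, h.delta_apply]
    have haN : (a : Ω) ∈ Subgroup.normalizer (P : Set Ω) := ha.2
    have h2 : (a : Ω) * x * (a : Ω)⁻¹ ∈ P := (Subgroup.mem_normalizer_iff.1 haN x).1 hx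
    exact P.mul_mem h2 (P.inv_mem hx)
  have h2 : Nat.card (NA.map (δ.comp δ)) ≤ Nat.card (PA.map δ) := by
    rw [← Subgroup.map_map]
    exact Subgroup.card_le_of_le (Subgroup.map_mono h1)
  have hPA' : PA = (P ⊓ A).subgroupOf A := (Subgroup.inf_subgroupOf_right P A).symm
  have hNA' : NA = (N ⊓ A).subgroupOf A := (Subgroup.inf_subgroupOf_right N A).symm
  have h3 : Nat.card (PA.map δ) = p := by
    rw [← Subgroup.relIndex_ker, h.delta_ker hxS hxA, hPA', Subgroup.relIndex_subgroupOf inf_le_right]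
    exact hP.relIndex_ZS_inf h ha₀ ha₀Z hx hxA
  have h5 : (δ.comp δ).ker ⊓ NA = PA := by
    ext a
    rw [Subgroup.mem_inf, MonoidHom.mem_ker, MonoidHom.comp_apply]
    constructor
    · rintro ⟨h6, -⟩
      have h7 : δ a ∈ δ.ker := h6
      rw [h.delta_ker hxS hxA, Subgroup.mem_subgroupOf, h.delta_apply] at h7
      have h8 : (a : Ω) ∈ Z2 S := h.mem_Z2_of_comm a.2 hxS hxA h7
      exact hP.Z2_inf_le h hcenP ⟨h8, a.2⟩
    · intro haP
      have haP' : (a : Ω) ∈ P := haP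
      refine ⟨?_, hPN haP'⟩
      have h7 : δ a ∈ δ.ker := by
        rw [h.delta_ker hxS hxA, Subgroup.mem_subgroupOf, h.delta_apply]
        exact hP.comm_mem_ZS h ha₀ ha₀Z hx hxA haP' hx
      exact h7
  have h6 : (P ⊓ A).relIndex (N ⊓ A) = Nat.card (NA.map (δ.comp δ)) := by
    calc (P ⊓ A).relIndex (N ⊓ A) = PA.relIndex NA := by
          rw [hPA', hNA', Subgroup.relIndex_subgroupOf inf_le_right]
      _ = ((δ.comp δ).ker ⊓ NA).relIndex NA := by rw [h5]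
      _ = (δ.comp δ).ker.relIndex NA := Subgroup.inf_relIndex_right _ _
      _ = Nat.card (NA.map (δ.comp δ)) := Subgroup.relIndex_ker _ _
  rw [h6]
  exact h2.trans h3.le

/-- `|N_S(P) : P| = p` when `P ∩ A ≰ Z(S)` -/
theorem PHyp.relIndex_normalizer_of_not_le {a₀ : Ω} (ha₀ : a₀ ∈ P ⊓ A) (ha₀Z : a₀ ∉ ZS S) {x : Ω}
    (hx : x ∈ P) (hxA : x ∉ A) : P.relIndex (S ⊓ Subgroup.normalizer (P : Set Ω)) = p := by
  apply relIndex_eq_prime_of_le h.pS inf_le_left
  · intro hle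
    obtain ⟨n, hn, hnP⟩ := exists_normalizer_not_mem h.pS hP.le hP.ne
    exact hnP (hle hn)
  · rw [h.relIndex_normalizer_eq hP.le hx hxA]
    exact hP.relIndex_inf_le h ha₀ ha₀Z hx hxA

end core4

end Cfsg.Agent.Helper83.AbIdx
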