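import Mathlib
import Cfsg.Agent.Lib.Helper83.OrderP4a

/-!
# A `p`-group of transvection-like automorphisms in a group with a strongly embedded-like subgroup

Abstract form of the argument showing `|Out_S(P)| = p` for essential `P = Z(S)⟨x⟩`.
-/

set_option autoImplicit false

namespace Cfsg.Agent.Helper83.AbIdx

theorem card_le_of_transvection {P : Type*} [CommGroup P] [Finite P] {p : ℕ} [hp : Fact p.Prime]
    (Γ T M : Subgroup (MulAut P)) (hTΓ : T ≤ Γ) (hT : IsPGroup p T)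
    (hM : ∃ β ∈ Γ, β ∉ M)
    (hkey : ∀ τ ∈ T, τ ≠ 1 → ∀ β ∈ Γ, β * τ * β⁻¹ ∈ T → β ∈ M)
    (hsyl : ∀ Q : Subgroup (MulAut P), Q ≤ Γ → IsPGroup p Q → ∃ γ ∈ Γ, ∀ q ∈ Q, γ * q * γ⁻¹ ∈ T)
    (Z₁ : Subgroup P) (hZ₁ : Z₁.index = p) (hfix : ∀ τ ∈ T, ∀ z ∈ Z₁, τ z = z)
    (hquot : ∀ τ ∈ T, ∀ y, y⁻¹ * τ y ∈ Z₁) : Nat.card T ≤ p := by
  classical
  by_contra hcon
  push Not at hcon
  haveI : Finite (MulAut P) :=
    Finite.of_injective (fun e : MulAut P => (e : P → P)) DFunLike.coe_injective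
  -- a generator modulo `Z₁`
  have hne : Z₁ ≠ ⊤ := by
    intro htop
    rw [htop, Subgroup.index_top] at hZ₁
    exact hp.out.one_lt.ne hZ₁
  obtain ⟨x₀, hx₀⟩ : ∃ x₀ : P, x₀ ∉ Z₁ := by
    by_contra hall
    push Not at hall
    exact hne (eq_top_iff.2 fun y _ => hall y)
  have hsup : Z₁ ⊔ Subgroup.zpowers x₀ = ⊤ :=
    sup_zpowers_eq_of_relIndex_prime hp.out le_top (by rw [Subgroup.relIndex_top_right]; exact hZ₁)
      (Subgroup.mem_top _) hx₀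
  have hdec : ∀ y : P, ∃ z ∈ Z₁, ∃ k : ℤ, y = z * x₀ ^ k := by
    intro y
    have : y ∈ Z₁ ⊔ Subgroup.zpowers x₀ := by rw [hsup]; trivial
    obtain ⟨z, hz, w, ⟨k, rfl⟩, rfl⟩ := Subgroup.mem_sup.1 this
    exact ⟨z, hz, k, rfl⟩
  -- the displacement of `x₀`
  have hdisp : ∀ τ ∈ T, ∀ y : P, ∃ k : ℤ, y⁻¹ * τ y = (x₀⁻¹ * τ x₀) ^ k := by
    intro τ hτ y
    obtain ⟨z, hz, k, rfl⟩ := hdec y
    refine ⟨k, ?_⟩
    have h1 : τ x₀ = x₀ * (x₀⁻¹ * τ x₀) := by group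
    rw [map_mul, map_zpow, hfix τ hτ z hz]
    rw [mul_zpow]
    have h2 : (x₀⁻¹) ^ k * (τ x₀) ^ k = (z * x₀ ^ k)⁻¹ * (z * τ x₀ ^ k) := by
      rw [mul_inv_rev, inv_zpow]; group
    rw [← h2, inv_zpow]
  have hdispY : ∀ τ ∈ T, ∀ Y : Subgroup P, x₀⁻¹ * τ x₀ ∈ Y → ∀ y : P, y⁻¹ * τ y ∈ Y := by
    intro τ hτ Y hY y
    obtain ⟨k, hk⟩ := hdisp τ hτ y
    rw [hk]
    exact Y.zpow_mem hY k
  have hone : ∀ τ ∈ T, x₀⁻¹ * τ x₀ = 1 → τ = 1 := by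
    intro τ hτ h1
    ext y
    obtain ⟨k, hk⟩ := hdisp τ hτ y
    rw [h1, one_zpow] at hk
    rw [MulAut.one_apply]
    exact (inv_mul_eq_one.1 hk).symm
  -- the displacement homomorphism
  let Φ : T →* P := MonoidHom.mk' (fun τ => x₀⁻¹ * (τ : MulAut P) x₀) (by
    intro τ σ
    have hσ := hquot σ σ.2 x₀
    have h1 : (σ : MulAut P) x₀ = x₀ * (x₀⁻¹ * (σ : MulAut P) x₀) := by group
    show x₀⁻¹ * (τ : MulAut P) ((σ : MulAut P) x₀) = _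
    rw [h1, map_mul, hfix τ τ.2 _ hσ]
    simp only [inv_mul_cancel_left]
    group)
  have hΦ : ∀ τ : T, Φ τ = x₀⁻¹ * (τ : MulAut P) x₀ := fun τ => rfl
  -- nontrivial elements with displacement in a given subgroup of index `p`
  have hC1 : ∀ Y : Subgroup P, Y.index = p → ∃ τ ∈ T, τ ≠ 1 ∧ x₀⁻¹ * τ x₀ ∈ Y := by
    intro Y hY
    set K : Subgroup T := Y.comap Φ with hK
    have h1 : K.index ∣ p := by
      rw [hK, Subgroup.index_comap, ← hY]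
      exact Subgroup.relIndex_dvd_index_of_normal _ _
    have h2 : K.index ≤ p := Nat.le_of_dvd hp.out.pos h1
    have h3 := Subgroup.card_mul_index K
    have h4 : Nat.card K ≠ 1 := by
      intro h5
      rw [h5, one_mul] at h3
      omega
    have h5 : K ≠ ⊥ := by
      intro h6
      apply h4
      rw [h6]
      exact Subgroup.card_bot
    obtain ⟨⟨τ, hτK⟩, hτ1⟩ := (Subgroup.ne_bot_iff_exists_ne_one).1 h5
    refine ⟨(τ : MulAut P), τ.2, ?_, hτK⟩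
    intro h6
    apply hτ1
    apply Subtype.ext
    apply Subtype.ext
    exact h6
  obtain ⟨β, hβΓ, hβM⟩ := hM
  set Z' : Subgroup P := Z₁.comap β.toMonoidHom with hZ'
  set Z'' : Subgroup P := Z₁.comap (β⁻¹).toMonoidHom with hZ''
  have hZ'i : Z'.index = p := by
    rw [hZ', Subgroup.index_comap_of_surjective _ β.surjective, hZ₁]
  have hZ''i : Z''.index = p := by
    rw [hZ'', Subgroup.index_comap_of_surjective _ (β⁻¹).surjective, hZ₁]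
  obtain ⟨τ, hτT, hτ1, hτZ⟩ := hC1 Z' hZ'i
  obtain ⟨τ₁, hτ₁T, hτ₁1, hτ₁Z⟩ := hC1 Z'' hZ''i
  set τ' : MulAut P := β⁻¹ * τ₁ * β with hτ'
  -- displacements
  have hg1 : ∀ y, y⁻¹ * τ y ∈ Z₁ := hquot τ hτT
  have hg2 : ∀ y, y⁻¹ * τ y ∈ Z' := hdispY τ hτT Z' hτZ
  have hτ'y : ∀ y, τ' y = β⁻¹ (τ₁ (β y)) := fun y => rfl
  have hg'1 : ∀ y, y⁻¹ * τ' y ∈ Z₁ := by
    intro y
    have h1 : (β y)⁻¹ * τ₁ (β y) ∈ Z'' := hdispY τ₁ hτ₁T Z'' hτ₁Z (β y)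
    have h2 : β⁻¹ ((β y)⁻¹ * τ₁ (β y)) ∈ Z₁ := h1
    rw [map_mul, map_inv] at h2
    have h3 : β⁻¹ (β y) = y := by simp
    rw [h3] at h2
    rw [hτ'y]
    exact h2
  have hg'2 : ∀ y, y⁻¹ * τ' y ∈ Z' := by
    intro y
    have h1 : (β y)⁻¹ * τ₁ (β y) ∈ Z₁ := hquot τ₁ hτ₁T (β y)
    show β (y⁻¹ * τ' y) ∈ Z₁
    rw [map_mul, map_inv, hτ'y]
    have h3 : β (β⁻¹ (τ₁ (β y))) = τ₁ (β y) := by simp
    rw [h3]
    exact h1
  have hfix' : ∀ y ∈ Z', τ' y = y := by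
    intro y hy
    have h1 : β y ∈ Z₁ := hy
    rw [hτ'y, hfix τ₁ hτ₁T _ h1]
    simp
  have hcomm : τ * τ' = τ' * τ := by
    ext y
    show τ (τ' y) = τ' (τ y)
    have h1 : τ' y = y * (y⁻¹ * τ' y) := by group
    have h2 : τ y = y * (y⁻¹ * τ y) := by group
    have h3 : τ (τ' y) = τ y * (y⁻¹ * τ' y) := by
      conv_lhs => rw [h1]
      rw [map_mul, hfix τ hτT _ (hg'1 y)]
    have h4 : τ' (τ y) = τ' y * (y⁻¹ * τ y) := by
      conv_lhs => rw [h2]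
      rw [map_mul, hfix' _ (hg2 y)]
    rw [h3, h4]
    calc τ y * (y⁻¹ * τ' y) = τ y * τ' y * y⁻¹ := by rw [mul_comm y⁻¹ (τ' y), ← mul_assoc]
      _ = τ' y * (y⁻¹ * τ y) := by rw [mul_comm (τ y) (τ' y), mul_assoc, mul_comm (τ y) y⁻¹]
  -- the `p`-group generated by `τ` and `τ'`
  have hτ'Γ : τ' ∈ Γ := Γ.mul_mem (Γ.mul_mem (Γ.inv_mem hβΓ) (hTΓ hτ₁T)) hβΓ
  have hp1 : IsPGroup p (Subgroup.zpowers τ) := by
    have : Subgroup.zpowers τ ≤ T := Subgroup.zpowers_le.2 hτT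
    exact hT.to_le this
  have hp2 : IsPGroup p (Subgroup.zpowers τ') := by
    have h1 : Subgroup.zpowers τ' ≤ T.map (MulAut.conj β⁻¹).toMonoidHom := by
      rw [Subgroup.zpowers_le]
      refine ⟨τ₁, hτ₁T, ?_⟩
      simp [hτ', MulAut.conj_apply]
    exact (hT.map _).to_le h1
  have hnorm : Subgroup.zpowers τ ≤ Subgroup.normalizer (Subgroup.zpowers τ' : Set (MulAut P)) := by
    rw [Subgroup.zpowers_le, Subgroup.mem_normalizer_iff]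
    intro g
    have h1 : ∀ g ∈ Subgroup.zpowers τ', τ * g * τ⁻¹ = g := by
      rintro _ ⟨k, rfl⟩
      have : Commute τ (τ' ^ k) := (show Commute τ τ' from hcomm).zpow_right k
      rw [this.eq]; group
    have h1' : ∀ g ∈ Subgroup.zpowers τ', τ⁻¹ * g * τ = g := by
      rintro _ ⟨k, rfl⟩
      have : Commute τ (τ' ^ k) := (show Commute τ τ' from hcomm).zpow_right k
      rw [mul_assoc, ← this.eq]; group
    constructor
    · intro hg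
      rw [h1 g hg]; exact hg
    · intro hg
      have h2 := h1' _ hg
      have h4 : τ⁻¹ * (τ * g * τ⁻¹) * τ = g := by group
      rw [h4] at h2
      rw [h2]
      exact hg
  have hQ : IsPGroup p (Subgroup.zpowers τ ⊔ Subgroup.zpowers τ' : Subgroup (MulAut P)) :=
    hp1.to_sup_of_normal_right' hp2 hnorm
  obtain ⟨γ, hγΓ, hγ⟩ := hsyl _ (sup_le (Subgroup.zpowers_le.2 (hTΓ hτT)) (Subgroup.zpowers_le.2 hτ'Γ)) hQ
  have h1 : γ * τ * γ⁻¹ ∈ T :=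
    hγ τ ((le_sup_left : Subgroup.zpowers τ ≤ _) (Subgroup.mem_zpowers τ))
  have h2 : γ * τ' * γ⁻¹ ∈ T :=
    hγ τ' ((le_sup_right : Subgroup.zpowers τ' ≤ _) (Subgroup.mem_zpowers τ'))
  have hγM : γ ∈ M := hkey τ hτT hτ1 γ hγΓ h1
  have h3 : γ * β⁻¹ ∈ M := by
    apply hkey τ₁ hτ₁T hτ₁1 _ (Γ.mul_mem hγΓ (Γ.inv_mem hβΓ))
    have : γ * β⁻¹ * τ₁ * (γ * β⁻¹)⁻¹ = γ * τ' * γ⁻¹ := by rw [hτ']; group
    rw [this]
    exact h2
  apply hβM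
  have h4 : β = (γ⁻¹ * (γ * β⁻¹))⁻¹ := by group
  rw [h4]
  exact M.inv_mem (M.mul_mem (M.inv_mem hγM) h3)

/-- version for a `Group` that happens to be commutative -/
theorem card_le_of_transvection' {P : Type*} [Group P] [Finite P] {p : ℕ} [hp : Fact p.Prime]
    (hcomm : ∀ a b : P, a * b = b * a)
    (Γ T M : Subgroup (MulAut P)) (hTΓ : T ≤ Γ) (hT : IsPGroup p T)
    (hM : ∃ β ∈ Γ, β ∉ M)
    (hkey : ∀ τ ∈ T, τ ≠ 1 → ∀ β ∈ Γ, β * τ * β⁻¹ ∈ T → β ∈ M)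
    (hsyl : ∀ Q : Subgroup (MulAut P), Q ≤ Γ → IsPGroup p Q → ∃ γ ∈ Γ, ∀ q ∈ Q, γ * q * γ⁻¹ ∈ T)
    (Z₁ : Subgroup P) (hZ₁ : Z₁.index = p) (hfix : ∀ τ ∈ T, ∀ z ∈ Z₁, τ z = z)
    (hquot : ∀ τ ∈ T, ∀ y, y⁻¹ * τ y ∈ Z₁) : Nat.card T ≤ p := by
  letI : CommGroup P := { ‹Group P› with mul_comm := hcomm }
  exact card_le_of_transvection Γ T M hTΓ hT hM hkey hsyl Z₁ hZ₁ hfix hquot

end Cfsg.Agent.Helper83.AbIdx
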