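import Mathlib
import Cfsg.Agent.Lib.Helper83.AbIdxC
import Cfsg.Agent.Lib.Helper83.AbIdxD
import Cfsg.Agent.Lib.Helper84.FusSat
import Cfsg.Agent.Lib.Helper88.EssentialOmit
import Cfsg.Agent.S5080

/-!
# Essential subgroups of a `p`-group with an abelian subgroup of index `p`

Oliver, *Simple fusion systems over p-groups with abelian subgroup of index p: I*, Lemma 2.3(a).
-/

set_option autoImplicit false

namespace Cfsg.Agent.Helper83.AbIdx

open Cfsg Cfsg.FusionSystem Cfsg.Agent.Helper87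

variable {Ω : Type*} [Group Ω] {p : ℕ} [hp : Fact p.Prime] {S A P : Subgroup Ω}

/-- the number of automorphisms of an abelian centric subgroup induced by `S` -/
theorem card_autInducedBy_of_comm (hPS : P ≤ S) (hcomm : ∀ u ∈ P, ∀ w ∈ P, u * w = w * u)
    (hcen : ∀ c ∈ S, (∀ y ∈ P, c * y = y * c) → c ∈ P) :
    Nat.card (autInducedBy S P) = P.relIndex (S ⊓ Subgroup.normalizer (P : Set Ω)) := by
  rw [Cfsg.Agent.Helper84.autInducedBy_eq_map, ← Subgroup.relIndex_ker,
    Subgroup.normalizerMonoidHom_ker]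
  have e1 : S.subgroupOf (Subgroup.normalizer (P : Set Ω))
      = (S ⊓ Subgroup.normalizer (P : Set Ω)).subgroupOf (Subgroup.normalizer (P : Set Ω)) :=
    (Subgroup.inf_subgroupOf_right S _).symm
  rw [e1, Subgroup.relIndex_subgroupOf inf_le_right, ← Subgroup.inf_relIndex_right]
  have e2 : Subgroup.centralizer (P : Set Ω) ⊓ (S ⊓ Subgroup.normalizer (P : Set Ω)) = P := by
    apply le_antisymm
    · rintro c ⟨hc1, hc2, -⟩
      apply hcen c hc2
      intro y hy
      exact (Subgroup.mem_centralizer_iff.1 hc1 y hy).symm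
    · intro u hu
      refine ⟨?_, hPS hu, Subgroup.le_normalizer hu⟩
      show u ∈ Subgroup.centralizer (P : Set Ω)
      rw [Subgroup.mem_centralizer_iff]
      intro w hw
      exact hcomm w hw u hu
  rw [e2]

variable [Finite S]

/-- basic consequences of essentiality -/
theorem essential_key (hS : IsPGroup p S) {F : FusionSystem S} (hF : F.IsSaturated p)
    (hP : F.IsEssential p P) :
    P ≠ S ∧ Cfsg.Agent.Helper84.IsSylIn p (autInducedBy S P) (F.autGroup P) ∧
      ∃ M : Subgroup (F.autGroup P), M ≠ ⊤ ∧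
        ∀ x ∈ autInducedBy S P, x ∉ Inn P → ∀ β : F.autGroup P,
          (β : MulAut P) * x * (β : MulAut P)⁻¹ ∈ autInducedBy S P → β ∈ M := by
  obtain ⟨hcen, hfn, hn, M₀, hM₀⟩ := hP
  have := hn
  have hPS := hcen.1
  have : Finite P := finite_of_le hPS
  have : Finite (MulAut P) := Finite.of_injective (fun e : MulAut P => (e : P → P)) DFunLike.coe_injective
  have hfa := fullyAutomized_of_fullyNormalized hS hF hfn
  obtain ⟨-, PA, hPA⟩ := hfa
  obtain ⟨M, hMtop, ⟨x₀, hx₀P, hx₀I⟩, hMkey⟩ :=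
    Cfsg.Agent.Helper88.exists_subgroup_of_spe_quotient _ M₀ hM₀ PA
  have hKey : ∀ x ∈ autInducedBy S P, x ∉ Inn P → ∀ β : F.autGroup P,
      (β : MulAut P) * x * (β : MulAut P)⁻¹ ∈ autInducedBy S P → β ∈ M := by
    intro x hx hxI β hβ
    have hxA : x ∈ F.autGroup P := autInducedBy_le_autGroup F hPS hx
    apply hMkey ⟨x, hxA⟩
    · rw [hPA, Subgroup.mem_subgroupOf]; exact hx
    · rw [Subgroup.mem_subgroupOf]; exact hxI
    · rw [hPA, Subgroup.mem_subgroupOf]; exact hβ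
  refine ⟨?_, ((Cfsg.Agent.Helper84.fullyAutomized_iff F P).1
    (fullyAutomized_of_fullyNormalized hS hF hfn)).2, M, hMtop, hKey⟩
  intro hQeq
  apply hx₀I
  rw [Subgroup.mem_subgroupOf]
  have h1 : (x₀ : MulAut P) ∈ autInducedBy S P := by
    rw [hPA, Subgroup.mem_subgroupOf] at hx₀P; exact hx₀P
  obtain ⟨n, hnS, e⟩ := mem_autInducedBy_iff.1 h1
  have hnQ : n ∈ P := by rw [hQeq]; exact hnS
  refine ⟨⟨n, hnQ⟩, ?_⟩
  ext y
  rw [e]
  simp [MulAut.conj_apply]

/-- the hypotheses `PHyp` hold for an essential subgroup -/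
theorem pHyp_of_essential (hS : IsPGroup p S) {F : FusionSystem S} (hF : F.IsSaturated p)
    (hP : F.IsEssential p P) : PHyp p S P (F.autGroup P) := by
  have hrad := Cfsg.Agent.S5080.result p hS F hF P hP
  have hne := (essential_key hS hF hP).1
  obtain ⟨hcen, hfn, -⟩ := hP
  have hPS := hcen.1
  refine ⟨hPS, ?_, hne, ?_, ?_⟩
  · intro c hc hcy
    apply hcen.2 P (isConj_refl hPS)
    refine ⟨hc, ?_⟩
    show c ∈ Subgroup.centralizer (P : Set Ω)
    rw [Subgroup.mem_centralizer_iff]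
    intro y hy
    exact (hcy y hy).symm
  · intro n hn hnN
    exact autInducedBy_le_autGroup F hPS (conjAut_mem_autInducedBy hn hnN)
  · intro γ hγ hcore
    rw [← hrad.2]
    exact ⟨⟨γ, hγ⟩, hcore, rfl⟩

/-- `|N_S(P) : P| = p` for an essential subgroup `P = Z(S)⟨x⟩` -/
theorem relIndex_normalizer_of_inf_eq (hS : IsPGroup p S) {F : FusionSystem S} (hF : F.IsSaturated p)
    (h : Setting p S A) (hP : F.IsEssential p P) {x : Ω} (hx : x ∈ P) (hxA : x ∉ A)
    (hinf : P ⊓ A = ZS S) : P.relIndex (S ⊓ Subgroup.normalizer (P : Set Ω)) = p := by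
  have hPH := pHyp_of_essential hS hF hP
  obtain ⟨hne, hsyl, M, hMtop, hKey⟩ := essential_key hS hF hP
  have hPS := hPH.le
  haveI : Finite P := finite_of_le hPS
  haveI : Finite (MulAut P) := Finite.of_injective (fun e : MulAut P => (e : P → P)) DFunLike.coe_injective
  have hPA : ¬ P ≤ A := fun hle => hxA (hle hx)
  -- `P` is abelian
  have hcomm : ∀ u ∈ P, ∀ w ∈ P, u * w = w * u := by
    intro u hu w hw
    obtain ⟨a, ha, k, rfl⟩ := h.decomp_in hPS hx hxA hu
    obtain ⟨b, hb, l, rfl⟩ := h.decomp_in hPS hx hxA hw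
    rw [hinf] at ha hb
    have ha' := (mem_ZS_iff.1 ha).2
    have hb' := (mem_ZS_iff.1 hb).2
    have hxS : x ∈ S := hPS hx
    have h1 : x ^ k * b = b * x ^ k := hb' _ (S.zpow_mem hxS k)
    have h2 : x ^ l * a = a * x ^ l := ha' _ (S.zpow_mem hxS l)
    have h3 : a * b = b * a := (hb' a ha.1)
    have hkl : x ^ k * x ^ l = x ^ l * x ^ k := by rw [← zpow_add, ← zpow_add, add_comm]
    calc a * x ^ k * (b * x ^ l) = a * (x ^ k * b) * x ^ l := by group
      _ = a * (b * x ^ k) * x ^ l := by rw [h1]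
      _ = (a * b) * (x ^ k * x ^ l) := by group
      _ = (b * a) * (x ^ l * x ^ k) := by rw [h3, hkl]
      _ = b * (a * x ^ l) * x ^ k := by group
      _ = b * (x ^ l * a) * x ^ k := by rw [h2]
      _ = b * x ^ l * (a * x ^ k) := by group
  have hInn : ∀ τ : MulAut P, τ ∈ Inn P → τ = 1 := by
    rintro _ ⟨g, rfl⟩
    ext y
    simp only [MulAut.conj_apply, MulAut.one_apply, Subgroup.coe_mul, Subgroup.coe_inv]
    rw [hcomm g g.2 y y.2]
    group
  have hcard : Nat.card (autInducedBy S P) ≤ p := by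
    apply card_le_of_transvection' (fun u w => Subtype.ext (hcomm u u.2 w w.2)) (F.autGroup P)
      (autInducedBy S P) (M.map (F.autGroup P).subtype) hsyl.1 hsyl.2.1
    · by_contra hcon
      push Not at hcon
      apply hMtop
      rw [eq_top_iff]
      intro β _
      obtain ⟨β', hβ', e⟩ := hcon β β.2
      have : β' = β := Subtype.ext e
      rw [← this]
      exact hβ'
    · intro τ hτ hτ1 β hβ hconj
      have := hKey τ hτ (fun hI => hτ1 (hInn τ hI)) ⟨β, hβ⟩ hconj
      exact ⟨⟨β, hβ⟩, this, rfl⟩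
    · intro Q hQ hQp
      obtain ⟨T', hQT', hT'⟩ := Cfsg.Agent.Helper84.exists_isSylIn_ge hQ hQp
      obtain ⟨k, hk, hT'eq⟩ := hsyl.exists_conj hT'
      refine ⟨k⁻¹, (F.autGroup P).inv_mem hk, fun q hq => ?_⟩
      have hq' : q ∈ T' := hQT' hq
      rw [hT'eq] at hq'
      obtain ⟨t, ht, rfl⟩ := hq'
      have : k⁻¹ * (MulAut.conj k).toMonoidHom t * k⁻¹⁻¹ = t := by
        simp [MulAut.conj_apply]
        group
      rw [this]
      exact ht
    · show ((ZS S).subgroupOf P).index = p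
      have h1 : (ZS S).subgroupOf P = A.subgroupOf P := by
        rw [← hinf, Subgroup.inf_subgroupOf_left]
      rw [h1]
      exact h.relIndex_of_not_le hPS hPA
    · intro τ hτ z hz
      obtain ⟨g, hg, e⟩ := mem_autInducedBy_iff.1 hτ
      apply Subtype.ext
      rw [e]
      have hz' : (z : Ω) ∈ ZS S := hz
      rw [(mem_ZS_iff.1 hz').2 g hg]
      group
    · intro τ hτ y
      obtain ⟨g, hg, e⟩ := mem_autInducedBy_iff.1 hτ
      show ((y⁻¹ * τ y : P) : Ω) ∈ ZS S
      rw [← hinf]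
      refine ⟨(y⁻¹ * τ y).2, ?_⟩
      have h1 := h.comm_mem (S.inv_mem (hPS y.2)) hg
      simp only [inv_inv] at h1
      simp only [Subgroup.coe_mul, Subgroup.coe_inv, e]
      have h2 : (y : Ω)⁻¹ * (g * y * g⁻¹) = (y : Ω)⁻¹ * g * y * g⁻¹ := by group
      rw [h2]
      exact h1
  rw [card_autInducedBy_of_comm hPS hcomm hPH.cen] at hcard
  apply relIndex_eq_prime_of_le hS inf_le_left _ hcard
  intro hle
  obtain ⟨n, hn, hnP⟩ := exists_normalizer_not_mem hS hPS hne
  exact hnP (hle hn)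

/-- **Oliver's Lemma 2.3(a)**: the essential subgroups of a `p`-group with an abelian subgroup
of index `p`. -/
theorem essential_cases (hS : IsPGroup p S) {F : FusionSystem S} (hF : F.IsSaturated p)
    (h : Setting p S A) (hP : F.IsEssential p P) :
    P = A ∨
    (∃ x ∈ P, x ∉ A ∧ P ⊓ A = ZS S ∧ P.relIndex (S ⊓ Subgroup.normalizer (P : Set Ω)) = p) ∨
    (∃ x ∈ P, x ∉ A ∧ Z2 S ≤ A ∧ P ⊓ A = Z2 S ∧ (ZS S).relIndex (Z2 S) = p ∧
      P.relIndex (S ⊓ Subgroup.normalizer (P : Set Ω)) = p) := by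
  have hPH := pHyp_of_essential hS hF hP
  by_cases hPA : P ≤ A
  · left
    exact hPH.eq_of_le h hPA
  right
  obtain ⟨x, hx, hxA⟩ : ∃ x ∈ P, x ∉ A := by
    by_contra hcon
    push Not at hcon
    exact hPA hcon
  by_cases hcase : P ⊓ A ≤ ZS S
  · left
    have hinf : P ⊓ A = ZS S := le_antisymm hcase (le_inf hPH.ZS_le h.center_le)
    exact ⟨x, hx, hxA, hinf, relIndex_normalizer_of_inf_eq hS hF h hP hx hxA hinf⟩
  · right
    obtain ⟨a₀, ha₀, ha₀Z⟩ : ∃ a₀ ∈ P ⊓ A, a₀ ∉ ZS S := by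
      by_contra hcon
      push Not at hcon
      exact hcase hcon
    have hcenP : ∀ w ∈ P, (∀ y ∈ P, w * y = y * w) → w ∈ ZS S :=
      fun w hw hwc => hPH.center_le h ha₀ ha₀Z hx hxA hw hwc
    have h1 : Z2 S ⊓ A ≤ P := hPH.Z2_inf_le h hcenP
    have h2 : Z2 S ≤ A := hPH.Z2_le_A h h1 hx hxA
    have h3 : P ⊓ A = Z2 S := by
      apply le_antisymm (hPH.inf_le_Z2 h ha₀ ha₀Z hx hxA)
      intro z hz
      exact ⟨h1 ⟨hz, h2 hz⟩, h2 hz⟩
    refine ⟨x, hx, hxA, h2, h3, ?_, hPH.relIndex_normalizer_of_not_le h ha₀ ha₀Z hx hxA⟩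
    rw [← h3]
    exact hPH.relIndex_ZS_inf h ha₀ ha₀Z hx hxA

end Cfsg.Agent.Helper83.AbIdx
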