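import Mathlib
import Cfsg.Agent.Lib.Helper83.AbIdxC

/-!
# Structure of a `p`-group with abelian subgroup `A` of index `p` when `|Z₂(S) : Z(S)| = p`
-/

set_option autoImplicit false

namespace Cfsg.Agent.Helper83.AbIdx

open Cfsg Cfsg.Agent.Helper87
open scoped commutatorElement

variable {Ω : Type*} [Group Ω] {p : ℕ} [hp : Fact p.Prime] {S A : Subgroup Ω} [Finite S]

/-- the derived subgroup of `S`, as a subgroup of `Ω` -/
abbrev DS (S : Subgroup Ω) : Subgroup Ω := (commutator ↥S).map S.subtype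

/-- the image of `δ`, as a subgroup of `Ω` -/
noncomputable abbrev Setting.R (h : Setting p S A) {x : Ω} (hx : x ∈ S) : Subgroup Ω :=
  (h.delta hx).range.map A.subtype

theorem Setting.mem_R (h : Setting p S A) {x : Ω} (hx : x ∈ S) {r : Ω} :
    r ∈ h.R hx ↔ ∃ a ∈ A, r = a * x * a⁻¹ * x⁻¹ := by
  constructor
  · rintro ⟨_, ⟨a, rfl⟩, rfl⟩
    exact ⟨a, a.2, rfl⟩
  · rintro ⟨a, ha, rfl⟩
    exact ⟨h.delta hx ⟨a, ha⟩, ⟨⟨a, ha⟩, rfl⟩, rfl⟩

theorem Setting.R_le (h : Setting p S A) {x : Ω} (hx : x ∈ S) : h.R hx ≤ A := by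
  rintro _ ⟨r, -, rfl⟩
  exact r.2

theorem Setting.le_normalizer_R (h : Setting p S A) {x : Ω} (hx : x ∈ S) (hxA : x ∉ A) :
    S ≤ Subgroup.normalizer (h.R hx : Set Ω) := by
  have hsup : A ⊔ Subgroup.zpowers x = S :=
    sup_zpowers_eq_of_relIndex_prime hp.out h.le h.idx hx hxA
  suffices hle : A ⊔ Subgroup.zpowers x ≤ Subgroup.normalizer (h.R hx : Set Ω) by
    intro s hs
    apply hle
    rw [hsup]
    exact hs
  apply sup_le
  · intro a ha
    rw [Subgroup.mem_normalizer_iff]
    intro r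
    have key : ∀ r ∈ A, a * r * a⁻¹ = r := by
      intro r hr
      rw [h.comm a ha r hr]; group
    constructor
    · intro hr
      rw [key r (h.R_le hx hr)]; exact hr
    · intro hr
      have hrA : r ∈ A := by
        have h1 := h.R_le hx hr
        have h2 := A.mul_mem (A.mul_mem (A.inv_mem ha) h1) ha
        have e : a⁻¹ * (a * r * a⁻¹) * a = r := by group
        rwa [e] at h2
      rw [key r hrA] at hr
      exact hr
  · rw [Subgroup.zpowers_le, Subgroup.mem_normalizer_iff]
    intro r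
    constructor
    · intro hr
      obtain ⟨a, ha, rfl⟩ := (h.mem_R hx).1 hr
      rw [h.mem_R]
      refine ⟨x * a * x⁻¹, h.conj_mem hx ha, ?_⟩
      group
    · intro hr
      obtain ⟨a, ha, e⟩ := (h.mem_R hx).1 hr
      rw [h.mem_R]
      refine ⟨x⁻¹ * a * x, h.conj_mem' hx ha, ?_⟩
      have : r = x⁻¹ * (x * r * x⁻¹) * x := by group
      rw [this, e]
      group

/-- `[S, S] = [A, x]` -/
theorem Setting.DS_eq (h : Setting p S A) {x : Ω} (hx : x ∈ S) (hxA : x ∉ A) :
    DS S = h.R hx := by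
  apply le_antisymm
  · -- `S / R` is commutative
    have hn : ((h.R hx).subgroupOf S).Normal :=
      Subgroup.normal_subgroupOf_of_le_normalizer (h.le_normalizer_R hx hxA)
    set π := QuotientGroup.mk' ((h.R hx).subgroupOf S) with hπ
    set k : Set (S ⧸ (h.R hx).subgroupOf S) := π '' ((A.subgroupOf S : Set S) ∪ {⟨x, hx⟩}) with hk
    have hcl : Subgroup.closure k = ⊤ := by
      rw [hk, ← MonoidHom.map_closure, Subgroup.closure_union, Subgroup.closure_eq,
        ← Subgroup.zpowers_eq_closure]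
      have h1 : (A.subgroupOf S) ⊔ Subgroup.zpowers (⟨x, hx⟩ : S) = ⊤ :=
        sup_zpowers_eq_of_relIndex_prime (H := S) hp.out (K := A.subgroupOf S) (L := ⊤)
          le_top (by rw [Subgroup.relIndex_top_right]; exact h.idx) (x := ⟨x, hx⟩) (Subgroup.mem_top _)
          (by rw [Subgroup.mem_subgroupOf]; exact hxA)
      rw [h1, ← MonoidHom.range_eq_map, MonoidHom.range_eq_top]
      exact QuotientGroup.mk'_surjective _
    have hax : ∀ a : S, (a : Ω) ∈ A → π a * π ⟨x, hx⟩ = π ⟨x, hx⟩ * π a := by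
      intro a ha
      rw [← map_mul, ← map_mul]
      rw [hπ, QuotientGroup.mk'_apply, QuotientGroup.mk'_apply, QuotientGroup.eq]
      rw [Subgroup.mem_subgroupOf, h.mem_R]
      refine ⟨x⁻¹ * (a : Ω)⁻¹ * x, h.conj_mem' hx (A.inv_mem ha), ?_⟩
      simp only [Subgroup.coe_mul, Subgroup.coe_inv, mul_inv_rev, inv_inv]
      group
    have hcomm : ∀ u ∈ k, ∀ w ∈ k, u * w = w * u := by
      rintro _ ⟨a, ha, rfl⟩ _ ⟨b, hb, rfl⟩
      rcases ha with ha | ha <;> rcases hb with hb | hb
      · rw [← map_mul, ← map_mul]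
        congr 1
        exact Subtype.ext (h.comm _ ha _ hb)
      · rw [Set.mem_singleton_iff] at hb
        rw [hb]; exact hax a ha
      · rw [Set.mem_singleton_iff] at ha
        rw [ha]; exact (hax b hb).symm
      · rw [Set.mem_singleton_iff] at ha hb
        rw [ha, hb]
    have hc := Subgroup.isMulCommutative_closure hcomm
    have hq : ∀ a b : S ⧸ (h.R hx).subgroupOf S, a * b = b * a := by
      intro a b
      have ha : a ∈ Subgroup.closure k := by rw [hcl]; trivial
      have hb : b ∈ Subgroup.closure k := by rw [hcl]; trivial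
      exact setLike_mul_comm ha hb
    have hle := commutator_le_of_quotient_comm ((h.R hx).subgroupOf S) hq
    rintro _ ⟨c, hc, rfl⟩
    exact hle hc
  · intro r hr
    obtain ⟨a, ha, rfl⟩ := (h.mem_R hx).1 hr
    refine ⟨⁅(⟨a, h.le ha⟩ : S), ⟨x, hx⟩⁆, commutatorElement_mem_commutator _ _, ?_⟩
    simp [commutatorElement_def]

section counting

variable (h : Setting p S A) {x : Ω} (hx : x ∈ S) (hxA : x ∉ A)

include hxA

theorem Setting.ZS_subgroupOf : (ZS S).subgroupOf A = (h.delta hx).ker := (h.delta_ker hx hxA).symm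

theorem Setting.DS_subgroupOf : (DS S).subgroupOf A = (h.delta hx).range := by
  rw [h.DS_eq hx hxA]
  exact Subgroup.comap_map_eq_self_of_injective (Subgroup.subtype_injective _) _

theorem Setting.Z2_subgroupOf : (Z2 S).subgroupOf A = (h.delta hx).ker.comap (h.delta hx) := by
  ext a
  rw [Subgroup.mem_subgroupOf, Subgroup.mem_comap, ← h.ZS_subgroupOf hx hxA, Subgroup.mem_subgroupOf,
    h.delta_apply]
  constructor
  · intro ha
    exact (mem_Z2_iff.1 ha).2 x hx
  · intro ha
    exact h.mem_Z2_of_comm a.2 hx hxA ha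

variable (hZ2A : Z2 S ≤ A) (hidx : (ZS S).relIndex (Z2 S) = p)

include h hx hZ2A hidx

theorem Setting.relIndex_ker_comap :
    (h.delta hx).ker.relIndex ((h.delta hx).ker.comap (h.delta hx)) = p := by
  rw [← h.Z2_subgroupOf hx hxA, ← h.ZS_subgroupOf hx hxA, Subgroup.relIndex_subgroupOf hZ2A]
  exact hidx

/-- `|Z(S) ∩ [S,S]| = p` -/
theorem Setting.card_ZS_inf_DS : Nat.card ↥(ZS S ⊓ DS S) = p := by
  have hle : ZS S ⊓ DS S ≤ A := inf_le_left.trans h.center_le
  have e1 : Nat.card ↥(ZS S ⊓ DS S) = Nat.card ↥((ZS S ⊓ DS S).subgroupOf A) :=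
    (Nat.card_congr (Subgroup.subgroupOfEquivOfLe hle).toEquiv).symm
  have e2 : (ZS S ⊓ DS S).subgroupOf A = (ZS S).subgroupOf A ⊓ (DS S).subgroupOf A := by
    ext y
    simp [Subgroup.mem_subgroupOf]
  rw [e1, e2, h.ZS_subgroupOf hx hxA, h.DS_subgroupOf hx hxA, inf_comm, ← Subgroup.map_comap_eq,
    ← Subgroup.relIndex_ker]
  exact h.relIndex_ker_comap hx hxA hZ2A hidx

/-- `|A : Z(S)[S,S]| = p` -/
theorem Setting.index_ZS_sup_DS : ((ZS S ⊔ DS S).subgroupOf A).index = p := by
  haveI : Finite A := finite_of_le h.le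
  have hDA : DS S ≤ A := by rw [h.DS_eq hx hxA]; exact h.R_le hx
  rw [Subgroup.subgroupOf_sup h.center_le hDA, h.ZS_subgroupOf hx hxA, h.DS_subgroupOf hx hxA]
  set δ := h.delta hx with hδ
  have h1 : δ.ker.relIndex (δ.ker ⊔ δ.range) * (δ.ker ⊔ δ.range).index = δ.ker.index :=
    Subgroup.relIndex_mul_index le_sup_left
  rw [Subgroup.relIndex_sup_left, ← Subgroup.inf_relIndex_right, Subgroup.index_ker] at h1
  have h2 : (δ.ker ⊓ δ.range).relIndex δ.range * Nat.card ↥(δ.ker ⊓ δ.range) = Nat.card δ.range := by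
    have := Subgroup.relIndex_mul_relIndex ⊥ (δ.ker ⊓ δ.range) δ.range bot_le inf_le_right
    rw [Subgroup.relIndex_bot_left, Subgroup.relIndex_bot_left] at this
    rw [mul_comm]; exact this
  have h3 : Nat.card ↥(δ.ker ⊓ δ.range) = p := by
    rw [inf_comm, ← Subgroup.map_comap_eq, ← Subgroup.relIndex_ker]
    exact h.relIndex_ker_comap hx hxA hZ2A hidx
  rw [h3, ← h1] at h2
  have hpos : 0 < (δ.ker ⊓ δ.range).relIndex δ.range := by
    apply Nat.pos_of_ne_zero
    intro h0
    rw [h0, zero_mul] at h1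
    have : 0 < Nat.card δ.range := Nat.card_pos
    omega
  exact (Nat.eq_of_mul_eq_mul_left hpos h2).symm

end counting

section maxclass

variable (h : Setting p S A) {x : Ω} (hx : x ∈ S)

/-- iterates of `δ` -/
noncomputable def Setting.iter : ℕ → (A →* A)
  | 0 => MonoidHom.id A
  | (i + 1) => (h.delta hx).comp (Setting.iter i)

theorem Setting.iter_zero : h.iter hx 0 = MonoidHom.id A := rfl

theorem Setting.iter_succ (i : ℕ) : h.iter hx (i + 1) = (h.delta hx).comp (h.iter hx i) := rfl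

theorem Setting.iter_mem_lcs (i : ℕ) (a : A) : ((h.iter hx i a : A) : Ω) ∈ S.lowerCentralSeries i := by
  induction i with
  | zero => exact h.le a.2
  | succ i ih =>
    rw [h.iter_succ, MonoidHom.comp_apply, h.delta_apply, Subgroup.lowerCentralSeries_succ]
    have := Subgroup.commutator_mem_commutator ih hx
    rwa [commutatorElement_def] at this

variable (hxA : x ∉ A) (hZ2A : Z2 S ≤ A) (hidx : (ZS S).relIndex (Z2 S) = p)

include hxA hZ2A hidx

theorem Setting.card_comap_iter_le (i : ℕ) :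
    Nat.card ↥((h.delta hx).ker.comap (h.iter hx i)) ≤ p ^ i * Nat.card (h.delta hx).ker := by
  haveI : Finite A := finite_of_le h.le
  set δ := h.delta hx with hδ
  induction i with
  | zero =>
    rw [h.iter_zero, pow_zero, one_mul]
    exact le_of_eq rfl
  | succ i ih =>
    have hK1 : δ.ker.relIndex (δ.ker.comap δ) = p := h.relIndex_ker_comap hx hxA hZ2A hidx
    have e1 : δ.ker.comap (h.iter hx (i + 1)) = (δ.ker.comap δ).comap (h.iter hx i) := by
      rw [h.iter_succ, Subgroup.comap_comap]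
    have hle : δ.ker.comap (h.iter hx i) ≤ (δ.ker.comap δ).comap (h.iter hx i) := by
      apply Subgroup.comap_mono
      intro z hz
      rw [Subgroup.mem_comap, MonoidHom.mem_ker.1 hz]
      exact Subgroup.one_mem _
    have h1 : (δ.ker.comap (h.iter hx i)).relIndex ((δ.ker.comap δ).comap (h.iter hx i)) ≤ p := by
      rw [Subgroup.relIndex_comap]
      have h2 : ((δ.ker.comap δ).comap (h.iter hx i)).map (h.iter hx i) ≤ δ.ker.comap δ :=
        Subgroup.map_comap_le _ _
      have h3 := Subgroup.relIndex_le_of_le_right (H := δ.ker) h2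
        (by rw [hK1]; exact hp.out.ne_zero)
      rw [hK1] at h3
      exact h3
    have h4 := Subgroup.relIndex_mul_relIndex ⊥ _ _ bot_le hle
    rw [Subgroup.relIndex_bot_left, Subgroup.relIndex_bot_left] at h4
    rw [e1, ← h4, pow_succ]
    calc Nat.card ↥(δ.ker.comap (h.iter hx i))
          * (δ.ker.comap (h.iter hx i)).relIndex ((δ.ker.comap δ).comap (h.iter hx i))
        ≤ (p ^ i * Nat.card δ.ker) * p := Nat.mul_le_mul ih h1
      _ = p ^ i * p * Nat.card δ.ker := by ring

include h hx in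
/-- `S / Z(S)` has maximal class -/
theorem Setting.not_lcs_le (m : ℕ) (hm : (ZS S).relIndex S = p ^ m) (hm2 : 2 ≤ m) :
    ¬ S.lowerCentralSeries (m - 2) ≤ ZS S := by
  haveI : Finite A := finite_of_le h.le
  intro hle
  set δ := h.delta hx with hδ
  have htop : δ.ker.comap (h.iter hx (m - 2)) = ⊤ := by
    rw [eq_top_iff]
    intro a _
    rw [Subgroup.mem_comap, hδ, ← h.ZS_subgroupOf hx hxA, Subgroup.mem_subgroupOf]
    exact hle (h.iter_mem_lcs hx _ a)
  have h1 := h.card_comap_iter_le hx hxA hZ2A hidx (m - 2)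
  rw [← hδ, htop, Subgroup.card_top] at h1
  have h2 : Nat.card δ.ker * δ.ker.index = Nat.card A := Subgroup.card_mul_index _
  have h3 : δ.ker.index = p ^ (m - 1) := by
    have e : δ.ker.index = (ZS S).relIndex A := by
      rw [hδ, ← h.ZS_subgroupOf hx hxA]
      rfl
    have h4 := Subgroup.relIndex_mul_relIndex (ZS S) A S h.center_le h.le
    rw [hm, h.idx] at h4
    rw [e]
    have h5 : p ^ m = p ^ (m - 1) * p := by
      rw [← pow_succ]
      congr 1
      omega
    rw [h5] at h4
    exact Nat.eq_of_mul_eq_mul_right hp.out.pos h4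
  rw [← h2, h3] at h1
  have hpos : 0 < Nat.card δ.ker := Nat.card_pos
  have h6 : p ^ (m - 1) ≤ p ^ (m - 2) := by
    have : Nat.card δ.ker * p ^ (m - 1) ≤ Nat.card δ.ker * p ^ (m - 2) := by
      rw [mul_comm (Nat.card δ.ker) (p ^ (m - 2))]
      exact h1
    exact Nat.le_of_mul_le_mul_left this hpos
  have h7 : p ^ (m - 2) < p ^ (m - 1) := Nat.pow_lt_pow_right hp.out.one_lt (by omega)
  omega

end maxclass

end Cfsg.Agent.Helper83.AbIdx
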