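import Mathlib
import Cfsg.Prelude.Def_FusionSystem
import Cfsg.Agent.Lib.Helper83.AbIdxF
import Cfsg.Agent.Lib.Helper83.AbIdxE
import Cfsg.Agent.Lib.Helper86.ChainStabilizer
import Cfsg.Agent.Lib.Helper87.FusionAlperin

set_option autoImplicit false

/-! Generic fusion-system lemmas used for the structure theorem over a `p`-group with an
abelian subgroup of index `p`: extension of automorphisms normalizing `Aut_S(P)`, a Frattini
decomposition, and the `p'`-argument for automorphisms of `S` acting on `Z(S)`. -/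

namespace Cfsg.Agent.Helper83.AbIdx

open Cfsg Cfsg.FusionSystem Cfsg.Agent.Helper87

variable {Ω : Type*} [Group Ω] {S : Subgroup Ω} {F : FusionSystem S}

/-- automorphisms of `S` in the system preserve `Z(S)` -/
theorem ZS_map_mem {β : Ω → Ω} (hβ : Iso F S S β) {z : Ω} (hz : z ∈ ZS S) : β z ∈ ZS S := by
  rw [mem_ZS_iff] at hz ⊢
  refine ⟨hβ.map_mem hz.1, fun s hs => ?_⟩
  obtain ⟨s', hs', rfl⟩ := hβ.surj hs
  rw [← hβ.1.map_mul hs' hz.1, ← hβ.1.map_mul hz.1 hs', hz.2 s' hs']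

/-- automorphisms of `S` in the system preserve `[S,S]` -/
theorem DS_map_mem {β : Ω → Ω} (hβ : Iso F S S β) {d : Ω} (hd : d ∈ DS S) : β d ∈ DS S := by
  obtain ⟨d', hd', rfl⟩ := hd
  have hchar : (commutator ↥S).Characteristic := inferInstance
  have h1 := (Subgroup.characteristic_iff_map_le.1 hchar) hβ.equiv
  have h2 : hβ.equiv d' ∈ commutator ↥S := h1 ⟨d', hd', rfl⟩
  refine ⟨hβ.equiv d', h2, ?_⟩
  exact hβ.equiv_apply d'

/-- the invariance form used by the normality criterion -/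
theorem map_subgroupOf_eq_of_forall {P Q : Subgroup Ω} {G : Subgroup (MulAut P)}
    (h : ∀ α ∈ G, ∀ q : P, (q : Ω) ∈ Q → ((α q : P) : Ω) ∈ Q) {α : MulAut P} (hα : α ∈ G) :
    (Q.subgroupOf P).map α.toMonoidHom = Q.subgroupOf P := by
  apply le_antisymm
  · rintro _ ⟨q, hq, rfl⟩
    exact h α hα q hq
  · intro q hq
    refine ⟨α⁻¹ q, h α⁻¹ (G.inv_mem hα) q hq, ?_⟩
    show α (α⁻¹ q) = q
    rw [MulAut.apply_inv_self]

/-- an automorphism of a fully normalized subgroup normalizing `Aut_S(P)` extends to `N_S(P)` -/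
theorem exists_ext_of_normalizes {p : ℕ} [Fact p.Prime] [Finite S] (hS : IsPGroup p S)
    (hF : F.IsSaturated p) {P : Subgroup Ω} (hfn : F.IsFullyNormalized P) {ν : MulAut P}
    (hν : ν ∈ F.autGroup P)
    (hnorm : ∀ t ∈ autInducedBy S P, ν * t * ν⁻¹ ∈ autInducedBy S P) :
    ∃ ψ, Mor F (normalizerIn S P) ψ ∧ ∀ x ∈ P, ψ x = extAut ν x := by
  have hrec := receptive_of_fullyNormalized hS hF hfn
  obtain ⟨hPS, hext⟩ := isReceptive_iff.1 hrec
  have hiso : Iso F P P (extAut ν) := iso_of_mor_extAut ((mem_autGroup_iff hPS).1 hν)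
  obtain ⟨g, hg, hge⟩ := hext P (extAut ν) hiso
  have hle : normalizerIn S P ≤ hiso.ext := by
    rintro n ⟨hnS, hnN⟩
    have ht : conjAut P n hnN ∈ autInducedBy S P := conjAut_mem_autInducedBy hnS hnN
    obtain ⟨k, hk, e⟩ := mem_autInducedBy_iff.1 (hnorm _ ht)
    refine ⟨hnS, hnN, k, hk, fun x hx => ?_⟩
    have hx' : n * x * n⁻¹ ∈ P := (Subgroup.mem_normalizer_iff.1 hnN x).1 hx
    have e1 := e (ν ⟨x, hx⟩)
    have e2 : (ν * conjAut P n hnN * ν⁻¹) (ν ⟨x, hx⟩) = ν (conjAut P n hnN ⟨x, hx⟩) := by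
      show ν (conjAut P n hnN (ν⁻¹ (ν ⟨x, hx⟩))) = _
      rw [MulAut.inv_apply_self]
    rw [e2] at e1
    have e3 : conjAut P n hnN ⟨x, hx⟩ = ⟨n * x * n⁻¹, hx'⟩ := by
      apply Subtype.ext
      rw [conjAut_apply]
    rw [e3] at e1
    rw [extAut_mem ν hx', extAut_mem ν hx]
    exact e1
  exact ⟨g, hg.restrict hle, hge⟩

/-- Frattini decomposition relative to a normal subgroup containing a Sylow subgroup -/
theorem exists_frattini_decomp {G₀ : Type*} [Group G₀] {p : ℕ} [Fact p.Prime] {T K G : Subgroup G₀}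
    [Finite G] (hT : Cfsg.Agent.Helper84.IsSylIn p T G) (hTK : T ≤ K) (hKG : K ≤ G)
    (hKn : ∀ g ∈ G, ∀ k ∈ K, g * k * g⁻¹ ∈ K) {α : G₀} (hα : α ∈ G) :
    ∃ k ∈ K, ∃ ν ∈ G, α = k * ν ∧ ∀ t ∈ T, ν * t * ν⁻¹ ∈ T := by
  have : Finite K := Finite.of_injective (Subgroup.inclusion hKG) (Subgroup.inclusion_injective hKG)
  have h1 : Cfsg.Agent.Helper84.IsSylIn p (T.map (MulAut.conj α).toMonoidHom) G := by
    have := hT.map_conj α
    rwa [Cfsg.Agent.Helper84.map_conj_eq_self_of_mem hα] at this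
  have hT'K : T.map (MulAut.conj α).toMonoidHom ≤ K := by
    rintro _ ⟨t, ht, rfl⟩
    exact hKn α hα t (hTK ht)
  have h2 := hT.of_le hTK hKG
  have h3 := h1.of_le hT'K hKG
  obtain ⟨k, hk, e⟩ := h2.exists_conj h3
  refine ⟨k, hk, k⁻¹ * α, G.mul_mem (G.inv_mem (hKG hk)) hα, by group, fun t ht => ?_⟩
  have h4 : α * t * α⁻¹ ∈ T.map (MulAut.conj α).toMonoidHom := ⟨t, ht, rfl⟩
  rw [e] at h4
  obtain ⟨t₁, ht₁, e1⟩ := h4
  have e2 : k * t₁ * k⁻¹ = α * t * α⁻¹ := e1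
  have e3 : k⁻¹ * α * t * (k⁻¹ * α)⁻¹ = k⁻¹ * (α * t * α⁻¹) * k := by group
  rw [e3, ← e2]
  have e4 : k⁻¹ * (k * t₁ * k⁻¹) * k = t₁ := by group
  rw [e4]
  exact ht₁

/-- `Inn(S) = Aut_S(S)` is normal in `Aut(S)` -/
theorem autInducedBy_self_normal : (autInducedBy S S).Normal := by
  constructor
  intro t ht g
  obtain ⟨s, hs, e⟩ := mem_autInducedBy_iff.1 ht
  rw [mem_autInducedBy_iff]
  refine ⟨(g ⟨s, hs⟩ : S), (g ⟨s, hs⟩).2, fun x => ?_⟩
  have e1 : (g * t * g⁻¹) x = g (t (g⁻¹ x)) := rfl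
  have e2 : t (g⁻¹ x) = ⟨s, hs⟩ * g⁻¹ x * ⟨s, hs⟩⁻¹ := by
    apply Subtype.ext
    rw [e]
    rfl
  rw [e1, e2, map_mul, map_mul, map_inv, MulAut.apply_inv_self]
  rfl

/-- the `p'`-argument: an automorphism of `S` in the system acting unipotently on `Z(S)` (trivially
on `Z₀` of exponent `p` and on `Z(S)/Z₀`) acts trivially on `Z(S)` -/
theorem fix_of_unipotent {p : ℕ} [hp : Fact p.Prime] [Finite S] (hS : IsPGroup p S)
    (hF : F.IsSaturated p) {γ : MulAut S} (hγ : γ ∈ F.autGroup S) {Z₀ : Subgroup Ω}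
    (hexp : ∀ d ∈ Z₀, d ^ p = 1)
    (hfix : ∀ d : S, (d : Ω) ∈ Z₀ → γ d = d)
    (hmod : ∀ z : S, (z : Ω) ∈ ZS S → ((z⁻¹ * γ z : S) : Ω) ∈ Z₀) :
    ∀ z : S, (z : Ω) ∈ ZS S → γ z = z := by
  intro z hz
  have hfa := fullyAutomized_of_fullyNormalized hS hF (fullyNormalized_self F)
  have hsyl := ((Cfsg.Agent.Helper84.fullyAutomized_iff F S).1 hfa).2
  obtain ⟨hTG, -, hndvd⟩ := hsyl
  set m := (autInducedBy S S).relIndex (F.autGroup S) with hm
  -- `γ ^ m` is inner, hence trivial on the centre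
  have h1 : (γ ^ m) z = z := by
    have : ((autInducedBy S S).subgroupOf (F.autGroup S)).Normal :=
      (autInducedBy_self_normal (S := S)).subgroupOf _
    have h2 := Subgroup.pow_index_mem ((autInducedBy S S).subgroupOf (F.autGroup S))
      (⟨γ, hγ⟩ : F.autGroup S)
    rw [Subgroup.mem_subgroupOf] at h2
    have h3 : γ ^ m ∈ autInducedBy S S := h2
    obtain ⟨s, hs, e⟩ := mem_autInducedBy_iff.1 h3
    apply Subtype.ext
    rw [e]
    have := (mem_ZS_iff.1 hz).2 s hs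
    rw [this, mul_inv_cancel_right]
  -- `γ ^ p` is trivial on the centre
  have h2 : (γ ^ p) z = z := by
    have e1 : γ z = z * (z⁻¹ * γ z) := by group
    have e2 : γ (z⁻¹ * γ z) = z⁻¹ * γ z := hfix _ (hmod z hz)
    have e3 := Cfsg.Agent.Helper86.aut_pow_apply_eq γ z (z⁻¹ * γ z) e1 e2 p
    rw [e3]
    have e4 : (z⁻¹ * γ z) ^ p = 1 := by
      apply Subtype.ext
      rw [Subgroup.coe_pow, Subgroup.coe_one]
      exact hexp _ (hmod z hz)
    rw [e4, mul_one]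
  have hcop : Nat.Coprime p m := (Nat.Prime.coprime_iff_not_dvd hp.out).2 hndvd
  have hb : ((Nat.gcd p m : ℕ) : ℤ) = (p : ℤ) * Int.gcdA p m + (m : ℤ) * Int.gcdB p m :=
    Int.gcd_eq_gcd_ab p m
  rw [hcop.gcd_eq_one] at hb
  have hst1 : γ ^ p ∈ MulAction.stabilizer (MulAut S) z := MulAction.mem_stabilizer_iff.2 h2
  have hst2 : γ ^ m ∈ MulAction.stabilizer (MulAut S) z := MulAction.mem_stabilizer_iff.2 h1
  have hγe : γ = (γ ^ p) ^ (Int.gcdA p m) * (γ ^ m) ^ (Int.gcdB p m) := by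
    rw [← zpow_natCast, ← zpow_natCast, ← zpow_mul, ← zpow_mul, ← zpow_add, ← hb]
    simp
  have hst : γ ∈ MulAction.stabilizer (MulAut S) z := by
    rw [hγe]
    exact Subgroup.mul_mem _ (Subgroup.zpow_mem _ hst1 _) (Subgroup.zpow_mem _ hst2 _)
  exact MulAction.mem_stabilizer_iff.1 hst

end Cfsg.Agent.Helper83.AbIdx
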