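import Mathlib
import Cfsg.Prelude.Def_FusionSystem
import Cfsg.Agent.Lib.Helper83.AbIdxG
import Cfsg.Agent.Lib.Helper87.EssData

set_option autoImplicit false

/-! The abelian essential subgroups `P = Z(S)⟨x⟩` over a `p`-group with an abelian subgroup of
index `p`: the `SL₂(p)`-like action of `Aut_F(P)` gives a decomposition `Z(S) = Z₀ × W` with `W`
invariant under `Aut_F(P)` and an automorphism inverting `Z₀`, centralizing `W` and normalizing
`Aut_S(P)`. -/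

namespace Cfsg.Agent.Helper83.AbIdx

open Cfsg Cfsg.FusionSystem Cfsg.Agent.Helper87
open scoped commutatorElement IsMulCommutative

section abstract

variable {R : Type*} [CommGroup R] [Finite R] {p : ℕ} [hp : Fact p.Prime]

/-- summary of the structure given by two non-commuting transvection groups -/
theorem pair_summary (hR : IsPGroup p R) {G : Subgroup (MulAut R)}
    (hG : ∀ Q : Subgroup (MulAut R), Q ≤ G → IsPGroup p Q → Nat.card Q ≤ p)
    {a g : MulAut R} (ha : IsTransv p a) (haG : a ∈ G) (hgG : g ∈ G)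
    (hab : g * a * g⁻¹ ∉ Subgroup.zpowers a) :
    ∃ (W : Subgroup R) (h : MulAut R), h ∈ G ∧ h * a = a * h ∧ W ≤ fixedSub a ∧
      (∀ z ∈ fixedSub a, ∃ ℓ ∈ commSub a, ∃ w ∈ W, z = ℓ * w) ∧
      (∀ w ∈ W, h w = w) ∧ (∀ ℓ ∈ commSub a, h ℓ = ℓ⁻¹) ∧
      (∀ α ∈ G, ∀ w ∈ W, α w ∈ W) := by
  have hbT : IsTransv p (g * a * g⁻¹) := ha.conj g
  have hbG : g * a * g⁻¹ ∈ G := G.mul_mem (G.mul_mem hgG haG) (G.inv_mem hgG)
  have hba := not_mem_zpowers_symm ha hbT hab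
  obtain ⟨h, hh, hW, hV, hcomm⟩ := exists_inverting hR hG ha hbT haG hbG hab
  refine ⟨fixedSub a ⊓ fixedSub (g * a * g⁻¹), h, ?_, hcomm, inf_le_left, ?_, hW, ?_, ?_⟩
  · have hle : Subgroup.closure ({a, g * a * g⁻¹} : Set (MulAut R)) ≤ G := by
      rw [Subgroup.closure_le]
      rintro x (rfl | rfl)
      exacts [haG, hbG]
    exact hle hh
  · intro z hz
    have hz' : z ∈ commSub a ⊔ (fixedSub a ⊓ fixedSub (g * a * g⁻¹)) := by
      rw [← fixedSub_eq_sup hR hG ha hbT haG hbG hab]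
      exact hz
    obtain ⟨ℓ, hℓ, w, hw, e⟩ := Subgroup.mem_sup.1 hz'
    exact ⟨ℓ, hℓ, w, hw, e.symm⟩
  · intro ℓ hℓ
    exact hV ℓ (Subgroup.mem_sup_left hℓ)
  · intro α hα w hw
    refine ⟨map_mem_fixedSub_of_mem_inf hR hG ha hbT haG hbG hab hα hw, ?_⟩
    exact map_mem_fixedSub_of_mem_inf hR hG hbT ha hbG haG hba hα ⟨hw.2, hw.1⟩

end abstract

variable {Ω : Type*} [Group Ω] {S A P : Subgroup Ω} [Finite S] {p : ℕ} [hp : Fact p.Prime]
  {F : FusionSystem S}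

omit [Finite S] hp in
/-- commutators of elements of `S` lie in `[S,S]` -/
theorem comm_mem_DS {u v : Ω} (hu : u ∈ S) (hv : v ∈ S) : u * v * u⁻¹ * v⁻¹ ∈ DS S := by
  refine ⟨⁅(⟨u, hu⟩ : S), ⟨v, hv⟩⁆, commutatorElement_mem_commutator _ _, ?_⟩
  rw [commutatorElement_def]
  rfl

/-- `P = Z(S)⟨x⟩` is abelian -/
theorem comm_of_inf_eq (h : Setting p S A) (hPS : P ≤ S) {x : Ω} (hx : x ∈ P) (hxA : x ∉ A)
    (hinf : P ⊓ A = ZS S) : ∀ u ∈ P, ∀ w ∈ P, u * w = w * u := by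
  intro u hu w hw
  obtain ⟨a, ha, k, rfl⟩ := h.decomp_in hPS hx hxA hu
  obtain ⟨b, hb, l, rfl⟩ := h.decomp_in hPS hx hxA hw
  rw [hinf] at ha hb
  have ha' := (mem_ZS_iff.1 ha).2
  have hb' := (mem_ZS_iff.1 hb).2
  have hxS : x ∈ S := hPS hx
  have h1 : x ^ k * b = b * x ^ k := hb' _ (S.zpow_mem hxS k)
  have h2 : x ^ l * a = a * x ^ l := ha' _ (S.zpow_mem hxS l)
  have h3 : a * b = b * a := (hb' a ha.1)
  have hkl : x ^ k * x ^ l = x ^ l * x ^ k := by rw [← zpow_add, ← zpow_add, add_comm]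
  calc a * x ^ k * (b * x ^ l) = a * (x ^ k * b) * x ^ l := by group
    _ = a * (b * x ^ k) * x ^ l := by rw [h1]
    _ = (a * b) * (x ^ k * x ^ l) := by group
    _ = (b * a) * (x ^ l * x ^ k) := by rw [h3, hkl]
    _ = b * (a * x ^ l) * x ^ k := by group
    _ = b * (x ^ l * a) * x ^ k := by rw [h2]
    _ = b * x ^ l * (a * x ^ k) := by group

/-- `|P| = p |Z(S)|` for `P = Z(S)⟨x⟩` -/
theorem card_of_inf_eq (h : Setting p S A) (hPS : P ≤ S) {x : Ω} (hx : x ∈ P) (hxA : x ∉ A)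
    (hinf : P ⊓ A = ZS S) : Nat.card P = p * Nat.card (ZS S) := by
  have hPA : ¬ P ≤ A := fun hle => hxA (hle hx)
  have h1 := h.relIndex_of_not_le hPS hPA
  have h2 : (A.subgroupOf P).index = p := h1
  have h3 := Subgroup.card_mul_index (A.subgroupOf P)
  rw [h2] at h3
  have h4 : A.subgroupOf P = (ZS S).subgroupOf P := by
    rw [← hinf, Subgroup.inf_subgroupOf_left]
  have hle : ZS S ≤ P := by rw [← hinf]; exact inf_le_left
  have h5 : Nat.card ((ZS S).subgroupOf P) = Nat.card (ZS S) :=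
    Nat.card_congr (Subgroup.subgroupOfEquivOfLe hle).toEquiv
  rw [h4, h5] at h3
  rw [← h3, mul_comm]

/-- the data attached to an abelian essential subgroup `P = Z(S)⟨x⟩` -/
theorem typeH_package (hS : IsPGroup p S) (hF : F.IsSaturated p) (h : Setting p S A)
    (hP : F.IsEssential p P) {x : Ω} (hx : x ∈ P) (hxA : x ∉ A) (hinf : P ⊓ A = ZS S)
    (hidx : P.relIndex (S ⊓ Subgroup.normalizer (P : Set Ω)) = p)
    (hcard : Nat.card ↥(ZS S ⊓ DS S) = p) :
    ∃ (W : Subgroup Ω) (hh : MulAut P), W ≤ ZS S ∧ hh ∈ F.autGroup P ∧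
      (∀ t ∈ autInducedBy S P, hh * t * hh⁻¹ ∈ autInducedBy S P) ∧
      (∀ z ∈ ZS S, ∃ ℓ ∈ ZS S ⊓ DS S, ∃ w ∈ W, z = ℓ * w) ∧
      (∀ w ∈ W, extAut hh w = w) ∧ (∀ ℓ ∈ ZS S ⊓ DS S, extAut hh ℓ = ℓ⁻¹) ∧
      (∀ α ∈ F.autGroup P, ∀ w ∈ W, extAut α w ∈ W) := by
  have hPH := pHyp_of_essential hS hF hP
  obtain ⟨hne, hsyl, -⟩ := essential_key hS hF hP
  have hE := essData hS hF hP
  have hPS := hPH.le
  have hxS : x ∈ S := hPS hx
  have hZP : ZS S ≤ P := by rw [← hinf]; exact inf_le_left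
  have : Finite P := finite_of_le hPS
  have : Finite (MulAut P) :=
    Finite.of_injective (fun e : MulAut P => (e : P → P)) DFunLike.coe_injective
  have hcomm := comm_of_inf_eq h hPS hx hxA hinf
  have : IsMulCommutative ↥P := ⟨⟨fun u w => Subtype.ext (hcomm u u.2 w w.2)⟩⟩
  have hInn : ∀ τ : MulAut P, τ ∈ Inn P → τ = 1 := by
    rintro _ ⟨g, rfl⟩
    ext y
    simp only [MulAut.conj_apply, MulAut.one_apply, Subgroup.coe_mul, Subgroup.coe_inv]
    rw [hcomm g g.2 y y.2]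
    group
  have hcardT : Nat.card (autInducedBy S P) = p := by
    rw [card_autInducedBy_of_comm hPS hcomm hPH.cen]
    exact hidx
  -- an element of `A` normalizing `P` outside `P`
  obtain ⟨a₀, ha₀A, ha₀S, ha₀N, ha₀P⟩ : ∃ a₀ ∈ A, a₀ ∈ S ∧ a₀ ∈ Subgroup.normalizer (P : Set Ω) ∧
      a₀ ∉ P := by
    obtain ⟨n, hn, hnP⟩ := exists_normalizer_not_mem hS hPS hne
    obtain ⟨a, ha, k, rfl⟩ := h.decomp hxS hxA hn.1
    have hxk : x ^ k ∈ P := P.zpow_mem hx k
    have e : a = a * x ^ k * (x ^ k)⁻¹ := by group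
    refine ⟨a, ha, h.le ha, ?_, ?_⟩
    · rw [e]
      exact Subgroup.mul_mem _ hn.2 (Subgroup.inv_mem _ (Subgroup.le_normalizer hxk))
    · intro haP
      exact hnP (P.mul_mem haP hxk)
  set τ := conjAut P a₀ ha₀N with hτdef
  have hτT : τ ∈ autInducedBy S P := conjAut_mem_autInducedBy ha₀S ha₀N
  have hτG : τ ∈ F.autGroup P := autInducedBy_le_autGroup F hPS hτT
  have hfixed : fixedSub (R := ↥P) τ = (ZS S).subgroupOf P := by
    ext r
    rw [mem_fixedSub, Subgroup.mem_subgroupOf]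
    constructor
    · intro hr
      have h1 : a₀ * (r : Ω) * a₀⁻¹ = r := by
        have := congrArg Subtype.val hr
        rwa [conjAut_apply] at this
      have h2 : a₀ * (r : Ω) = r * a₀ := by
        calc a₀ * (r : Ω) = (a₀ * r * a₀⁻¹) * a₀ := by group
          _ = r * a₀ := by rw [h1]
      by_cases hrA : (r : Ω) ∈ A
      · rw [← hinf]
        exact ⟨r.2, hrA⟩
      · exfalso
        exact ha₀P (hZP (h.mem_center_of_comm ha₀A (hPS r.2) hrA h2))
    · intro hz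
      apply Subtype.ext
      rw [conjAut_apply]
      have := (mem_ZS_iff.1 hz).2 a₀ ha₀S
      rw [this]
      group
  have hτ : IsTransv p τ := by
    refine ⟨?_, ?_, ?_⟩
    · intro h1
      apply ha₀P
      apply hPH.cen a₀ ha₀S
      intro y hy
      have h2 : a₀ * y * a₀⁻¹ = y := by
        have h3 : ((τ ⟨y, hy⟩ : P) : Ω) = y := by rw [h1]; rfl
        rwa [hτdef, conjAut_apply] at h3
      calc a₀ * y = (a₀ * y * a₀⁻¹) * a₀ := by group
        _ = y * a₀ := by rw [h2]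
    · rw [hfixed]
      have hPA : ¬ P ≤ A := fun hle => hxA (hle hx)
      have h1 : (ZS S).subgroupOf P = A.subgroupOf P := by
        rw [← hinf, Subgroup.inf_subgroupOf_left]
      rw [h1]
      exact h.relIndex_of_not_le hPS hPA
    · rw [hfixed]
      rintro _ ⟨r, rfl⟩
      rw [Subgroup.mem_subgroupOf, ← hinf]
      refine ⟨(Helper87.commHom τ r).2, ?_⟩
      have h1 := h.comm_mem (S.inv_mem (hPS r.2)) ha₀S
      rw [inv_inv] at h1
      have h2 : ((Helper87.commHom τ r : P) : Ω) = (r : Ω)⁻¹ * a₀ * r * a₀⁻¹ := by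
        rw [Helper87.commHom_apply, Subgroup.coe_mul, conjAut_apply, Subgroup.coe_inv]
        group
      rw [h2]
      exact h1
  have hR : IsPGroup p ↥P :=
    hS.of_injective (Subgroup.inclusion hPS) (Subgroup.inclusion_injective hPS)
  have hG : ∀ Q : Subgroup (MulAut P), Q ≤ F.autGroup P → IsPGroup p Q → Nat.card Q ≤ p := by
    intro Q hQ hQp
    exact (hsyl.card_le hQ hQp).trans_eq hcardT
  obtain ⟨g, hgG, htw⟩ := hE.twist
  have hab : g * τ * g⁻¹ ∉ Subgroup.zpowers τ := by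
    intro hmem
    have h1 : g * τ * g⁻¹ ∈ autInducedBy S P := (Subgroup.zpowers_le.2 hτT) hmem
    exact hτ.ne_one (hInn τ (htw τ hτT h1))
  obtain ⟨W, hh, hhG, hcomm', hWle, hdec, hWfix, hinv, hWinv⟩ :=
    pair_summary hR hG hτ hτG hgG hab
  -- `Aut_S(P)` is generated by `τ`
  have hTeq : Subgroup.zpowers τ = autInducedBy S P := by
    apply Subgroup.eq_of_le_of_card_ge (Subgroup.zpowers_le.2 hτT)
    rw [hcardT, Nat.card_zpowers, hτ.orderOf_eq]
  -- `[P, τ] = Z(S) ∩ [S,S]`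
  have hcommSub : (commSub τ).map P.subtype = ZS S ⊓ DS S := by
    have : Finite ↥(ZS S ⊓ DS S) := finite_of_le (inf_le_left.trans inf_le_left)
    apply Subgroup.eq_of_le_of_card_ge
    · rintro _ ⟨_, ⟨r, rfl⟩, rfl⟩
      have h2 : ((Helper87.commHom τ r : P) : Ω) = (r : Ω)⁻¹ * a₀ * r * a₀⁻¹ := by
        rw [Helper87.commHom_apply, Subgroup.coe_mul, conjAut_apply, Subgroup.coe_inv]
        group
      refine ⟨?_, ?_⟩
      · have h3 : Helper87.commHom τ r ∈ fixedSub τ := hτ.le (Helper87.commHom_mem_commSub τ r)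
        rw [hfixed, Subgroup.mem_subgroupOf] at h3
        exact h3
      · show ((Helper87.commHom τ r : P) : Ω) ∈ DS S
        rw [h2]
        have h4 := comm_mem_DS (S.inv_mem (hPS r.2)) ha₀S
        rwa [inv_inv] at h4
    · rw [hcard, Subgroup.card_map_of_injective P.subtype_injective, hτ.card_commSub]
  refine ⟨W.map P.subtype, hh, ?_, hhG, ?_, ?_, ?_, ?_, ?_⟩
  · rintro _ ⟨w, hw, rfl⟩
    have h1 := hWle hw
    rw [hfixed, Subgroup.mem_subgroupOf] at h1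
    exact h1
  · intro t ht
    rw [← hTeq] at ht ⊢
    obtain ⟨k, rfl⟩ := Subgroup.mem_zpowers_iff.1 ht
    have hc : Commute hh τ := hcomm'
    have h1 : hh * τ ^ k = τ ^ k * hh := hc.zpow_right k
    have h2 : hh * τ ^ k * hh⁻¹ = τ ^ k := by rw [h1, mul_inv_cancel_right]
    rw [h2]
    exact Subgroup.zpow_mem _ (Subgroup.mem_zpowers τ) k
  · intro z hz
    have hzP : z ∈ P := hZP hz
    have h1 : (⟨z, hzP⟩ : P) ∈ fixedSub τ := by
      rw [hfixed, Subgroup.mem_subgroupOf]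
      exact hz
    obtain ⟨ℓ, hℓ, w, hw, e⟩ := hdec _ h1
    refine ⟨(ℓ : Ω), ?_, (w : Ω), ⟨w, hw, rfl⟩, ?_⟩
    · rw [← hcommSub]
      exact ⟨ℓ, hℓ, rfl⟩
    · have := congrArg Subtype.val e
      rwa [Subgroup.coe_mul] at this
  · rintro _ ⟨w, hw, rfl⟩
    show extAut hh ((w : P) : Ω) = w
    rw [extAut_apply, hWfix w hw]
  · intro ℓ hℓ
    rw [← hcommSub] at hℓ
    obtain ⟨ℓ', hℓ', rfl⟩ := hℓ
    show extAut hh ((ℓ' : P) : Ω) = ((ℓ' : P) : Ω)⁻¹
    rw [extAut_apply, hinv ℓ' hℓ', Subgroup.coe_inv]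
  · rintro α hα _ ⟨w, hw, rfl⟩
    show extAut α ((w : P) : Ω) ∈ W.map P.subtype
    rw [extAut_apply]
    exact ⟨α w, hWinv α hα w hw, rfl⟩

end Cfsg.Agent.Helper83.AbIdx
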