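import Mathlib
import Cfsg.Prelude.Def_FusionSystem
import Cfsg.Agent.Lib.Helper83.AbIdxH
import Cfsg.Agent.Lib.Helper84.FusAlp2

set_option autoImplicit false

/-! Tracking the action on `Z(S)`: over a `p`-group `S` with an abelian subgroup `A` of index `p`
which is not essential, every morphism whose source contains `Z(S)` and has order larger than
`p |Z(S)|` acts on `Z(S)` like an automorphism of `S` in the system. -/

namespace Cfsg.Agent.Helper83.AbIdx

open Cfsg Cfsg.FusionSystem Cfsg.Agent.Helper87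

variable {Ω : Type*} [Group Ω] {S A : Subgroup Ω} [Finite S] {p : ℕ} [hp : Fact p.Prime]
  {F : FusionSystem S}

omit [Finite S] hp in
theorem card_lt_of_not_mem {R Q : Subgroup Ω} [Finite Q] (hle : R ≤ Q) {n : Ω} (hn : n ∈ Q)
    (hnR : n ∉ R) : Nat.card R < Nat.card Q := by
  apply lt_of_le_of_ne (Subgroup.card_le_of_le hle)
  intro he
  have := Subgroup.eq_of_le_of_card_ge hle he.ge
  exact hnR (this ▸ hn)

/-- the tracking predicate -/
def Track (F : FusionSystem S) (p : ℕ) (P : Subgroup Ω) (f : Ω → Ω) : Prop :=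
  ZS S ≤ P → p * Nat.card (ZS S) < Nat.card P → ∃ γ, Iso F S S γ ∧ ∀ z ∈ ZS S, f z = γ z

omit hp in
theorem track_closed : AlperinClosed F (Track F p) := by
  refine ⟨?_, ?_, ?_⟩
  · intro P f f' hC hff hZ hc
    obtain ⟨γ, hγ, e⟩ := hC hZ hc
    exact ⟨γ, hγ, fun z hz => by rw [← hff z (hZ hz)]; exact e z hz⟩
  · intro P Q f hf hC hQP hZ hc
    have : Finite P := finite_of_le hf.le
    have hle : Nat.card Q ≤ Nat.card P := Subgroup.card_le_of_le hQP
    exact hC (hZ.trans hQP) (lt_of_lt_of_le hc hle)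
  · intro P Q f g hf hg hPQ hCf hCg hZ hc
    obtain ⟨γ₁, hγ₁, e₁⟩ := hCf hZ hc
    obtain ⟨γ', hγ', hl, hr⟩ := hγ₁.symm
    have : Finite Q := finite_of_le hg.le
    have hZQ : ZS S ≤ Q := by
      intro z hz
      have hz' := ZS_map_mem hγ' hz
      have h1 : f (γ' z) = z := by rw [e₁ _ hz', hr z hz.1]
      rw [← h1]
      exact hPQ _ (hZ hz')
    have hcard : Nat.card P ≤ Nat.card Q := by
      rw [(Iso.of_mor hf).card_eq]
      apply Subgroup.card_le_of_le
      intro y hy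
      obtain ⟨x, hx, rfl⟩ := (hf.mem_image).1 hy
      exact hPQ x hx
    obtain ⟨γ₂, hγ₂, e₂⟩ := hCg hZQ (lt_of_lt_of_le hc hcard)
    refine ⟨fun x => γ₂ (γ₁ x), hγ₁.comp hγ₂, fun z hz => ?_⟩
    show g (f z) = γ₂ (γ₁ z)
    rw [e₁ z hz, e₂ _ (ZS_map_mem hγ₁ hz)]

/-- for an essential subgroup `R = Z₂(S)⟨x⟩`, every automorphism of `R` preserves `Z(S) = Z(R)` -/
theorem ZS_invariant_of_typeB (hS : IsPGroup p S) (hF : F.IsSaturated p) (h : Setting p S A)
    {R : Subgroup Ω} (hess : F.IsEssential p R) {x : Ω} (hx : x ∈ R) (hxA : x ∉ A)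
    (hinf2 : R ⊓ A = Z2 S) (hrel : (ZS S).relIndex (Z2 S) = p) :
    ∀ β : MulAut R, ∀ z : R, (z : Ω) ∈ ZS S → ((β z : R) : Ω) ∈ ZS S := by
  have hPH := pHyp_of_essential hS hF hess
  obtain ⟨a₀, ha₀, ha₀Z⟩ : ∃ a₀ ∈ Z2 S, a₀ ∉ ZS S := by
    by_contra hcon
    push Not at hcon
    have h1 : (ZS S).relIndex (Z2 S) = 1 := Subgroup.relIndex_eq_one.2 hcon
    rw [hrel] at h1
    exact hp.out.one_lt.ne' h1
  have ha₀RA : a₀ ∈ R ⊓ A := by rw [hinf2]; exact ha₀
  intro β z hz
  apply hPH.center_le h ha₀RA ha₀Z hx hxA (β z).2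
  intro y hy
  have hy' : y = ((β (β⁻¹ ⟨y, hy⟩) : R) : Ω) := by rw [MulAut.apply_inv_self]
  have hzy : z * β⁻¹ ⟨y, hy⟩ = β⁻¹ ⟨y, hy⟩ * z :=
    Subtype.ext ((mem_ZS_iff.1 hz).2 _ (hPH.le (β⁻¹ ⟨y, hy⟩).2)).symm
  have h1 : β z * β (β⁻¹ ⟨y, hy⟩) = β (β⁻¹ ⟨y, hy⟩) * β z := by
    rw [← map_mul, hzy, map_mul]
  have h2 := congrArg Subtype.val h1
  rw [Subgroup.coe_mul, Subgroup.coe_mul, ← hy'] at h2
  exact h2

/-- the automorphism step of the tracking argument -/
theorem track_aut (hS : IsPGroup p S) (hF : F.IsSaturated p) (h : Setting p S A)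
    (hAe : ¬ F.IsEssential p A) (R : Subgroup Ω) (hfn : F.IsFullyNormalized R)
    (hcen : F.IsCentric R)
    (IH : ∀ (P' : Subgroup Ω) (f' : Ω → Ω), Mor F P' f' → Nat.card R < Nat.card P' →
      Track F p P' f')
    (α : MulAut R) (hα : α ∈ F.autGroup R) : Track F p R (extAut α) := by
  intro hZ hc
  have hRS := hcen.1
  have : Finite R := finite_of_le hRS
  have : Finite (MulAut R) :=
    Finite.of_injective (fun e : MulAut R => (e : R → R)) DFunLike.coe_injective
  by_cases hRS' : R = S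
  · subst hRS'
    exact ⟨extAut α, iso_of_mor_extAut ((mem_autGroup_iff le_rfl).1 hα), fun _ _ => rfl⟩
  have hlt : R < S := lt_of_le_of_ne hRS hRS'
  rcases Cfsg.Agent.Helper84.alperin_dichotomy F hS hF hlt hfn with ⟨-, hcl⟩ | ⟨hess, -⟩
  · -- not essential: generated by automorphisms extending to larger subgroups
    have key : ∀ β ∈ Subgroup.closure (Cfsg.Agent.Helper84.extSet F R),
        ∃ γ, Iso F S S γ ∧ ∀ z ∈ ZS S, extAut β z = γ z := by
      intro β hβ
      induction hβ using Subgroup.closure_induction with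
      | mem β hβ =>
        obtain ⟨Q, hRQ, φ, hφ, e⟩ := hβ
        have hmor := mor_of_mem hφ
        have : Finite Q := finite_of_le hmor.le
        obtain ⟨n, hnQ, hnR⟩ := SetLike.exists_of_lt hRQ
        have hlt' : Nat.card R < Nat.card Q := card_lt_of_not_mem hRQ.le hnQ hnR
        obtain ⟨γ, hγ, e'⟩ := IH Q (extFun φ) hmor hlt' (hZ.trans hRQ.le) (hc.trans hlt')
        refine ⟨γ, hγ, fun z hz => ?_⟩
        rw [← e' z hz, extAut_mem β (hZ hz), extFun_mem φ (hRQ.le (hZ hz))]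
        exact (e ⟨z, hZ hz⟩).symm
      | one =>
        exact ⟨fun x => x, Iso.refl le_rfl, fun z hz => extAut_one (hZ hz)⟩
      | mul β₁ β₂ _ _ ih₁ ih₂ =>
        obtain ⟨γ₁, hγ₁, e₁⟩ := ih₁
        obtain ⟨γ₂, hγ₂, e₂⟩ := ih₂
        refine ⟨fun x => γ₁ (γ₂ x), hγ₂.comp hγ₁, fun z hz => ?_⟩
        rw [extAut_mul β₁ β₂ (hZ hz), e₂ z hz]
        have hz2 := ZS_map_mem hγ₂ hz
        rw [e₁ _ hz2]
      | inv β _ ih =>
        obtain ⟨γ, hγ, e⟩ := ih
        obtain ⟨γ', hγ', hl, hr⟩ := hγ.symm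
        refine ⟨γ', hγ', fun z hz => ?_⟩
        have hz' := ZS_map_mem hγ' hz
        have h1 : extAut β (γ' z) = z := by rw [e _ hz', hr z hz.1]
        calc extAut β⁻¹ z = extAut β⁻¹ (extAut β (γ' z)) := by rw [h1]
          _ = γ' z := extAut_inv_left β (hZ hz')
    exact key α (by rw [hcl]; exact hα)
  · -- essential
    have hRA : R ≠ A := fun e => hAe (e ▸ hess)
    rcases essential_cases hS hF h hess with h1 | ⟨x, hx, hxA, hinf, -⟩ |
      ⟨x, hx, hxA, hZ2A, hinf2, hrel, hidx⟩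
    · exact absurd h1 hRA
    · exfalso
      have := card_of_inf_eq h hRS hx hxA hinf
      omega
    · obtain ⟨hne, hsyl, -⟩ := essential_key hS hF hess
      have hZinv := ZS_invariant_of_typeB hS hF h hess hx hxA hinf2 hrel
      -- the pointwise stabilizer of `Z(S)` in `Aut_F(R)`
      let K : Subgroup (MulAut R) :=
        { carrier := {β | β ∈ F.autGroup R ∧ ∀ z : R, (z : Ω) ∈ ZS S → β z = z}
          one_mem' := ⟨Subgroup.one_mem _, fun z _ => rfl⟩
          mul_mem' := by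
            rintro a b ⟨ha, ha'⟩ ⟨hb, hb'⟩
            refine ⟨Subgroup.mul_mem _ ha hb, fun z hz => ?_⟩
            show a (b z) = z
            rw [hb' z hz, ha' z hz]
          inv_mem' := by
            rintro a ⟨ha, ha'⟩
            refine ⟨Subgroup.inv_mem _ ha, fun z hz => ?_⟩
            have h1 : a⁻¹ (a z) = z := MulAut.inv_apply_self _ a z
            rwa [ha' z hz] at h1 }
      have hTK : autInducedBy S R ≤ K := by
        intro t ht
        refine ⟨autInducedBy_le_autGroup F hRS ht, fun z hz => ?_⟩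
        obtain ⟨g, hg, e⟩ := mem_autInducedBy_iff.1 ht
        apply Subtype.ext
        rw [e, (mem_ZS_iff.1 hz).2 g hg, mul_inv_cancel_right]
      have hKG : K ≤ F.autGroup R := fun β hβ => hβ.1
      have hKn : ∀ g ∈ F.autGroup R, ∀ k ∈ K, g * k * g⁻¹ ∈ K := by
        intro g hg k hk
        refine ⟨Subgroup.mul_mem _ (Subgroup.mul_mem _ hg hk.1) (Subgroup.inv_mem _ hg),
          fun z hz => ?_⟩
        show g (k (g⁻¹ z)) = z
        rw [hk.2 _ (hZinv g⁻¹ z hz), MulAut.apply_inv_self]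
      obtain ⟨k, hk, ν, hν, e, hnorm⟩ := exists_frattini_decomp hsyl hTK hKG hKn hα
      obtain ⟨ψ, hψ, eψ⟩ := exists_ext_of_normalizes hS hF hfn hν hnorm
      obtain ⟨n, hn, hnR⟩ := exists_normalizer_not_mem hS hRS hRS'
      have hle : R ≤ normalizerIn S R := fun r hr => ⟨hRS hr, Subgroup.le_normalizer hr⟩
      have : Finite (normalizerIn S R) := finite_of_le hψ.le
      have hlt' : Nat.card R < Nat.card (normalizerIn S R) := card_lt_of_not_mem hle hn hnR
      obtain ⟨γ, hγ, eγ⟩ := IH _ ψ hψ hlt' (hZ.trans hle) (hc.trans hlt')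
      refine ⟨γ, hγ, fun z hz => ?_⟩
      have hγz := ZS_map_mem hγ hz
      rw [e, extAut_mul k ν (hZ hz), ← eψ z (hZ hz), eγ z hz, extAut_mem k (hZ hγz)]
      exact congrArg Subtype.val (hk.2 ⟨γ z, hZ hγz⟩ hγz)

/-- **tracking**: morphisms with large source containing `Z(S)` act on `Z(S)` like automorphisms
of `S` in the system -/
theorem track (hS : IsPGroup p S) (hF : F.IsSaturated p) (h : Setting p S A)
    (hAe : ¬ F.IsEssential p A) :
    ∀ (P : Subgroup Ω) (f : Ω → Ω), Mor F P f → Track F p P f :=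
  alperin_strong hS hF (Track F p) track_closed
    (fun R hfn hcen _ IH α hα => track_aut hS hF h hAe R hfn hcen IH α hα)

end Cfsg.Agent.Helper83.AbIdx
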