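import Mathlib
import Cfsg.Prelude.Def_FusionSystem
import Cfsg.Agent.Lib.Helper83.AbIdxI
import Cfsg.Agent.Lib.Helper84.FusNormal

set_option autoImplicit false

/-! `Z(S)`-reflections: automorphisms of `S` in the system inverting `Z₀ = Z(S) ∩ [S,S]` and acting
trivially on `Z(S)/Z₀`.  Any two agree on `Z(S)`; their common fixed subgroup in `Z(S)` is normal
in the system. -/

namespace Cfsg.Agent.Helper83.AbIdx

open Cfsg Cfsg.FusionSystem Cfsg.Agent.Helper87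

variable {Ω : Type*} [Group Ω] {S A : Subgroup Ω} [Finite S] {p : ℕ} [hp : Fact p.Prime]
  {F : FusionSystem S}

/-- a `Z(S)`-reflection -/
structure IsZRefl (F : FusionSystem S) (η : Ω → Ω) : Prop where
  iso : Iso F S S η
  inv : ∀ d ∈ ZS S ⊓ DS S, η d = d⁻¹
  mod : ∀ z ∈ ZS S, z⁻¹ * η z ∈ ZS S ⊓ DS S

omit [Finite S] in
theorem pow_eq_one_of_card {K : Subgroup Ω} (hK : Nat.card K = p) {d : Ω} (hd : d ∈ K) :
    d ^ p = 1 := by
  have : Finite K := Nat.finite_of_card_ne_zero (by rw [hK]; exact hp.out.ne_zero)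
  have h1 : (⟨d, hd⟩ : K) ^ Nat.card K = 1 := pow_card_eq_one'
  rw [hK] at h1
  have h2 := congrArg Subtype.val h1
  rwa [Subgroup.coe_pow, Subgroup.coe_one] at h2

/-- the composite of two reflections is trivial on `Z(S)` -/
theorem IsZRefl.comp_fix (hS : IsPGroup p S) (hF : F.IsSaturated p)
    (hcard : Nat.card ↥(ZS S ⊓ DS S) = p) {η η' : Ω → Ω} (h1 : IsZRefl F η)
    (h2 : IsZRefl F η') : ∀ z ∈ ZS S, η (η' z) = z := by
  have hv : Iso F S S (fun x => η (η' x)) := h2.iso.comp h1.iso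
  have hγ := hv.equiv_mem_autGroup
  have key := fix_of_unipotent hS hF hγ (Z₀ := ZS S ⊓ DS S)
    (fun d hd => pow_eq_one_of_card hcard hd) ?_ ?_
  · intro z hz
    have := key ⟨z, hz.1⟩ hz
    have h3 := congrArg Subtype.val this
    rwa [hv.equiv_apply] at h3
  · intro d hd
    apply Subtype.ext
    rw [hv.equiv_apply]
    show η (η' (d : Ω)) = d
    rw [h2.inv _ hd, h1.inv _ (Subgroup.inv_mem _ hd), inv_inv]
  · intro z hz
    have hzS : (z : Ω) ∈ S := z.2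
    have hd' := h2.mod _ hz
    have hd'' := h1.mod _ hz
    have e1 : η' (z : Ω) = z * ((z : Ω)⁻¹ * η' z) := by group
    have e2 : η (η' (z : Ω)) = η z * η ((z : Ω)⁻¹ * η' z) := by
      conv_lhs => rw [e1]
      exact h1.iso.1.map_mul hzS hd'.1.1
    have e3 : ((z⁻¹ * hv.equiv z : S) : Ω) = ((z : Ω)⁻¹ * η z) * ((z : Ω)⁻¹ * η' z)⁻¹ := by
      rw [Subgroup.coe_mul, Subgroup.coe_inv, hv.equiv_apply]
      show (z : Ω)⁻¹ * η (η' (z : Ω)) = _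
      rw [e2, h1.inv _ hd', mul_assoc]
    rw [e3]
    exact Subgroup.mul_mem _ hd'' (Subgroup.inv_mem _ hd')

/-- any two reflections agree on `Z(S)` -/
theorem IsZRefl.agree (hS : IsPGroup p S) (hF : F.IsSaturated p)
    (hcard : Nat.card ↥(ZS S ⊓ DS S) = p) {η η' : Ω → Ω} (h1 : IsZRefl F η)
    (h2 : IsZRefl F η') : ∀ z ∈ ZS S, η z = η' z := by
  intro z hz
  have a := h1.comp_fix hS hF hcard h2 z hz
  have b := h1.comp_fix hS hF hcard h1 z hz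
  exact h1.iso.1.inj (h1.iso.map_mem hz.1) (h2.iso.map_mem hz.1) (b.trans a.symm)

omit [Finite S] hp in
/-- conjugates of reflections under automorphisms of `S` are reflections -/
theorem IsZRefl.conj {η γ γ' : Ω → Ω} (h1 : IsZRefl F η) (hγ : Iso F S S γ) (hγ' : Iso F S S γ')
    (hr : ∀ x ∈ S, γ (γ' x) = x) : IsZRefl F (fun x => γ (η (γ' x))) := by
  refine ⟨(hγ'.comp h1.iso).comp hγ, ?_, ?_⟩
  · intro d hd
    have hd' : γ' d ∈ ZS S ⊓ DS S := ⟨ZS_map_mem hγ' hd.1, DS_map_mem hγ' hd.2⟩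
    show γ (η (γ' d)) = d⁻¹
    rw [h1.inv _ hd', hγ.1.map_inv hd'.1.1, hr d hd.1.1]
  · intro z hz
    have hz' := ZS_map_mem hγ' hz
    have hδ := h1.mod _ hz'
    have e1 : η (γ' z) = γ' z * ((γ' z)⁻¹ * η (γ' z)) := by group
    show z⁻¹ * γ (η (γ' z)) ∈ ZS S ⊓ DS S
    rw [e1, hγ.1.map_mul hz'.1 hδ.1.1, hr z hz.1, inv_mul_cancel_left]
    exact ⟨ZS_map_mem hγ hδ.1, DS_map_mem hγ hδ.2⟩

/-- the fixed points of an automorphism of `S` on `Z(S)` -/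
def fixZ {η : Ω → Ω} (hη : Iso F S S η) : Subgroup Ω where
  carrier := {z | z ∈ ZS S ∧ η z = z}
  one_mem' := ⟨Subgroup.one_mem _, hη.1.map_one⟩
  mul_mem' := by
    rintro a b ⟨ha, ha'⟩ ⟨hb, hb'⟩
    exact ⟨Subgroup.mul_mem _ ha hb, by rw [hη.1.map_mul ha.1 hb.1, ha', hb']⟩
  inv_mem' := by
    rintro a ⟨ha, ha'⟩
    exact ⟨Subgroup.inv_mem _ ha, by rw [hη.1.map_inv ha.1, ha']⟩

omit [Finite S] hp in
theorem mem_fixZ {η : Ω → Ω} (hη : Iso F S S η) {z : Ω} : z ∈ fixZ hη ↔ z ∈ ZS S ∧ η z = z :=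
  Iff.rfl

/-- the fixed subgroup of a reflection is invariant under automorphisms of `S` -/
theorem fixZ_invariant (hS : IsPGroup p S) (hF : F.IsSaturated p)
    (hcard : Nat.card ↥(ZS S ⊓ DS S) = p) {η : Ω → Ω} (h1 : IsZRefl F η) {γ : Ω → Ω}
    (hγ : Iso F S S γ) {q : Ω} (hq : q ∈ fixZ h1.iso) : γ q ∈ fixZ h1.iso := by
  obtain ⟨γ', hγ', hl, hr⟩ := hγ.symm
  have h2 := h1.conj hγ hγ' hr
  have hγq := ZS_map_mem hγ hq.1
  refine ⟨hγq, ?_⟩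
  rw [h1.agree hS hF hcard h2 _ hγq]
  show γ (η (γ' (γ q))) = γ q
  rw [hl q hq.1.1, hq.2]

/-- the reflection attached to an abelian essential subgroup `P = Z(S)⟨x⟩` -/
theorem exists_refl_of_typeH (hS : IsPGroup p S) (hF : F.IsSaturated p) (hp2 : p ≠ 2)
    (h : Setting p S A) (hAe : ¬ F.IsEssential p A) {P : Subgroup Ω}
    (hP : F.IsEssential p P) {x : Ω} (hx : x ∈ P) (hxA : x ∉ A) (hinf : P ⊓ A = ZS S)
    (hidx : P.relIndex (S ⊓ Subgroup.normalizer (P : Set Ω)) = p)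
    (hcard : Nat.card ↥(ZS S ⊓ DS S) = p) :
    ∃ η, IsZRefl F η ∧
      (∀ α ∈ F.autGroup P, ∀ z ∈ ZS S, η z = z → extAut α z ∈ ZS S ∧ η (extAut α z) = extAut α z) ∧
      (∀ z ∈ ZS S, ∃ ℓ ∈ ZS S ⊓ DS S, ∃ w ∈ ZS S, η w = w ∧ z = ℓ * w) := by
  obtain ⟨W, hh, hWZ, hhG, hnorm, hdec, hWfix, hinv, hWinv⟩ :=
    typeH_package hS hF h hP hx hxA hinf hidx hcard
  have hPH := pHyp_of_essential hS hF hP
  have hPS := hPH.le
  have hZP : ZS S ≤ P := by rw [← hinf]; exact inf_le_left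
  obtain ⟨hne, -, -⟩ := essential_key hS hF hP
  obtain ⟨ψ, hψ, eψ⟩ := exists_ext_of_normalizes hS hF hP.2.1 hhG hnorm
  have hle : P ≤ normalizerIn S P := fun r hr => ⟨hPS hr, Subgroup.le_normalizer hr⟩
  obtain ⟨n, hn, hnP⟩ := exists_normalizer_not_mem hS hPS hne
  have : Finite (normalizerIn S P) := finite_of_le hψ.le
  have hlt : Nat.card P < Nat.card (normalizerIn S P) := card_lt_of_not_mem hle hn hnP
  have hcP := card_of_inf_eq h hPS hx hxA hinf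
  obtain ⟨η, hη, eη⟩ := track hS hF h hAe _ ψ hψ (hZP.trans hle) (by rw [← hcP]; exact hlt)
  have e : ∀ z ∈ ZS S, η z = extAut hh z := fun z hz => by rw [← eη z hz, eψ z (hZP hz)]
  have hmor : Mor F P (extAut hh) := (mem_autGroup_iff hPS).1 hhG
  -- the action on `z = ℓ w`
  have hact : ∀ ℓ ∈ ZS S ⊓ DS S, ∀ w ∈ W, η (ℓ * w) = ℓ⁻¹ * w := by
    intro ℓ hℓ w hw
    rw [e _ (Subgroup.mul_mem _ hℓ.1 (hWZ hw)), hmor.map_mul (hZP hℓ.1) (hZP (hWZ hw)),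
      hinv ℓ hℓ, hWfix w hw]
  -- the fixed points of `η` on `Z(S)` are exactly `W`
  have hfixW : ∀ z ∈ ZS S, η z = z → z ∈ W := by
    intro z hz hηz
    obtain ⟨ℓ, hℓ, w, hw, rfl⟩ := hdec z hz
    rw [hact ℓ hℓ w hw] at hηz
    have h2 : ℓ⁻¹ = ℓ := mul_right_cancel hηz
    have h3 : ℓ ^ 2 = 1 := by
      rw [sq]
      nth_rewrite 1 [← h2]
      exact inv_mul_cancel ℓ
    have h4 : ℓ ^ p = 1 := pow_eq_one_of_card hcard hℓ
    have h6 : orderOf ℓ ∣ Nat.gcd 2 p :=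
      Nat.dvd_gcd (orderOf_dvd_of_pow_eq_one h3) (orderOf_dvd_of_pow_eq_one h4)
    have h7 : Nat.gcd 2 p = 1 :=
      (Nat.coprime_primes Nat.prime_two hp.out).2 (Ne.symm hp2)
    rw [h7, Nat.dvd_one, orderOf_eq_one_iff] at h6
    rw [h6, one_mul]
    exact hw
  refine ⟨η, ⟨hη, ?_, ?_⟩, ?_, ?_⟩
  · intro d hd
    rw [e d hd.1]
    exact hinv d hd
  · intro z hz
    obtain ⟨ℓ, hℓ, w, hw, rfl⟩ := hdec z hz
    rw [hact ℓ hℓ w hw]
    have hwc := (mem_ZS_iff.1 (hWZ hw)).2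
    have e1 : (ℓ * w)⁻¹ * (ℓ⁻¹ * w) = ℓ⁻¹ * ℓ⁻¹ := by
      have h1 : ℓ⁻¹ * w = w * ℓ⁻¹ := hwc _ (S.inv_mem hℓ.1.1)
      calc (ℓ * w)⁻¹ * (ℓ⁻¹ * w) = w⁻¹ * ℓ⁻¹ * (ℓ⁻¹ * w) := by rw [mul_inv_rev]
        _ = w⁻¹ * ℓ⁻¹ * (w * ℓ⁻¹) := by rw [h1]
        _ = w⁻¹ * (ℓ⁻¹ * w) * ℓ⁻¹ := by group
        _ = w⁻¹ * (w * ℓ⁻¹) * ℓ⁻¹ := by rw [h1]
        _ = ℓ⁻¹ * ℓ⁻¹ := by group
    rw [e1]
    exact Subgroup.mul_mem _ (Subgroup.inv_mem _ hℓ) (Subgroup.inv_mem _ hℓ)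
  · intro α hα z hz hηz
    have hzW := hfixW z hz hηz
    have h1 := hWinv α hα z hzW
    refine ⟨hWZ h1, ?_⟩
    rw [e _ (hWZ h1)]
    exact hWfix _ h1
  · intro z hz
    obtain ⟨ℓ, hℓ, w, hw, rfl⟩ := hdec z hz
    refine ⟨ℓ, hℓ, w, hWZ hw, ?_, rfl⟩
    rw [e w (hWZ hw)]
    exact hWfix w hw

end Cfsg.Agent.Helper83.AbIdx
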