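import Mathlib
import Cfsg.Prelude.Def_FusionSystem
import Cfsg.Agent.Lib.Helper87.FusionSaturated
import Cfsg.Agent.Lib.Helper84.FusSat

set_option autoImplicit false

/-!
# The fusion system on `T` given by a group `Γ ≥ Inn(T)` of automorphisms of `T`

`autSys T Γ hΓ` has as maps the restrictions of the elements of `Γ` to the subgroups of `T`
(this is the fusion system of `T ⋊ K` when `Γ = Inn(T) K`). If `T` is a finite `p`-group and
`γ ^ q ∈ Inn(T)` for all `γ ∈ Γ` (`q ≠ p` a prime) it is saturated: every subgroup is fully automized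
and receptive.
-/

namespace Cfsg.Agent.Helper83

open Cfsg Cfsg.FusionSystem Cfsg.Agent.Helper87

variable {Ω : Type*} [Group Ω]

/-- restriction of an automorphism of `T` to `P ≤ T`, as a map into the ambient group -/
def resHom {T : Subgroup Ω} (γ : MulAut T) (P : Subgroup Ω) (hP : P ≤ T) : P →* Ω :=
  (T.subtype.comp γ.toMonoidHom).comp (Subgroup.inclusion hP)

theorem resHom_apply {T : Subgroup Ω} (γ : MulAut T) (P : Subgroup Ω) (hP : P ≤ T) (x : P) :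
    resHom γ P hP x = (γ ⟨x, hP x.2⟩ : T) := rfl

/-- the fusion system of restrictions of elements of `Γ` -/
def autSys (T : Subgroup Ω) (Γ : Subgroup (MulAut T)) (hΓ : Cfsg.Inn T ≤ Γ) : FusionSystem T where
  Hom P := {φ | ∃ hP : P ≤ T, ∃ γ ∈ Γ, φ = resHom γ P hP}
  le_of_mem := by
    rintro P φ ⟨hP, γ, -, rfl⟩
    exact ⟨hP, fun x => (γ _).2⟩
  injective_of_mem := by
    rintro P φ ⟨hP, γ, -, rfl⟩ a b hab
    have h1 : γ ⟨a, hP a.2⟩ = γ ⟨b, hP b.2⟩ := Subtype.ext hab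
    have h2 := γ.injective h1
    exact Subtype.ext (congrArg (fun t : T => (t : Ω)) h2)
  conj_mem := by
    intro P g hP hg
    refine ⟨hP, MulAut.conj ⟨g, hg⟩, hΓ ⟨⟨g, hg⟩, rfl⟩, ?_⟩
    ext x
    rfl
  comp_mem := by
    rintro P Q φ ψ ⟨hP, γ, hγ, rfl⟩ ⟨hQ, δ, hδ, rfl⟩ h
    refine ⟨hP, δ * γ, Γ.mul_mem hδ hγ, ?_⟩
    ext x
    rfl
  inv_mem := by
    rintro P φ ⟨hP, γ, hγ, rfl⟩
    have hr : (resHom γ P hP).range ≤ T := by
      rintro _ ⟨x, rfl⟩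
      exact (γ _).2
    refine ⟨resHom γ⁻¹ _ hr, ⟨hr, γ⁻¹, Γ.inv_mem hγ, rfl⟩, ?_⟩
    intro x
    rw [resHom_apply]
    have : (⟨resHom γ P hP x, hr ⟨x, rfl⟩⟩ : T) = γ ⟨x, hP x.2⟩ := rfl
    rw [this, MulAut.inv_apply_self]

variable {T : Subgroup Ω} {Γ : Subgroup (MulAut T)} {hΓ : Cfsg.Inn T ≤ Γ}

theorem mor_autSys_iff {P : Subgroup Ω} {f : Ω → Ω} :
    Mor (autSys T Γ hΓ) P f ↔ P ≤ T ∧ ∃ γ ∈ Γ, ∀ x ∈ P, f x = extAut γ x := by
  constructor
  · rintro ⟨φ, ⟨hP, γ, hγ, rfl⟩, h⟩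
    refine ⟨hP, γ, hγ, fun x hx => ?_⟩
    rw [← h ⟨x, hx⟩, extAut_mem γ (hP hx)]
    rfl
  · rintro ⟨hP, γ, hγ, h⟩
    refine ⟨resHom γ P hP, ⟨hP, γ, hγ, rfl⟩, fun x => ?_⟩
    rw [h x x.2, extAut_mem γ (hP x.2)]
    rfl

theorem mor_autSys_extAut {P : Subgroup Ω} (hP : P ≤ T) {γ : MulAut T} (hγ : γ ∈ Γ) :
    Mor (autSys T Γ hΓ) P (extAut γ) :=
  mor_autSys_iff.2 ⟨hP, γ, hγ, fun _ _ => rfl⟩

/-- a normal subgroup `H` of a finite group `K` with `k ^ q ∈ H` for all `k ∈ K` has index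
prime to `p ≠ q` -/
theorem not_dvd_relIndex_of_pow_mem {G : Type*} [Group G] {H K : Subgroup G} [Finite K]
    {p q : ℕ} [Fact p.Prime] (hq : q.Prime) (hpq : q ≠ p)
    (hn : ∀ k ∈ K, ∀ h ∈ H, k * h * k⁻¹ ∈ H) (hpow : ∀ k ∈ K, k ^ q ∈ H) :
    ¬ p ∣ H.relIndex K := by
  have hN : (H.subgroupOf K).Normal := by
    refine ⟨fun n hn' g => ?_⟩
    rw [Subgroup.mem_subgroupOf] at hn' ⊢
    exact hn g.1 g.2 n.1 hn'
  have hexp : ∀ x : ↥K ⧸ H.subgroupOf K, x ^ q = 1 := by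
    intro x
    induction x using QuotientGroup.induction_on with
    | H k =>
      rw [← QuotientGroup.mk_pow, QuotientGroup.eq_one_iff, Subgroup.mem_subgroupOf]
      exact hpow k.1 k.2
  have hPG : IsPGroup q (↥K ⧸ H.subgroupOf K) := fun g => ⟨1, by rw [pow_one]; exact hexp g⟩
  have : Fact q.Prime := ⟨hq⟩
  obtain ⟨n, hn'⟩ := IsPGroup.iff_card.1 hPG
  intro hdvd
  rw [Subgroup.relIndex, Subgroup.index_eq_card, hn'] at hdvd
  have h1 : p ∣ q := (Fact.out : p.Prime).dvd_of_dvd_pow hdvd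
  exact hpq ((Nat.prime_dvd_prime_iff_eq (Fact.out : p.Prime) hq).1 h1).symm

/-- `Aut_E(T) = Γ` for `E = autSys T Γ` -/
theorem autGroup_autSys_top : (autSys T Γ hΓ).autGroup T = Γ := by
  ext α
  rw [mem_autGroup_iff (le_refl T), mor_autSys_iff]
  constructor
  · rintro ⟨-, γ, hγ, h⟩
    have : α = γ := by
      ext x
      have := h x x.2
      rw [extAut_apply, extAut_apply] at this
      exact this
    rw [this]; exact hγ
  · intro hα
    exact ⟨le_refl T, α, hα, fun _ _ => rfl⟩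

theorem pow_apply_coe {P : Subgroup Ω} (hP : P ≤ T) (α : MulAut P) (γ : MulAut T)
    (h : ∀ x : P, ((α x : P) : Ω) = ((γ ⟨x, hP x.2⟩ : T) : Ω)) (n : ℕ) :
    ∀ x : P, (((α ^ n) x : P) : Ω) = (((γ ^ n) ⟨x, hP x.2⟩ : T) : Ω) := by
  induction n with
  | zero => intro x; simp
  | succ n ih =>
    intro x
    rw [pow_succ, pow_succ, MulAut.mul_apply, MulAut.mul_apply, ih (α x)]
    congr 2
    exact Subtype.ext (h x)

/-- every subgroup of `T` is fully automized in `autSys T Γ` when `Γ / Inn(T)` has exponent `q ≠ p` -/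
theorem autSys_fullyAutomized {p q : ℕ} [Fact p.Prime] [Finite T] (hT : IsPGroup p T)
    (hq : q.Prime) (hpq : q ≠ p) (hpow : ∀ γ ∈ Γ, γ ^ q ∈ Cfsg.Inn T)
    {P : Subgroup Ω} (hP : P ≤ T) : (autSys T Γ hΓ).IsFullyAutomized p P := by
  rw [Cfsg.Agent.Helper84.fullyAutomized_iff]
  refine ⟨hP, autInducedBy_le_autGroup _ hP, isPGroup_autInducedBy hT P, ?_⟩
  have : Finite P := finite_of_le hP
  have : Finite (MulAut P) := by
    have : Function.Injective (fun α : MulAut P => (α : P → P)) := fun a b h => by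
      ext x; exact congrArg Subtype.val (congrFun h x)
    exact Finite.of_injective _ this
  -- description of the elements of `Aut_E(P)`
  have key : ∀ α ∈ (autSys T Γ hΓ).autGroup P, ∃ γ ∈ Γ,
      ∀ x : P, ((α x : P) : Ω) = ((γ ⟨x, hP x.2⟩ : T) : Ω) := by
    intro α hα
    rw [mem_autGroup_iff hP, mor_autSys_iff] at hα
    obtain ⟨-, γ, hγ, h⟩ := hα
    refine ⟨γ, hγ, fun x => ?_⟩
    have := h x x.2
    rw [extAut_apply, extAut_mem γ (hP x.2)] at this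
    exact this
  apply not_dvd_relIndex_of_pow_mem hq hpq
  · intro α hα c hc
    obtain ⟨γ, hγ, h⟩ := key α hα
    rw [mem_autInducedBy_iff] at hc ⊢
    obtain ⟨t, ht, hc⟩ := hc
    refine ⟨((γ ⟨t, ht⟩ : T) : Ω), (γ ⟨t, ht⟩).2, fun y => ?_⟩
    rw [MulAut.mul_apply, MulAut.mul_apply, h, ]
    have h1 : ((c (α⁻¹ y) : P) : Ω) = t * ((α⁻¹ y : P) : Ω) * t⁻¹ := hc _
    have h2 : (⟨((c (α⁻¹ y) : P) : Ω), hP (c (α⁻¹ y)).2⟩ : T) =
        ⟨t, ht⟩ * ⟨((α⁻¹ y : P) : Ω), hP (α⁻¹ y).2⟩ * (⟨t, ht⟩ : T)⁻¹ := Subtype.ext h1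
    rw [h2, map_mul, map_mul, map_inv]
    have h3 : ((γ ⟨((α⁻¹ y : P) : Ω), hP (α⁻¹ y).2⟩ : T) : Ω) = y := by
      rw [← h (α⁻¹ y), MulAut.apply_inv_self]
    push_cast
    rw [h3]
  · intro α hα
    obtain ⟨γ, hγ, h⟩ := key α hα
    obtain ⟨s, hs⟩ := hpow γ hγ
    rw [mem_autInducedBy_iff]
    refine ⟨(s : Ω), s.2, fun x => ?_⟩
    rw [pow_apply_coe hP α γ h q x, ← hs]
    rfl

/-- every subgroup of `T` is receptive in `autSys T Γ`: all maps extend to `T` -/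
theorem autSys_receptive {P : Subgroup Ω} (hP : P ≤ T) : (autSys T Γ hΓ).IsReceptive P := by
  rw [isReceptive_iff]
  refine ⟨hP, fun P' f h => ?_⟩
  obtain ⟨-, γ, hγ, hf⟩ := mor_autSys_iff.1 h.mor
  have hle : h.ext ≤ T := h.ext_le_normalizerIn.trans inf_le_left
  exact ⟨extAut γ, mor_autSys_extAut hle hγ, fun x hx => (hf x hx).symm⟩

/-- `autSys T Γ` is saturated when `T` is a finite `p`-group and `Γ / Inn(T)` has prime exponent `q ≠ p` -/
theorem autSys_saturated {p q : ℕ} [Fact p.Prime] [Finite T] (hT : IsPGroup p T)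
    (hq : q.Prime) (hpq : q ≠ p) (hpow : ∀ γ ∈ Γ, γ ^ q ∈ Cfsg.Inn T) :
    (autSys T Γ hΓ).IsSaturated p := by
  intro P hP
  exact ⟨P, isConj_refl hP, autSys_fullyAutomized hT hq hpq hpow hP, autSys_receptive hP⟩

/-- `autSys T Γ` is a subsystem of `F` when `Γ ≤ Aut_F(T)` -/
theorem autSys_isSubsystemOf {S : Subgroup Ω} (F : FusionSystem S) (hTS : T ≤ S)
    (h : Γ ≤ F.autGroup T) : (autSys T Γ hΓ).IsSubsystemOf F := by
  rintro P φ ⟨hP, γ, hγ, rfl⟩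
  have h1 : Mor F T (extAut γ) := (mem_autGroup_iff hTS).1 (h hγ)
  obtain ⟨ψ, hψ, hψ'⟩ := h1.restrict hP
  have : ψ = resHom γ P hP := by
    ext x
    rw [hψ' x, extAut_mem γ (hP x.2)]
    rfl
  rw [← this]; exact hψ

/-- `Inn(T) ≤ Aut_F(T)` -/
theorem inn_le_autGroup {S : Subgroup Ω} (F : FusionSystem S) (hTS : T ≤ S) :
    Cfsg.Inn T ≤ F.autGroup T := by
  rintro _ ⟨t, rfl⟩
  rw [mem_autGroup_iff hTS]
  refine (Mor.conj hTS (hTS t.2)).congr (fun x hx => ?_)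
  rw [extAut_mem _ hx]
  rfl

/-- `γ ^ q ∈ Inn(T)` for `γ ∈ Inn(T) ⊔ ⟨β⟩` when `β ^ q = 1` -/
theorem pow_mem_inn_of_mem_sup {β : MulAut T} {q : ℕ} (hβ : β ^ q = 1) :
    ∀ γ ∈ Cfsg.Inn T ⊔ Subgroup.zpowers β, γ ^ q ∈ Cfsg.Inn T := by
  intro γ hγ
  have hN : (Cfsg.Inn T).Normal := by
    have : Cfsg.Inn T = (MulAut.conj : T →* MulAut T).range := rfl
    rw [this]
    infer_instance
  rw [← QuotientGroup.eq_one_iff, QuotientGroup.mk_pow]
  have hle : Cfsg.Inn T ⊔ Subgroup.zpowers β ≤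
      (Subgroup.zpowers (QuotientGroup.mk β : MulAut T ⧸ Cfsg.Inn T)).comap
        (QuotientGroup.mk' (Cfsg.Inn T)) := by
    apply sup_le
    · intro c hc
      rw [Subgroup.mem_comap]
      have : (QuotientGroup.mk' (Cfsg.Inn T)) c = 1 := (QuotientGroup.eq_one_iff c).2 hc
      rw [this]; exact Subgroup.one_mem _
    · rw [Subgroup.zpowers_le, Subgroup.mem_comap]
      exact Subgroup.mem_zpowers _
  obtain ⟨k, hk⟩ := Subgroup.mem_zpowers_iff.1 (Subgroup.mem_comap.1 (hle hγ))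
  have : (QuotientGroup.mk γ : MulAut T ⧸ Cfsg.Inn T) = (QuotientGroup.mk β) ^ k := hk.symm
  rw [this, ← zpow_natCast, ← zpow_mul, mul_comm, zpow_mul, zpow_natCast, ← QuotientGroup.mk_pow,
    hβ, QuotientGroup.mk_one, one_zpow]

/-- if `autSys T Γ` is the inner system then `Γ = Inn(T)` -/
theorem le_inn_of_autSys_eq_inner
    (h : ∀ P : Subgroup Ω, (autSys T Γ hΓ).Hom P = (innerFusionSystem T).Hom P) :
    Γ ≤ Cfsg.Inn T := by
  intro γ hγ
  have h1 : resHom γ T le_rfl ∈ (autSys T Γ hΓ).Hom T := ⟨le_rfl, γ, hγ, rfl⟩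
  rw [h T] at h1
  obtain ⟨-, g, hg, hx⟩ := h1
  refine ⟨⟨g, hg⟩, ?_⟩
  ext x
  exact (hx x).symm

/-- an automorphism of prime order `q ≠ p` of a `p`-group is not inner -/
theorem not_mem_inn_of_orderOf {p q : ℕ} [Fact p.Prime] (hT : IsPGroup p T) {β : MulAut T}
    (hq : q.Prime) (hpq : q ≠ p) (hβ : orderOf β = q) : β ∉ Cfsg.Inn T := by
  rintro ⟨t, rfl⟩
  obtain ⟨k, hk⟩ := hT t
  have h1 : (MulAut.conj t) ^ (p ^ k) = 1 := by rw [← map_pow, hk, map_one]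
  have h2 : q ∣ p ^ k := hβ ▸ orderOf_dvd_of_pow_eq_one h1
  have h3 : q ∣ p := hq.dvd_of_dvd_pow h2
  exact hpq ((Nat.prime_dvd_prime_iff_eq hq (Fact.out : p.Prime)).1 h3)

/-- the closure of a set which is mapped into the closure by all inner automorphisms is normal -/
theorem closure_normal_of_conj_mem {G : Type*} [Group G] {s : Set G}
    (h : ∀ g : G, ∀ y ∈ s, g * y * g⁻¹ ∈ Subgroup.closure s) : (Subgroup.closure s).Normal := by
  refine ⟨fun n hn g => ?_⟩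
  have hle : Subgroup.closure s ≤ (Subgroup.closure s).comap (MulAut.conj g).toMonoidHom := by
    rw [Subgroup.closure_le]
    intro y hy
    exact h g y hy
  exact hle hn

end Cfsg.Agent.Helper83
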