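import Mathlib
import Cfsg.Prelude.Def_Solvable
import Cfsg.Agent.Lib.Helper54.PxQ
import Cfsg.Agent.Lib.Helper54.PSolv
import Cfsg.Agent.Lib.Helper10.PrimeToPLift

/-!
Core control under a `q`-element: if `O_{q'}(X) = 1`, `W` is a solvable normal subgroup of `X`, `z` a
`q`-element and `K` a `q'`-subgroup of `C_X(z)` normalized by `C_X(z)`, then `K` centralizes `W`
and meets it trivially.  Quotient version `core_control`.
-/

set_option autoImplicit false

namespace Cfsg.Agent.Helper83.CoreCtl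

open Cfsg

theorem centralizes_solvable_normal {X : Type*} [Group X] [Finite X] {q : ℕ} [hq : Fact q.Prime]
    (hO : pPrimeCore q X = ⊥) (W : Subgroup X) [hWn : W.Normal] (hW : Group.IsSolvable W)
    (z : X) (hz : ∃ k : ℕ, orderOf z = q ^ k) (K : Subgroup X)
    (hKz : K ≤ Subgroup.centralizer ({z} : Set X))
    (hKn : ∀ c ∈ Subgroup.centralizer ({z} : Set X), ∀ x ∈ K, c * x * c⁻¹ ∈ K)
    (hKq : (Nat.card K).Coprime q) :
    K ≤ Subgroup.centralizer (W : Set X) ∧ K ⊓ W = ⊥ := by
  classical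
  set R : Subgroup X := (pCore q W).map W.subtype with hR
  have hRp : IsPGroup q R := (Helper54.isPGroup_pCore).map _
  have hRn : R.Normal := by rw [hR]; infer_instance
  have hOW : pPrimeCore q W = ⊥ := Helper54.pPrimeCore_eq_bot_of_normal q W hO
  have := hW
  have hCW : Subgroup.centralizer (pCore q W : Set W) ≤ pCore q W :=
    Helper54.centralizer_pCore_le q hOW
  -- elements of `K ∩ R` are trivial
  have hKR : ∀ x, x ∈ K → x ∈ R → x = 1 := by
    intro x hxK hxR
    have h1 : (orderOf x).Coprime q :=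
      Nat.Coprime.coprime_dvd_left (Subgroup.orderOf_dvd_natCard K hxK) hKq
    exact Helper54.eq_one_of_mem_pgroup_of_coprime R hRp x hxR h1
  have hzp : IsPGroup q (Subgroup.zpowers z) := by
    obtain ⟨k, hk⟩ := hz
    exact IsPGroup.of_card (by rw [Nat.card_zpowers, hk])
  -- `K` centralizes `R`
  have hKR' : K ≤ Subgroup.centralizer (R : Set X) := by
    apply Helper54.thompson_PxQ q (Subgroup.zpowers z) K R hzp hKq hRp
    · rw [Subgroup.zpowers_le, Subgroup.mem_centralizer_iff]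
      intro x hx
      have := hKz hx
      rw [Subgroup.mem_centralizer_iff] at this
      exact (this z rfl).symm
    · rw [Subgroup.normalizer_eq_top]; exact le_top
    · rw [Subgroup.normalizer_eq_top]; exact le_top
    · intro r hr
      rw [Subgroup.mem_centralizer_iff]
      intro x hx
      have hrR : r ∈ R := hr.1
      have hrz : r ∈ Subgroup.centralizer ({z} : Set X) := by
        have h2 : r ∈ Subgroup.centralizer (Subgroup.zpowers z : Set X) := hr.2
        rw [Subgroup.mem_centralizer_iff] at h2 ⊢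
        intro h hh
        rw [Set.mem_singleton_iff] at hh
        subst hh
        exact h2 _ (Subgroup.mem_zpowers _)
      have h1 : r * x * r⁻¹ ∈ K := hKn r hrz x hx
      have h2 : r * x * r⁻¹ * x⁻¹ ∈ K := K.mul_mem h1 (K.inv_mem hx)
      have h3 : r * x * r⁻¹ * x⁻¹ ∈ R := by
        have h5 : x * r⁻¹ * x⁻¹ ∈ R := hRn.conj_mem _ (R.inv_mem hrR) x
        have h6 := R.mul_mem hrR h5
        have e : r * (x * r⁻¹ * x⁻¹) = r * x * r⁻¹ * x⁻¹ := by group
        rwa [e] at h6
      have h4 := hKR _ h2 h3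
      have h7 : r * x * r⁻¹ = x := mul_inv_eq_one.mp h4
      have h8 : r * x = x * r := mul_inv_eq_iff_eq_mul.mp h7
      exact h8.symm
  -- membership in `R` for elements of `W` centralizing `R`
  have hmemR : ∀ c : X, c ∈ W → c ∈ Subgroup.centralizer (R : Set X) → c ∈ R := by
    intro c hcW hcR
    have hc' : (⟨c, hcW⟩ : W) ∈ Subgroup.centralizer (pCore q W : Set W) := by
      rw [Subgroup.mem_centralizer_iff]
      intro y hy
      rw [Subgroup.mem_centralizer_iff] at hcR
      have := hcR (y : X) ⟨y, hy, rfl⟩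
      exact Subtype.ext this
    exact ⟨⟨c, hcW⟩, hCW hc', rfl⟩
  refine ⟨?_, ?_⟩
  · intro d hd
    rw [Subgroup.mem_centralizer_iff]
    intro w hw
    have hdR := hKR' hd
    rw [Subgroup.mem_centralizer_iff] at hdR
    -- the commutator `c = w d w⁻¹ d⁻¹`
    have hcW : w * d * w⁻¹ * d⁻¹ ∈ W := by
      have h5 : d * w⁻¹ * d⁻¹ ∈ W := hWn.conj_mem _ (W.inv_mem hw) d
      have h6 := W.mul_mem hw h5
      have e : w * (d * w⁻¹ * d⁻¹) = w * d * w⁻¹ * d⁻¹ := by group
      rwa [e] at h6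
    have hcC : w * d * w⁻¹ * d⁻¹ ∈ Subgroup.centralizer (R : Set X) := by
      rw [Subgroup.mem_centralizer_iff]
      intro r hr
      -- `r' = w⁻¹ r w ∈ R`
      have hr' : w⁻¹ * r * w ∈ R := by
        have := hRn.conj_mem r hr w⁻¹
        simpa using this
      have e1 : (w⁻¹ * r * w) * d = d * (w⁻¹ * r * w) := hdR _ hr'
      have e2 : r * d = d * r := hdR _ hr
      -- r * c = c * r
      have e3 : r * d⁻¹ = d⁻¹ * r := (Commute.inv_right (show Commute r d from e2)).eq
      calc r * (w * d * w⁻¹ * d⁻¹) = w * ((w⁻¹ * r * w) * d) * w⁻¹ * d⁻¹ := by group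
        _ = w * (d * (w⁻¹ * r * w)) * w⁻¹ * d⁻¹ := by rw [e1]
        _ = w * d * w⁻¹ * (r * d⁻¹) := by group
        _ = w * d * w⁻¹ * (d⁻¹ * r) := by rw [e3]
        _ = w * d * w⁻¹ * d⁻¹ * r := by group
    have hcR : w * d * w⁻¹ * d⁻¹ ∈ R := hmemR _ hcW hcC
    have hcd : (w * d * w⁻¹ * d⁻¹) * d = d * (w * d * w⁻¹ * d⁻¹) := hdR _ hcR
    obtain ⟨j, hj⟩ := hRp.exists_card_eq
    have hcop : (orderOf d).Coprime (Nat.card R) := by
      rw [hj]
      exact Nat.Coprime.pow_right _
        (Nat.Coprime.coprime_dvd_left (Subgroup.orderOf_dvd_natCard K hd) hKq)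
    exact Helper54.commute_of_comm_commute_of_coprime R w d hcR hcd (orderOf d)
      (pow_orderOf_eq_one d) hcop
  · rw [eq_bot_iff]
    intro x hx
    rw [Subgroup.mem_bot]
    exact hKR x hx.1 (hmemR x hx.2 (hKR' hx.1))

/-- Quotient form: in any finite group `L`, with `W` solvable normal, `z` a `q`-element, `K` a
`q'`-subgroup of `C_L(z)` normalized by `C_L(z)`, `E` a `q'`-subgroup normalized by `CP` and `L = W CP`:
`K ∩ E` and `K ∩ W` lie in `O_{q'}(L)`. -/
theorem core_control {L : Type*} [Group L] [Finite L] {q : ℕ} [hq : Fact q.Prime]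
    (W : Subgroup L) [hWn : W.Normal] (hW : Group.IsSolvable W)
    (z : L) (hz : ∃ k : ℕ, orderOf z = q ^ k) (K : Subgroup L)
    (hKz : K ≤ Subgroup.centralizer ({z} : Set L))
    (hKn : ∀ c ∈ Subgroup.centralizer ({z} : Set L), ∀ x ∈ K, c * x * c⁻¹ ∈ K)
    (hKq : (Nat.card K).Coprime q)
    (CP E : Subgroup L) (hEn : ∀ c ∈ CP, ∀ x ∈ E, c * x * c⁻¹ ∈ E)
    (hEq : (Nat.card E).Coprime q) (hsup : W ⊔ CP = ⊤) :
    K ⊓ E ≤ pPrimeCore q L ∧ K ⊓ W ≤ pPrimeCore q L := by
  classical
  set N : Subgroup L := pPrimeCore q L with hN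
  have hNn : N.Normal := (Helper54.pPrimeCore_mem q).1
  have hNq : (Nat.card N).Coprime q := Helper54.pPrimeCore_coprime q
  set π := QuotientGroup.mk' N with hπ
  have hπs : Function.Surjective π := QuotientGroup.mk'_surjective N
  have hO : pPrimeCore q (L ⧸ N) = ⊥ := Helper54.pPrimeCore_quotient_eq_bot q
  have hWbn : (W.map π).Normal := hWn.map π hπs
  have hWbs : Group.IsSolvable (W.map π) := by
    have := hW
    exact Group.isSolvable_of_surjective (MonoidHom.subgroupMap_surjective π W)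
  have hzb : ∃ k : ℕ, orderOf (π z) = q ^ k := by
    obtain ⟨k, hk⟩ := hz
    have h1 : orderOf (π z) ∣ q ^ k := hk ▸ orderOf_map_dvd π z
    obtain ⟨j, _, hj⟩ := (Nat.dvd_prime_pow hq.out).mp h1
    exact ⟨j, hj⟩
  have hzp : IsPGroup q (Subgroup.zpowers z) := by
    obtain ⟨k, hk⟩ := hz
    exact IsPGroup.of_card (by rw [Nat.card_zpowers, hk])
  have hKbz : K.map π ≤ Subgroup.centralizer ({π z} : Set (L ⧸ N)) := by
    rintro _ ⟨x, hx, rfl⟩
    have h1 := hKz hx
    rw [Subgroup.mem_centralizer_iff] at h1 ⊢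
    intro h hh
    rw [Set.mem_singleton_iff] at hh
    subst hh
    have e := h1 z rfl
    rw [← map_mul, ← map_mul, e]
  have hKbq : (Nat.card (K.map π)).Coprime q :=
    Nat.Coprime.coprime_dvd_left (Subgroup.card_map_dvd K π) hKq
  have hEbq : (Nat.card (E.map π)).Coprime q :=
    Nat.Coprime.coprime_dvd_left (Subgroup.card_map_dvd E π) hEq
  have hKbn : ∀ c ∈ Subgroup.centralizer ({π z} : Set (L ⧸ N)), ∀ x ∈ K.map π,
      c * x * c⁻¹ ∈ K.map π := by
    intro c hc x hx
    obtain ⟨c₀, rfl⟩ := hπs c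
    obtain ⟨x₀, hx₀, rfl⟩ := hx
    have hcz : π z * π c₀ = π c₀ * π z := by
      rw [Subgroup.mem_centralizer_iff] at hc
      exact hc _ rfl
    have hg : ∀ t ∈ Subgroup.zpowers z, c₀ * t * c₀⁻¹ * t⁻¹ ∈ N := by
      intro t ht
      obtain ⟨n, rfl⟩ := Subgroup.mem_zpowers_iff.mp ht
      rw [← QuotientGroup.eq_one_iff]
      show π (c₀ * z ^ n * c₀⁻¹ * (z ^ n)⁻¹) = 1
      rw [map_mul, map_mul, map_mul, map_inv, map_inv, map_zpow]
      have hcomm : Commute (π c₀) (π z ^ n) := (Commute.zpow_right (show Commute (π c₀) (π z) from hcz.symm) n)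
      rw [hcomm.eq, mul_inv_cancel_right, mul_inv_cancel]
    obtain ⟨m, hm, hmc⟩ := Helper10.exists_mul_mem_centralizer_of_commutator_mem hzp hNq c₀ hg
    have hmc' : m * c₀ ∈ Subgroup.centralizer ({z} : Set L) := by
      rw [Subgroup.mem_centralizer_iff] at hmc ⊢
      intro h hh
      rw [Set.mem_singleton_iff] at hh
      subst hh
      exact hmc _ (Subgroup.mem_zpowers _)
    have h1 := hKn _ hmc' x₀ hx₀
    have hπm : π (m * c₀) = π c₀ := by
      rw [map_mul]
      have : π m = 1 := (QuotientGroup.eq_one_iff m).mpr hm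
      rw [this, one_mul]
    refine ⟨(m * c₀) * x₀ * (m * c₀)⁻¹, h1, ?_⟩
    rw [map_mul, map_mul, map_inv, hπm]
  obtain ⟨hcent, hdisj⟩ :=
    centralizes_solvable_normal hO (W.map π) hWbs (π z) hzb (K.map π) hKbz hKbn hKbq
  constructor
  · set A : Subgroup (L ⧸ N) :=
      E.map π ⊓ Subgroup.centralizer ((W.map π : Subgroup (L ⧸ N)) : Set (L ⧸ N)) with hA
    have hconj : ∀ c ∈ CP, ∀ a ∈ A, π c * a * (π c)⁻¹ ∈ A := by
      intro c hc a ha
      refine ⟨?_, ?_⟩
      · obtain ⟨e, he, rfl⟩ := ha.1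
        exact ⟨c * e * c⁻¹, hEn c hc e he, by rw [map_mul, map_mul, map_inv]⟩
      · have hcn : (Subgroup.centralizer ((W.map π : Subgroup (L ⧸ N)) : Set (L ⧸ N))).Normal :=
          inferInstance
        exact hcn.conj_mem a ha.2 (π c)
    have hAn : A.Normal := by
      rw [← Subgroup.normalizer_eq_top_iff, eq_top_iff]
      have htop : (⊤ : Subgroup (L ⧸ N)) = W.map π ⊔ CP.map π := by
        rw [← Subgroup.map_sup, hsup, ← MonoidHom.range_eq_map, MonoidHom.range_eq_top.mpr hπs]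
      rw [htop, sup_le_iff]
      constructor
      · refine le_trans ?_ (Subgroup.centralizer_le_normalizer _)
        rw [Subgroup.le_centralizer_iff]
        exact inf_le_right
      · rintro _ ⟨c, hc, rfl⟩
        rw [Subgroup.mem_normalizer_iff]
        intro a
        constructor
        · intro ha
          exact hconj c hc a ha
        · intro ha
          have h2 := hconj c⁻¹ (CP.inv_mem hc) _ ha
          have e : π c⁻¹ * (π c * a * (π c)⁻¹) * (π c⁻¹)⁻¹ = a := by
            rw [map_inv]; group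
          rwa [e] at h2
    have hAq : (Nat.card A).Coprime q :=
      Nat.Coprime.coprime_dvd_left (Subgroup.card_dvd_of_le inf_le_left) hEbq
    have hA0 : A = ⊥ := by
      have h3 := Helper54.le_pPrimeCore hAn hAq
      rw [hO] at h3
      exact le_bot_iff.mp h3
    intro x hx
    have h4 : π x ∈ A := ⟨⟨x, hx.2, rfl⟩, hcent ⟨x, hx.1, rfl⟩⟩
    rw [hA0, Subgroup.mem_bot] at h4
    exact (QuotientGroup.eq_one_iff x).mp h4
  · intro x hx
    have h4 : π x ∈ K.map π ⊓ W.map π := ⟨⟨x, hx.1, rfl⟩, ⟨x, hx.2, rfl⟩⟩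
    rw [hdisj, Subgroup.mem_bot] at h4
    exact (QuotientGroup.eq_one_iff x).mp h4

/-- The image in `G` of `O_{q'}(A)` is normalized by `N_G(A)`. -/
theorem conj_mem_map_pPrimeCore {G : Type*} [Group G] (q : ℕ) (A : Subgroup G) (g : G)
    (hg : g ∈ Subgroup.normalizer (A : Set G)) (x : G)
    (hx : x ∈ (pPrimeCore q A).map A.subtype) :
    g * x * g⁻¹ ∈ (pPrimeCore q A).map A.subtype := by
  obtain ⟨y, hy, rfl⟩ := hx
  have hmem : ∀ a : G, a ∈ A → g * a * g⁻¹ ∈ A := fun a ha =>
    (Subgroup.mem_normalizer_iff.mp hg a).mp ha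
  have hmem' : ∀ a : G, a ∈ A → g⁻¹ * a * g ∈ A := by
    intro a ha
    refine (Subgroup.mem_normalizer_iff.mp hg (g⁻¹ * a * g)).mpr ?_
    have e : g * (g⁻¹ * a * g) * g⁻¹ = a := by group
    rwa [e]
  let φ : A ≃* A :=
    { toFun := fun a => ⟨g * a * g⁻¹, hmem a a.2⟩
      invFun := fun a => ⟨g⁻¹ * a * g, hmem' a a.2⟩
      left_inv := fun a => Subtype.ext (by simp [mul_assoc])
      right_inv := fun a => Subtype.ext (by simp [mul_assoc])
      map_mul' := fun a b => Subtype.ext (by simp [mul_assoc]) }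
  have hchar : (pPrimeCore q A).Characteristic := inferInstance
  have h1 := hchar.fixed φ.symm
  have h2 : φ y ∈ (pPrimeCore q A).comap φ.symm.toMonoidHom := by
    rw [Subgroup.mem_comap]
    simpa using hy
  rw [h1] at h2
  exact ⟨φ y, h2, rfl⟩

end Cfsg.Agent.Helper83.CoreCtl
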