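import Mathlib
import Cfsg.Prelude.Def_EvenType

/-!
# Three independent commuting involutions give 2-rank at least 3 (helper83, for S1788 / E8C2)
-/

set_option autoImplicit false

namespace Cfsg.Agent.Helper83.E8C2

open Cfsg

/-- Three pairwise commuting involutions `z1 z2 z3` of a finite group with `z1 ≠ 1`, `z2 ∉ {1, z1}`,
`z3 ∉ {1, z1, z2, z1 * z2}` generate an elementary abelian subgroup of order at least 8. -/
theorem pRankAtLeast_two_three_of_involutions {G : Type*} [Group G] [Finite G] (z1 z2 z3 : G)
    (h1 : z1 * z1 = 1) (h2 : z2 * z2 = 1) (h3 : z3 * z3 = 1)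
    (c12 : z1 * z2 = z2 * z1) (c13 : z1 * z3 = z3 * z1) (c23 : z2 * z3 = z3 * z2)
    (d1 : z1 ≠ 1) (d2 : z2 ≠ 1) (d21 : z2 ≠ z1)
    (d3 : z3 ≠ 1) (d31 : z3 ≠ z1) (d32 : z3 ≠ z2) (d312 : z3 ≠ z1 * z2) :
    PRankAtLeast 2 3 G := by
  classical
  set S : Set G := {z1, z2, z3} with hS
  set A : Subgroup G := Subgroup.closure S with hA
  have hcommS : ∀ x ∈ S, ∀ y ∈ S, x * y = y * x := by
    intro x hx y hy
    simp only [hS, Set.mem_insert_iff, Set.mem_singleton_iff] at hx hy
    rcases hx with rfl | rfl | rfl <;> rcases hy with rfl | rfl | rfl <;>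
      first | rfl | assumption | (symm; assumption)
  -- A is commutative
  have hcomm : ∀ a ∈ A, ∀ b ∈ A, a * b = b * a := by
    intro a ha b hb
    have hle : A ≤ Subgroup.centralizer (A : Set G) := by
      rw [hA, Subgroup.closure_le]
      intro x hx
      rw [SetLike.mem_coe, Subgroup.mem_centralizer_iff]
      intro y hy
      have hle2 : Subgroup.closure S ≤ Subgroup.centralizer ({x} : Set G) := by
        rw [Subgroup.closure_le]
        intro w hw
        rw [SetLike.mem_coe, Subgroup.mem_centralizer_iff]
        intro v hv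
        rw [Set.mem_singleton_iff] at hv
        subst hv
        exact hcommS v hx w hw
      have := hle2 hy
      rw [Subgroup.mem_centralizer_iff] at this
      exact (this x (Set.mem_singleton x)).symm
    have := hle hb
    rw [Subgroup.mem_centralizer_iff] at this
    exact this a ha
  -- exponent 2
  have hexp : ∀ a ∈ A, a ^ 2 = 1 := by
    intro a ha
    induction ha using Subgroup.closure_induction with
    | mem x hx =>
      simp only [hS, Set.mem_insert_iff, Set.mem_singleton_iff] at hx
      rcases hx with rfl | rfl | rfl <;> rw [pow_two] <;> assumption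
    | one => simp
    | mul x y hx hy hx2 hy2 =>
      have hxy : x * y = y * x := hcomm x hx y hy
      calc (x * y) ^ 2 = x * y * (x * y) := pow_two _
        _ = x * (y * x) * y := by group
        _ = x * (x * y) * y := by rw [hxy]
        _ = x ^ 2 * y ^ 2 := by rw [pow_two, pow_two]; group
        _ = 1 := by rw [hx2, hy2, one_mul]
    | inv x hx hx2 =>
      rw [inv_pow, hx2, inv_one]
  have hz1 : z1 ∈ A := Subgroup.subset_closure (by simp [hS])
  have hz2 : z2 ∈ A := Subgroup.subset_closure (by simp [hS])
  have hz3 : z3 ∈ A := Subgroup.subset_closure (by simp [hS])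
  have hz12 : z1 * z2 ∈ A := A.mul_mem hz1 hz2
  refine ⟨A, ⟨⟨fun a b => Subtype.ext (hcomm a.1 a.2 b.1 b.2)⟩⟩, hexp, ?_⟩
  -- card A is a power of 2 and at least 5
  have hp : IsPGroup 2 A := by
    intro a
    refine ⟨1, ?_⟩
    apply Subtype.ext
    rw [pow_one, Subgroup.coe_pow, Subgroup.coe_one]
    exact hexp a.1 a.2
  obtain ⟨n, hn⟩ := hp.exists_card_eq
  have h5 : 5 ≤ Nat.card A := by
    have hinj : Function.Injective
        (fun i : Fin 5 => (![(⟨1, A.one_mem⟩ : A), ⟨z1, hz1⟩, ⟨z2, hz2⟩, ⟨z1 * z2, hz12⟩, ⟨z3, hz3⟩] i)) := by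
      have e12 : z1 * z2 ≠ 1 := by
        intro h
        apply d21
        have : z2 = z1⁻¹ := (eq_inv_of_mul_eq_one_right h)
        have hz1inv : z1⁻¹ = z1 := inv_eq_of_mul_eq_one_right h1
        rw [this, hz1inv]
      have e12a : z1 * z2 ≠ z1 := by
        intro h
        exact d2 (by simpa using h)
      have e12b : z1 * z2 ≠ z2 := by
        intro h
        exact d1 (by simpa using h)
      intro i j hij
      fin_cases i <;> fin_cases j <;> simp [Subtype.ext_iff] at hij ⊢ <;>
        first
          | exact absurd hij d1 | exact absurd hij.symm d1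
          | exact absurd hij d2 | exact absurd hij.symm d2
          | exact absurd hij d3 | exact absurd hij.symm d3
          | exact absurd hij d21 | exact absurd hij.symm d21
          | exact absurd hij d31 | exact absurd hij.symm d31
          | exact absurd hij d32 | exact absurd hij.symm d32
          | exact absurd hij d312 | exact absurd hij.symm d312
          | exact absurd hij e12 | exact absurd hij.symm e12
          | exact absurd hij e12a | exact absurd hij.symm e12a
          | exact absurd hij e12b | exact absurd hij.symm e12b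
    have := Nat.card_le_card_of_injective _ hinj
    simpa using this
  rw [hn] at h5 ⊢
  have hn3 : 3 ≤ n := by
    by_contra hlt
    have : 2 ^ n ≤ 2 ^ 2 := Nat.pow_le_pow_right (by norm_num) (by omega)
    omega
  exact Nat.pow_le_pow_right (by norm_num) hn3

end Cfsg.Agent.Helper83.E8C2
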