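import Mathlib
import Cfsg.Prelude.Def_FusionSystem
import Cfsg.Agent.Lib.Helper87.FusionAut
import Cfsg.Agent.Lib.Helper84.FusAlp3

/-!
Subsystem of a fusion system cut out by a predicate on maps, and the Alperin–Goldschmidt
fusion theorem (essential subgroups) as an induction principle on predicates.
-/

set_option autoImplicit false

namespace Cfsg.Agent.Helper83

open Cfsg Cfsg.FusionSystem Cfsg.Agent.Helper87

variable {Ω : Type*} [Group Ω] {S : Subgroup Ω}

/-- closure conditions for a predicate on the maps of `F` making it a subsystem over the same `S` -/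
structure SubClosed (F : FusionSystem S) (C : Subgroup Ω → (Ω → Ω) → Prop) : Prop where
  congr : ∀ {P : Subgroup Ω} {f f' : Ω → Ω}, C P f → (∀ x ∈ P, f x = f' x) → C P f'
  conj : ∀ {P : Subgroup Ω} {s : Ω}, P ≤ S → s ∈ S → C P (fun x => s * x * s⁻¹)
  comp : ∀ {P Q : Subgroup Ω} {f g : Ω → Ω}, Mor F P f → Mor F Q g → (∀ x ∈ P, f x ∈ Q) →
    C P f → C Q g → C P (fun x => g (f x))
  inv : ∀ {P Q : Subgroup Ω} {f g : Ω → Ω}, Iso F P Q f → Iso F Q P g → (∀ x ∈ P, g (f x) = x) →
    (∀ y ∈ Q, f (g y) = y) → C P f → C Q g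

/-- the subsystem of `F` (over the same `S`) of the maps satisfying a closed predicate -/
def subSys (F : FusionSystem S) (C : Subgroup Ω → (Ω → Ω) → Prop) (hC : SubClosed F C) :
    FusionSystem S where
  Hom P := {φ | φ ∈ F.Hom P ∧ C P (extFun φ)}
  le_of_mem h := F.le_of_mem h.1
  injective_of_mem h := F.injective_of_mem h.1
  conj_mem := by
    intro P g hP hg
    refine ⟨F.conj_mem hP hg, hC.congr (hC.conj hP hg) (fun x hx => ?_)⟩
    rw [extFun_mem _ hx]
    rfl
  comp_mem := by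
    intro P Q φ ψ hφ hψ h
    refine ⟨F.comp_mem hφ.1 hψ.1 h, ?_⟩
    have hPQ : ∀ x ∈ P, extFun φ x ∈ Q := by
      intro x hx
      rw [extFun_mem φ hx]
      exact h ⟨x, hx⟩
    refine hC.congr (hC.comp (mor_of_mem hφ.1) (mor_of_mem hψ.1) hPQ hφ.2 hψ.2) (fun x hx => ?_)
    show extFun ψ (extFun φ x) = extFun (ψ.comp (φ.codRestrict Q h)) x
    rw [extFun_mem (ψ.comp (φ.codRestrict Q h)) hx, extFun_mem φ hx, extFun_mem ψ (h ⟨x, hx⟩)]
    rfl
  inv_mem := by
    intro P φ hφ
    obtain ⟨ψ, hψ, e⟩ := F.inv_mem hφ.1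
    refine ⟨ψ, ⟨hψ, ?_⟩, e⟩
    have h1 : Iso F P φ.range (extFun φ) := iso_of_mem hφ.1
    have k1 : ∀ x ∈ P, extFun ψ (extFun φ x) = x := by
      intro x hx
      rw [extFun_mem φ hx, extFun_mem ψ ⟨⟨x, hx⟩, rfl⟩]
      exact e ⟨x, hx⟩
    have h2 : Iso F φ.range P (extFun ψ) := by
      refine ⟨mor_of_mem hψ, fun y => ⟨fun hy => ?_, ?_⟩⟩
      · exact ⟨extFun φ y, h1.map_mem hy, k1 y hy⟩
      · rintro ⟨x, hx, rfl⟩
        obtain ⟨z, hz, rfl⟩ := h1.surj hx
        rw [k1 z hz]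
        exact hz
    have k2 : ∀ y ∈ φ.range, extFun φ (extFun ψ y) = y := by
      intro y hy
      obtain ⟨z, hz, rfl⟩ := h1.surj hy
      rw [k1 z hz]
    exact hC.inv h1 h2 k1 k2 hφ.2

theorem mem_subSys_hom {F : FusionSystem S} {C : Subgroup Ω → (Ω → Ω) → Prop} {hC : SubClosed F C}
    {P : Subgroup Ω} {φ : P →* Ω} : φ ∈ (subSys F C hC).Hom P ↔ φ ∈ F.Hom P ∧ C P (extFun φ) :=
  Iff.rfl

theorem mor_subSys_iff {F : FusionSystem S} {C : Subgroup Ω → (Ω → Ω) → Prop} {hC : SubClosed F C}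
    {P : Subgroup Ω} {f : Ω → Ω} : Mor (subSys F C hC) P f ↔ Mor F P f ∧ C P f := by
  constructor
  · rintro ⟨φ, ⟨hφ, hc⟩, e⟩
    exact ⟨⟨φ, hφ, e⟩, hC.congr hc (fun x hx => by rw [extFun_mem φ hx, e])⟩
  · rintro ⟨⟨φ, hφ, e⟩, hc⟩
    exact ⟨φ, ⟨hφ, hC.congr hc (fun x hx => by rw [extFun_mem φ hx, e])⟩, e⟩

/-- **Alperin–Goldschmidt fusion theorem** as an induction principle: a predicate on the maps of a saturated
system that is closed under restriction to agreement, conjugation by `S`, composition and inverses, and holds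
for the automorphisms in the system of `S` and of the essential subgroups, holds for every map. -/
theorem alperin_essential {p : ℕ} [Fact p.Prime] [Finite S] (hS : IsPGroup p S) {F : FusionSystem S}
    (hF : F.IsSaturated p) (C : Subgroup Ω → (Ω → Ω) → Prop) (hC : SubClosed F C)
    (haut : ∀ P : Subgroup Ω, (P = S ∨ F.IsEssential p P) → ∀ α ∈ F.autGroup P, C P (extAut α)) :
    ∀ (P : Subgroup Ω) (f : Ω → Ω), Mor F P f → C P f := by
  intro P f hf
  obtain ⟨φ, hφ, e⟩ := hf
  have key := Helper84.alperin F hS hF (subSys F C hC) (by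
    intro R hR α hα
    have hRS : R ≤ S := by
      rcases hR with h | h
      · exact h.le
      · exact h.1.1
    have hmor : Mor F R (extAut α) := (mem_autGroup_iff hRS).1 hα
    apply Subgroup.subset_closure
    show R.subtype.comp α.toMonoidHom ∈ (subSys F C hC).Hom R
    exact ⟨mem_hom_iff_mor.2 hmor, haut R hR α hα⟩) P hφ
  exact hC.congr key.2 (fun x hx => by rw [extFun_mem φ hx, e])

end Cfsg.Agent.Helper83
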