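import Mathlib
import Cfsg.Agent.Lib.Helper83.ChainP
import Cfsg.Agent.Lib.Helper83.ElemAbSL2
import Cfsg.Agent.Lib.Helper47.Frat
import Cfsg.Agent.S0012

set_option autoImplicit false

/-!
# Abelian `p`-groups of rank two with a group of automorphisms `A` with `O_p(A) = 1`, `p ∣ |A|`
-/

namespace Cfsg.Agent.Helper83

section frat

variable {H : Type*} [CommGroup H] [Finite H] {p : ℕ} [hp : Fact p.Prime]

theorem mem_range_powMonoidHom {n : ℕ} {x : H} :
    x ∈ (powMonoidHom n : H →* H).range ↔ ∃ y : H, y ^ n = x := MonoidHom.mem_range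

theorem frattini_eq_range_pow (hH : IsPGroup p H) :
    frattini H = (powMonoidHom p : H →* H).range := by
  apply le_antisymm
  · have := Cfsg.Agent.Helper47.frattini_le_ker_of_elementary (p := p)
      (QuotientGroup.mk' (powMonoidHom p : H →* H).range) (fun x y => mul_comm _ _)
      (fun x => by
        rw [← map_pow, QuotientGroup.mk'_apply, QuotientGroup.eq_one_iff]
        exact ⟨x, rfl⟩)
    rwa [QuotientGroup.ker_mk'] at this
  · rintro _ ⟨x, rfl⟩
    exact (Cfsg.Agent.S0012.result p hH).2 x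

end frat

section chainU

variable {H : Type*} [CommGroup H] [Finite H] {p : ℕ} [hp : Fact p.Prime]

/-- the chain `⊤ ≥ U ≥ ℧¹ ≥ U^p ≥ ℧² ≥ ...` -/
def chainU (p : ℕ) (U : Subgroup H) : ℕ → Subgroup H
  | 0 => ⊤
  | 1 => U
  | (k + 2) => (chainU p U k).map (powMonoidHom p)

theorem chainU_inv (U : Subgroup H) (α : MulAut H) (hU : ∀ x ∈ U, α x ∈ U) :
    ∀ k, ∀ x ∈ chainU p U k, α x ∈ chainU p U k := by
  intro k
  induction k using Nat.twoStepInduction with
  | zero => intro x _; exact Subgroup.mem_top _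
  | one => exact hU
  | more k ih _ =>
    rintro _ ⟨y, hy, rfl⟩
    refine ⟨α y, ih y hy, ?_⟩
    simp [powMonoidHom_apply]

theorem chainU_step (U : Subgroup H) (β : MulAut H) (h1 : ∀ x, x⁻¹ * β x ∈ U)
    (h2 : ∀ x ∈ U, ∃ w : H, w ^ p = x⁻¹ * β x) :
    ∀ k, ∀ x ∈ chainU p U k, x⁻¹ * β x ∈ chainU p U (k + 1) := by
  intro k
  induction k using Nat.twoStepInduction with
  | zero => intro x _; exact h1 x
  | one =>
    intro x hx
    obtain ⟨w, hw⟩ := h2 x hx
    exact ⟨w, Subgroup.mem_top _, hw⟩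
  | more k ih _ =>
    rintro _ ⟨y, hy, rfl⟩
    refine ⟨y⁻¹ * β y, ih y hy, ?_⟩
    simp [powMonoidHom_apply, mul_pow]

theorem chainU_even (U : Subgroup H) (i : ℕ) :
    ∀ x ∈ chainU p U (2 * i), ∃ y : H, y ^ p ^ i = x := by
  induction i with
  | zero => intro x _; exact ⟨x, by simp⟩
  | succ i ih =>
    rintro _ ⟨y, hy, rfl⟩
    obtain ⟨w, rfl⟩ := ih y hy
    refine ⟨w, ?_⟩
    rw [powMonoidHom_apply, ← pow_mul, ← pow_succ]

/-- an automorphism in `A` stabilizing `⊤ ≥ U ≥ ℧¹` is trivial when `O_p(A) = 1` -/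
theorem eq_one_of_stabilizes (hH : IsPGroup p H) (A : Subgroup (MulAut H))
    (hOp : ∀ M : Subgroup A, M.Normal → IsPGroup p M → M = ⊥)
    (U : Subgroup H) (hU : ∀ α ∈ A, ∀ x ∈ U, α x ∈ U) {β : MulAut H} (hβ : β ∈ A)
    (h1 : ∀ x, x⁻¹ * β x ∈ U) (h2 : ∀ x ∈ U, ∃ w : H, w ^ p = x⁻¹ * β x) : β = 1 := by
  obtain ⟨a, ha⟩ := IsPGroup.iff_card.1 hH
  have hexp : ∀ x : H, x ^ p ^ a = 1 := fun x => by rw [← ha]; exact pow_card_eq_one'
  have hbot : chainU p U (2 * a) = ⊥ := by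
    rw [eq_bot_iff]
    intro x hx
    obtain ⟨y, rfl⟩ := chainU_even U a x hx
    rw [Subgroup.mem_bot]
    exact hexp y
  have hmem := Cfsg.Agent.Helper86.chain_stabilizer_mem_pCore hH A (chainU p U) (2 * a) rfl hbot
    (fun k α hα => chainU_inv U α (hU α hα) k) β hβ
    (fun k _ => chainU_step U β h1 h2 k)
  have hcore : Cfsg.pCore p A = ⊥ :=
    hOp _ (pCore_normal83 (G := A) p) (pCore_isPGroup83 (G := A) p)
  rw [hcore, Subgroup.mem_bot] at hmem
  exact congrArg Subtype.val hmem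

end chainU

section rank2

variable {H : Type*} [CommGroup H] [Finite H] {p : ℕ} [hp : Fact p.Prime]

/-- `℧¹(H)`, the subgroup of `p`-th powers -/
abbrev agemo (p : ℕ) (H : Type*) [CommGroup H] : Subgroup H := (powMonoidHom p : H →* H).range

theorem mem_agemo {x : H} : x ∈ agemo p H ↔ ∃ y : H, y ^ p = x := MonoidHom.mem_range

theorem agemo_inv (α : MulAut H) : ∀ x ∈ agemo p H, α x ∈ agemo p H := by
  rintro _ ⟨y, rfl⟩
  exact ⟨α y, by simp [powMonoidHom_apply]⟩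

theorem map_eq_of_forall_aut (K : Subgroup H) (h : ∀ α : MulAut H, ∀ x ∈ K, α x ∈ K)
    (σ : MulAut H) : K.map (σ : H →* H) = K := by
  ext x
  constructor
  · rintro ⟨y, hy, rfl⟩
    exact h σ y hy
  · intro hx
    refine ⟨σ⁻¹ x, h σ⁻¹ x hx, ?_⟩
    show σ (σ⁻¹ x) = x
    simp

theorem false_of_all_stab (hH : IsPGroup p H) (A : Subgroup (MulAut H))
    (hOp : ∀ M : Subgroup A, M.Normal → IsPGroup p M → M = ⊥) (hdvd : p ∣ Nat.card A)
    (U : Subgroup H) (hU : ∀ α : MulAut H, ∀ x ∈ U, α x ∈ U)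
    (hkey : ∀ σ ∈ A, σ ^ p = 1 →
      (∀ x, x⁻¹ * σ x ∈ U) ∧ (∀ x ∈ U, ∃ w : H, w ^ p = x⁻¹ * σ x)) : False := by
  obtain ⟨σ, hσ⟩ := exists_prime_orderOf_dvd_card' p hdvd
  have hσp : (σ : MulAut H) ^ p = 1 := by
    have : σ ^ p = 1 := by rw [← hσ]; exact pow_orderOf_eq_one σ
    exact congrArg Subtype.val this
  obtain ⟨h1, h2⟩ := hkey σ σ.2 hσp
  have h3 : (σ : MulAut H) = 1 := eq_one_of_stabilizes hH A hOp U (fun α _ => hU α) σ.2 h1 h2
  have h4 : σ = 1 := Subtype.ext h3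
  rw [h4, orderOf_one] at hσ
  exact hp.out.one_lt.ne hσ

theorem index_agemo_eq (hH : IsPGroup p H) (A : Subgroup (MulAut H))
    (hOp : ∀ M : Subgroup A, M.Normal → IsPGroup p M → M = ⊥) (hdvd : p ∣ Nat.card A)
    (hrk : (agemo p H).index ≤ p ^ 2) : (agemo p H).index = p ^ 2 := by
  have hpp := hp.out
  obtain ⟨a, ha⟩ := IsPGroup.iff_card.1 hH
  obtain ⟨k, -, hk⟩ := (Nat.dvd_prime_pow hpp).1 (ha ▸ Subgroup.index_dvd_card (agemo p H))
  have hk2 : k ≤ 2 := by
    rw [hk] at hrk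
    exact (Nat.pow_le_pow_iff_right hpp.one_lt).1 hrk
  interval_cases k
  · exfalso
    rw [pow_zero, Subgroup.index_eq_one] at hk
    apply false_of_all_stab hH A hOp hdvd ⊤ (fun _ _ _ => Subgroup.mem_top _)
    intro σ _ _
    refine ⟨fun x => Subgroup.mem_top _, fun x _ => ?_⟩
    have : x⁻¹ * σ x ∈ agemo p H := by rw [hk]; exact Subgroup.mem_top _
    exact mem_agemo.1 this
  · exfalso
    rw [pow_one] at hk
    apply false_of_all_stab hH A hOp hdvd (agemo p H) agemo_inv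
    intro σ _ hσp
    have h1 : ∀ x, x⁻¹ * σ x ∈ agemo p H := fun x =>
      inv_mul_apply_mem_of_index_prime (agemo p H) hk σ
        (map_eq_of_forall_aut _ agemo_inv σ) (n := 1) (by rw [pow_one]; exact hσp) x
    refine ⟨h1, fun x _ => mem_agemo.1 (h1 x)⟩
  · exact hk

/-- `Ω_{a-1}(H) = ℧¹(H)` when `H` has exponent `p ^ a` -/
theorem omega_le_agemo (hH : IsPGroup p H) (A : Subgroup (MulAut H))
    (hOp : ∀ M : Subgroup A, M.Normal → IsPGroup p M → M = ⊥) (hdvd : p ∣ Nat.card A)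
    (hidx : (agemo p H).index = p ^ 2) (a : ℕ) (ha : 1 ≤ a) (hexp : ∀ x : H, x ^ p ^ a = 1)
    (hmin : ∃ x : H, x ^ p ^ (a - 1) ≠ 1) :
    ∀ x : H, x ^ p ^ (a - 1) = 1 → ∃ w : H, w ^ p = x := by
  have hpp := hp.out
  set U : Subgroup H := (powMonoidHom (p ^ (a - 1)) : H →* H).ker with hU
  have hUmem : ∀ x : H, x ∈ U ↔ x ^ p ^ (a - 1) = 1 := fun x => MonoidHom.mem_ker
  have hle : agemo p H ≤ U := by
    rintro _ ⟨y, rfl⟩
    rw [hUmem, powMonoidHom_apply, ← pow_mul, ← pow_succ', Nat.sub_add_cancel ha]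
    exact hexp y
  have hUinv : ∀ α : MulAut H, ∀ x ∈ U, α x ∈ U := by
    intro α x hx
    rw [hUmem] at hx ⊢
    rw [← map_pow, hx, map_one]
  by_contra hcon
  push Not at hcon
  obtain ⟨x₀, hx₀, hx₀'⟩ := hcon
  have hUtop : U ≠ ⊤ := by
    obtain ⟨x, hx⟩ := hmin
    intro h
    apply hx
    rw [← hUmem, h]
    exact Subgroup.mem_top _
  have hmul := Subgroup.relIndex_mul_index hle
  rw [hidx] at hmul
  have h1 : U.index ≠ 1 := fun h => hUtop (Subgroup.index_eq_one.1 h)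
  have h2 : (agemo p H).relIndex U ≠ 1 := by
    intro h
    rw [Subgroup.relIndex_eq_one] at h
    obtain ⟨w, hw⟩ := mem_agemo.1 (h ((hUmem x₀).2 hx₀))
    exact hx₀' w hw
  obtain ⟨i, hi2, hi⟩ := (Nat.dvd_prime_pow hpp).1 (Dvd.intro_left _ hmul)
  obtain ⟨j, hj2, hj⟩ := (Nat.dvd_prime_pow hpp).1 (Dvd.intro _ hmul)
  rw [hi, hj, ← pow_add] at hmul
  have hij : j + i = 2 := Nat.pow_right_injective hpp.two_le hmul
  have hi0 : i ≠ 0 := by rintro rfl; exact h1 (by rw [hi, pow_zero])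
  have hj0 : j ≠ 0 := by rintro rfl; exact h2 (by rw [hj, pow_zero])
  have hi1 : i = 1 := by omega
  have hj1 : j = 1 := by omega
  rw [hi1, pow_one] at hi
  rw [hj1, pow_one] at hj
  apply false_of_all_stab hH A hOp hdvd U hUinv
  intro σ _ hσp
  have hσp' : σ ^ p ^ 1 = 1 := by rw [pow_one]; exact hσp
  refine ⟨fun x => inv_mul_apply_mem_of_index_prime U hi σ
    (map_eq_of_forall_aut _ hUinv σ) hσp' x, fun x hx => ?_⟩
  have := inv_mul_apply_mem_of_relIndex_prime (agemo p H) U hj σ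
    (agemo_inv σ) (agemo_inv σ⁻¹) (hUinv σ) (hUinv σ⁻¹) hσp' x hx
  exact mem_agemo.1 this

end rank2

section quot

variable {H : Type*} [CommGroup H] [Finite H] {p : ℕ} [hp : Fact p.Prime]

theorem quot_pow_eq_one (v : H ⧸ agemo p H) : v ^ p = 1 := by
  induction v using QuotientGroup.induction_on with
  | H x =>
    rw [← QuotientGroup.mk_pow, QuotientGroup.eq_one_iff]
    exact ⟨x, rfl⟩

/-- the homomorphism `(i, j) ↦ x ^ i * y ^ j` -/
def pairHom (n : ℕ) [NeZero n] (x y : H) (hx : x ^ n = 1) (hy : y ^ n = 1) :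
    Multiplicative (ZMod n × ZMod n) →* H :=
  MonoidHom.mk' (fun v => x ^ (Multiplicative.toAdd v).1.val * y ^ (Multiplicative.toAdd v).2.val)
    (by
      intro v w
      simp only [toAdd_mul, Prod.fst_add, Prod.snd_add]
      rw [ZMod.val_add, ZMod.val_add, ← pow_eq_pow_mod _ hx, ← pow_eq_pow_mod _ hy, pow_add,
        pow_add]
      exact mul_mul_mul_comm _ _ _ _)

theorem pairHom_apply (n : ℕ) [NeZero n] (x y : H) (hx : x ^ n = 1) (hy : y ^ n = 1)
    (v : Multiplicative (ZMod n × ZMod n)) :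
    pairHom n x y hx hy v =
      x ^ (Multiplicative.toAdd v).1.val * y ^ (Multiplicative.toAdd v).2.val := rfl

theorem pairHom_natCast (n : ℕ) [NeZero n] (x y : H) (hx : x ^ n = 1) (hy : y ^ n = 1)
    (i j : ℕ) :
    pairHom n x y hx hy (Multiplicative.ofAdd ((i : ZMod n), (j : ZMod n))) = x ^ i * y ^ j := by
  rw [pairHom_apply]
  simp only [toAdd_ofAdd, ZMod.val_natCast]
  rw [← pow_eq_pow_mod _ hx, ← pow_eq_pow_mod _ hy]

variable (hidx : (agemo p H).index = p ^ 2)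
include hidx

/-- basis data: `x, y` whose images form a basis of `H / ℧¹(H)` -/
theorem dvd_of_mem_agemo {x y : H}
    (he₁ : (x : H ⧸ agemo p H) ≠ 1)
    (he₂ : (y : H ⧸ agemo p H) ∉ Subgroup.zpowers (x : H ⧸ agemo p H)) (i j : ℕ)
    (h : x ^ i * y ^ j ∈ agemo p H) : p ∣ i ∧ p ∣ j := by
  have hexpV : ∀ v : H ⧸ agemo p H, v ^ p = 1 := quot_pow_eq_one
  have h1 : ((x ^ i * y ^ j : H) : H ⧸ agemo p H) = 1 := (QuotientGroup.eq_one_iff _).2 h
  rw [QuotientGroup.mk_mul, QuotientGroup.mk_pow, QuotientGroup.mk_pow,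
    ← epow_natCast hexpV, ← epow_natCast hexpV] at h1
  have h2 : epow (x : H ⧸ agemo p H) (i : ZMod p) * epow (y : H ⧸ agemo p H) (j : ZMod p) =
      epow (x : H ⧸ agemo p H) (0 : ZMod p) * epow (y : H ⧸ agemo p H) (0 : ZMod p) := by
    rw [h1, epow_zero, epow_zero, mul_one]
  obtain ⟨h3, h4⟩ := (coordHom_eq_iff hexpV he₁ he₂).1 h2
  exact ⟨(ZMod.natCast_eq_zero_iff i p).1 h3, (ZMod.natCast_eq_zero_iff j p).1 h4⟩

theorem pow_dvd_of_mul_eq_one {x y : H}
    (he₁ : (x : H ⧸ agemo p H) ≠ 1)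
    (he₂ : (y : H ⧸ agemo p H) ∉ Subgroup.zpowers (x : H ⧸ agemo p H))
    (a : ℕ) (hΩ : ∀ z : H, z ^ p ^ (a - 1) = 1 → ∃ w : H, w ^ p = z) :
    ∀ t ≤ a, ∀ i j : ℕ, x ^ i * y ^ j = 1 → p ^ t ∣ i ∧ p ^ t ∣ j := by
  intro t
  induction t with
  | zero => intro _ i j _; simp
  | succ t ih =>
    intro ht i j hij
    obtain ⟨⟨i', rfl⟩, ⟨j', rfl⟩⟩ := ih (by omega) i j hij
    have h1 : (x ^ i' * y ^ j') ^ p ^ t = 1 := by
      rw [mul_pow, ← pow_mul, ← pow_mul, mul_comm i', mul_comm j']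
      exact hij
    have h2 : (x ^ i' * y ^ j') ^ p ^ (a - 1) = 1 := by
      have : a - 1 = t + (a - 1 - t) := by omega
      rw [this, pow_add, pow_mul, h1, one_pow]
    obtain ⟨w, hw⟩ := hΩ _ h2
    obtain ⟨h3, h4⟩ := dvd_of_mem_agemo hidx he₁ he₂ i' j' (mem_agemo.2 ⟨w, hw⟩)
    rw [pow_succ]
    exact ⟨Nat.mul_dvd_mul_left _ h3, Nat.mul_dvd_mul_left _ h4⟩

theorem exists_iso_homocyclic (hfrat : frattini H = agemo p H) (a : ℕ)
    (hexp : ∀ x : H, x ^ p ^ a = 1)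
    (hΩ : ∀ z : H, z ^ p ^ (a - 1) = 1 → ∃ w : H, w ^ p = z) :
    Nonempty (H ≃* Multiplicative (ZMod (p ^ a) × ZMod (p ^ a))) := by
  have hpp := hp.out
  have hexpV : ∀ v : H ⧸ agemo p H, v ^ p = 1 := quot_pow_eq_one
  have hcardV : Nat.card (H ⧸ agemo p H) = p ^ 2 := hidx
  haveI : Finite (H ⧸ agemo p H) := inferInstance
  -- a basis of the quotient
  haveI : Nontrivial (H ⧸ agemo p H) := by
    rw [← Finite.one_lt_card_iff_nontrivial, hcardV]
    exact Nat.one_lt_pow (by norm_num) hpp.one_lt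
  obtain ⟨e₁, he₁⟩ := exists_ne (1 : H ⧸ agemo p H)
  obtain ⟨e₂, he₂⟩ := exists_not_mem_zpowers hexpV hcardV e₁
  obtain ⟨x, rfl⟩ := QuotientGroup.mk_surjective e₁
  obtain ⟨y, rfl⟩ := QuotientGroup.mk_surjective e₂
  haveI : NeZero (p ^ a) := ⟨pow_ne_zero a hpp.ne_zero⟩
  set ψ := pairHom (p ^ a) x y (hexp x) (hexp y) with hψ
  have hinj : Function.Injective ψ := by
    rw [injective_iff_map_eq_one]
    intro v hv
    rw [hψ, pairHom_apply] at hv
    obtain ⟨h1, h2⟩ := pow_dvd_of_mul_eq_one hidx he₁ he₂ a hΩ a le_rfl _ _ hv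
    have h3 : (Multiplicative.toAdd v).1 = 0 := by
      rw [← ZMod.val_eq_zero]
      exact Nat.eq_zero_of_dvd_of_lt h1 (ZMod.val_lt _)
    have h4 : (Multiplicative.toAdd v).2 = 0 := by
      rw [← ZMod.val_eq_zero]
      exact Nat.eq_zero_of_dvd_of_lt h2 (ZMod.val_lt _)
    have : Multiplicative.toAdd v = 0 := Prod.ext h3 h4
    exact this
  have hsurj : Function.Surjective ψ := by
    rw [← MonoidHom.range_eq_top]
    apply frattini_nongenerating
    rw [eq_top_iff]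
    intro h _
    obtain ⟨i, j, hij⟩ := exists_coord hexpV hcardV he₁ he₂ (h : H ⧸ agemo p H)
    have h1 : ((x ^ i.val * y ^ j.val : H) : H ⧸ agemo p H) = (h : H ⧸ agemo p H) := by
      rw [hij, QuotientGroup.mk_mul, QuotientGroup.mk_pow, QuotientGroup.mk_pow]
      rfl
    have h2 : (x ^ i.val * y ^ j.val)⁻¹ * h ∈ agemo p H := QuotientGroup.eq.1 h1
    have h3 : h = (x ^ i.val * y ^ j.val) * ((x ^ i.val * y ^ j.val)⁻¹ * h) := by group
    rw [h3]
    apply Subgroup.mul_mem_sup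
    · exact ⟨_, pairHom_natCast (p ^ a) x y (hexp x) (hexp y) i.val j.val⟩
    · rw [hfrat]; exact h2
  exact ⟨(MulEquiv.ofBijective ψ ⟨hinj, hsurj⟩).symm⟩

end quot

section additive

variable {G : Type*} [AddCommGroup G] {p : ℕ} [hp : Fact p.Prime]

theorem end_sum_apply {ι : Type*} (t : Finset ι) (f : ι → AddMonoid.End G) (g : G) :
    (∑ i ∈ t, f i) g = ∑ i ∈ t, f i g := by
  let ev : AddMonoid.End G →+ G :=
    { toFun := fun f => f g, map_zero' := rfl, map_add' := fun _ _ => rfl }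
  exact map_sum ev f t

/-- If `s ^ p = 1`, `(s - 1)² G ⊆ pG` and `Ω₁(G) ⊆ pG` with `p ≥ 5`, then `(s - 1) G ⊆ pG`. -/
theorem sub_one_apply_mem_of_pow_eq_one (hp5 : 5 ≤ p)
    (s : AddMonoid.End G) (hs : s ^ p = 1)
    (hN2 : ∀ g : G, ∃ w : G, (s - 1) ((s - 1) g) = p • w)
    (hΩ : ∀ g : G, p • g = 0 → ∃ w : G, g = p • w) :
    ∀ g : G, ∃ w : G, (s - 1) g = p • w := by
  have hpp := hp.out
  set n : AddMonoid.End G := s - 1 with hn
  -- the subgroups `pG` and `p²G`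
  let I1 : AddSubgroup G := (nsmulAddMonoidHom p : G →+ G).range
  let I2 : AddSubgroup G := (nsmulAddMonoidHom (p ^ 2) : G →+ G).range
  have hI1 : ∀ g : G, g ∈ I1 ↔ ∃ w : G, p • w = g := fun g => AddMonoidHom.mem_range
  have hI2 : ∀ g : G, g ∈ I2 ↔ ∃ w : G, (p ^ 2) • w = g := fun g => AddMonoidHom.mem_range
  have f1 : ∀ f : AddMonoid.End G, ∀ g ∈ I1, f g ∈ I1 := by
    intro f g hg
    rw [hI1] at hg ⊢
    obtain ⟨w, rfl⟩ := hg
    exact ⟨f w, (map_nsmul f p w).symm⟩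
  have f1' : ∀ f : AddMonoid.End G, ∀ g ∈ I2, f g ∈ I2 := by
    intro f g hg
    rw [hI2] at hg ⊢
    obtain ⟨w, rfl⟩ := hg
    exact ⟨f w, (map_nsmul f (p ^ 2) w).symm⟩
  have f2 : ∀ g : G, n (n g) ∈ I1 := by
    intro g
    rw [hI1]
    obtain ⟨w, hw⟩ := hN2 g
    exact ⟨w, hw.symm⟩
  have f3 : ∀ k : ℕ, 2 ≤ k → ∀ g : G, (n ^ k) g ∈ I1 := by
    intro k hk g
    obtain ⟨j, rfl⟩ := Nat.exists_eq_add_of_le hk
    rw [add_comm, pow_add, pow_two]
    show (n ^ j) (n (n g)) ∈ I1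
    exact f1 _ _ (f2 g)
  have f4 : ∀ k : ℕ, 4 ≤ k → ∀ g : G, (n ^ k) g ∈ I2 := by
    intro k hk g
    obtain ⟨j, rfl⟩ := Nat.exists_eq_add_of_le hk
    have h4 : (n ^ 4) g ∈ I2 := by
      have e : (n ^ 4) g = n (n (n (n g))) := by
        rw [show (4 : ℕ) = 1 + 1 + 1 + 1 from rfl]
        simp only [pow_add, pow_one]
        rfl
      rw [e]
      obtain ⟨w, hw⟩ := (hI1 _).1 (f2 g)
      rw [← hw, map_nsmul, map_nsmul]
      obtain ⟨w', hw'⟩ := (hI1 _).1 (f2 w)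
      rw [hI2]
      refine ⟨w', ?_⟩
      rw [← hw', pow_two, mul_smul]
    rw [add_comm, pow_add]
    show (n ^ j) ((n ^ 4) g) ∈ I2
    exact f1' _ _ h4
  have f5 : ∀ k : ℕ, 2 ≤ k → ∀ g : G, p • (n ^ k) g ∈ I2 := by
    intro k hk g
    obtain ⟨w, hw⟩ := (hI1 _).1 (f3 k hk g)
    rw [hI2]
    exact ⟨w, by rw [← hw, pow_two, mul_smul]⟩
  -- the binomial identity
  have hs' : (n + 1) ^ p = 1 := by rw [hn, sub_add_cancel]; exact hs
  have key := (Commute.one_right n).add_pow_prime_eq' hpp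
  rw [hs', one_pow] at key
  intro g
  have key2 : (1 : AddMonoid.End G) g = (n ^ p) g + (1 : AddMonoid.End G) g + ((p : AddMonoid.End G) *
      ∑ k ∈ Finset.Ioo 0 p, n ^ k * 1 ^ (p - k) * ((p.choose k / p : ℕ) : AddMonoid.End G)) g :=
    congrArg (fun f : AddMonoid.End G => f g) key
  have hsum : ((p : AddMonoid.End G) *
      ∑ k ∈ Finset.Ioo 0 p, n ^ k * 1 ^ (p - k) * ((p.choose k / p : ℕ) : AddMonoid.End G)) g =
      p • ∑ k ∈ Finset.Ioo 0 p, (p.choose k / p) • (n ^ k) g := by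
    show (p : AddMonoid.End G)
      ((∑ k ∈ Finset.Ioo 0 p, n ^ k * 1 ^ (p - k) * ((p.choose k / p : ℕ) : AddMonoid.End G)) g) = _
    rw [AddMonoid.End.natCast_apply, end_sum_apply]
    congr 1
    apply Finset.sum_congr rfl
    intro k _
    rw [one_pow, mul_one]
    show (n ^ k) (((p.choose k / p : ℕ) : AddMonoid.End G) g) = _
    rw [AddMonoid.End.natCast_apply, map_nsmul]
  rw [hsum] at key2
  have h1mem : 1 ∈ Finset.Ioo 0 p := by
    rw [Finset.mem_Ioo]; exact ⟨Nat.one_pos, by omega⟩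
  rw [← Finset.add_sum_erase _ _ h1mem] at key2
  have hc1 : p.choose 1 / p = 1 := by
    rw [Nat.choose_one_right, Nat.div_self hpp.pos]
  rw [hc1, one_smul, pow_one, smul_add] at key2
  -- everything else lies in `p²G`
  have hrest : p • ∑ k ∈ (Finset.Ioo 0 p).erase 1, (p.choose k / p) • (n ^ k) g ∈ I2 := by
    rw [Finset.smul_sum]
    apply AddSubgroup.sum_mem
    intro k hk
    rw [Finset.mem_erase, Finset.mem_Ioo] at hk
    rw [smul_comm]
    apply AddSubgroup.nsmul_mem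
    exact f5 k (by omega) g
  have hnp : (n ^ p) g ∈ I2 := f4 p (by omega) g
  have h1 : (1 : AddMonoid.End G) g = g := rfl
  rw [h1] at key2
  have hpn : p • n g ∈ I2 := by
    have : p • n g = -((n ^ p) g) -
        p • ∑ k ∈ (Finset.Ioo 0 p).erase 1, (p.choose k / p) • (n ^ k) g := by
      have h2 : (n ^ p) g + (p • n g +
          p • ∑ k ∈ (Finset.Ioo 0 p).erase 1, (p.choose k / p) • (n ^ k) g) = 0 := by
        have h := key2
        rw [add_right_comm] at h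
        exact right_eq_add.1 h
      calc p • n g = ((n ^ p) g + (p • n g +
          p • ∑ k ∈ (Finset.Ioo 0 p).erase 1, (p.choose k / p) • (n ^ k) g)) - (n ^ p) g -
          p • ∑ k ∈ (Finset.Ioo 0 p).erase 1, (p.choose k / p) • (n ^ k) g := by abel
        _ = _ := by rw [h2]; abel
    rw [this]
    exact AddSubgroup.sub_mem _ (AddSubgroup.neg_mem _ hnp) hrest
  obtain ⟨w, hw⟩ := (hI2 _).1 hpn
  have h3 : p • (n g - p • w) = 0 := by
    rw [smul_sub, ← hw, pow_two, mul_smul, sub_self]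
  obtain ⟨w', hw'⟩ := hΩ _ h3
  refine ⟨w' + w, ?_⟩
  rw [smul_add, ← hw', sub_add_cancel]

end additive

section step5

variable {H : Type*} [CommGroup H] [Finite H] {p : ℕ} [hp : Fact p.Prime]

/-- the additive endomorphism attached to an automorphism -/
def sEnd (σ : MulAut H) : AddMonoid.End (Additive H) := MonoidHom.toAdditive (σ : H →* H)

theorem sEnd_apply (σ : MulAut H) (g : Additive H) :
    sEnd σ g = Additive.ofMul (σ (Additive.toMul g)) := rfl

theorem sEnd_pow_apply (σ : MulAut H) (j : ℕ) (g : Additive H) :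
    (sEnd σ ^ j) g = Additive.ofMul ((σ ^ j) (Additive.toMul g)) := by
  induction j generalizing g with
  | zero => simp
  | succ j ih =>
    rw [pow_succ', pow_succ', MulAut.mul_apply]
    show sEnd σ ((sEnd σ ^ j) g) = _
    rw [ih, sEnd_apply]
    rfl

theorem sEnd_sub_one_apply (σ : MulAut H) (h : H) :
    (sEnd σ - 1) (Additive.ofMul h) = Additive.ofMul (h⁻¹ * σ h) := by
  show sEnd σ (Additive.ofMul h) - Additive.ofMul h = _
  rw [sEnd_apply, toMul_ofMul, ← ofMul_div, div_eq_mul_inv, mul_comm]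

/-- `p ≥ 5` and `Ω₁(H) ≤ ℧¹(H)` are incompatible with the existence of `A` -/
theorem false_of_ge_five (hH : IsPGroup p H) (A : Subgroup (MulAut H))
    (hOp : ∀ M : Subgroup A, M.Normal → IsPGroup p M → M = ⊥) (hdvd : p ∣ Nat.card A)
    (hidx : (agemo p H).index = p ^ 2) (hp5 : 5 ≤ p)
    (hΩ1 : ∀ z : H, z ^ p = 1 → ∃ w : H, w ^ p = z) : False := by
  have hexpV : ∀ v : H ⧸ agemo p H, v ^ p = 1 := quot_pow_eq_one
  have hcardV : Nat.card (H ⧸ agemo p H) = p ^ 2 := hidx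
  haveI : Finite (H ⧸ agemo p H) := inferInstance
  apply false_of_all_stab hH A hOp hdvd (agemo p H) agemo_inv
  intro σ _ hσp
  suffices h1 : ∀ x, x⁻¹ * σ x ∈ agemo p H from ⟨h1, fun x _ => mem_agemo.1 (h1 x)⟩
  -- the induced automorphism of the quotient
  set σ' : MulAut (H ⧸ agemo p H) :=
    QuotientGroup.congr (agemo p H) (agemo p H) σ (map_eq_of_forall_aut _ agemo_inv σ) with hσ'
  have hmk : ∀ y : H, σ' (y : H ⧸ agemo p H) = ((σ y : H) : H ⧸ agemo p H) := fun y => rfl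
  have key : ∀ j : ℕ, ∀ y : H, (σ' ^ j) (y : H ⧸ agemo p H) = (((σ ^ j) y : H) : H ⧸ agemo p H) := by
    intro j
    induction j with
    | zero => intro y; simp
    | succ j ih =>
      intro y
      rw [pow_succ', MulAut.mul_apply, ih, pow_succ', MulAut.mul_apply]
      rfl
  have hσ'p : σ' ^ p = 1 := by
    ext q
    induction q using QuotientGroup.induction_on with
    | H y => rw [key, hσp]; rfl
  obtain ⟨e₁, he₁, hfix⟩ := exists_fixed_ne_one hcardV σ' hσ'p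
  obtain ⟨e₂, he₂⟩ := exists_not_mem_zpowers hexpV hcardV e₁
  obtain ⟨c, hc⟩ := exists_shear hexpV hcardV he₁ he₂ σ' hσ'p hfix
  have hσe₁ : ∀ k : ZMod p, σ' (epow e₁ k) = epow e₁ k := by
    intro k
    rw [← MulEquiv.coe_toMonoidHom, map_epow, MulEquiv.coe_toMonoidHom, hfix]
  -- `N h` lies over `⟨e₁⟩`
  have claim1 : ∀ h : H, ∃ k : ZMod p, ((h⁻¹ * σ h : H) : H ⧸ agemo p H) = epow e₁ k := by
    intro h
    obtain ⟨i, j, hij⟩ := exists_coord hexpV hcardV he₁ he₂ (h : H ⧸ agemo p H)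
    refine ⟨c * j, ?_⟩
    rw [QuotientGroup.mk_mul, QuotientGroup.mk_inv, ← hmk, hij, map_mul, hσe₁,
      ← MulEquiv.coe_toMonoidHom, map_epow, MulEquiv.coe_toMonoidHom, hc, epow_mul_base,
      epow_mul hexpV]
    rw [mul_comm (epow e₁ (c * j)) (epow e₂ j), ← mul_assoc (epow e₁ i), inv_mul_cancel_left]
  have claim2 : ∀ g : H, (∃ k : ZMod p, (g : H ⧸ agemo p H) = epow e₁ k) →
      g⁻¹ * σ g ∈ agemo p H := by
    rintro g ⟨k, hk⟩
    rw [← QuotientGroup.eq_one_iff, QuotientGroup.mk_mul, QuotientGroup.mk_inv, ← hmk, hk, hσe₁,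
      inv_mul_cancel]
  -- pass to the additive group
  have hs : sEnd σ ^ p = 1 := by
    ext g
    rw [sEnd_pow_apply, hσp]
    rfl
  have hN2 : ∀ g : Additive H, ∃ w : Additive H,
      (sEnd σ - 1) ((sEnd σ - 1) g) = p • w := by
    intro g
    obtain ⟨h, rfl⟩ : ∃ h : H, Additive.ofMul h = g := ⟨Additive.toMul g, rfl⟩
    rw [sEnd_sub_one_apply, sEnd_sub_one_apply]
    obtain ⟨w, hw⟩ := mem_agemo.1 (claim2 _ (claim1 h))
    exact ⟨Additive.ofMul w, by rw [← hw]; rfl⟩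
  have hΩ : ∀ g : Additive H, p • g = 0 → ∃ w : Additive H, g = p • w := by
    intro g hg
    have h1 : (Additive.toMul g) ^ p = 1 := hg
    obtain ⟨w, hw⟩ := hΩ1 _ h1
    exact ⟨Additive.ofMul w, by
      show g = Additive.ofMul (w ^ p)
      rw [hw]; rfl⟩
  intro x
  obtain ⟨w, hw⟩ := sub_one_apply_mem_of_pow_eq_one hp5 (sEnd σ) hs hN2 hΩ (Additive.ofMul x)
  rw [sEnd_sub_one_apply] at hw
  rw [mem_agemo]
  exact ⟨Additive.toMul w, hw.symm⟩

/-- Abelian `p`-groups of rank at most two with a group of automorphisms `A` such that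
`O_p(A) = 1` and `p ∣ |A|`. -/
theorem abelian_rank_two_classification (hH : IsPGroup p H)
    (hrk : (frattini H).index ≤ p ^ 2) (A : Subgroup (MulAut H))
    (hOp : ∀ M : Subgroup A, M.Normal → IsPGroup p M → M = ⊥) (hdvd : p ∣ Nat.card A) :
    ((∀ x : H, x ^ p = 1) ∧ Nat.card H = p ^ 2) ∨
      (p ≤ 3 ∧ ∃ k : ℕ, Nonempty (H ≃* Multiplicative (ZMod (p ^ k) × ZMod (p ^ k)))) := by
  classical
  have hpp := hp.out
  have hfrat := frattini_eq_range_pow hH
  rw [hfrat] at hrk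
  have hidx := index_agemo_eq hH A hOp hdvd hrk
  have hex : ∃ a : ℕ, ∀ x : H, x ^ p ^ a = 1 := by
    obtain ⟨a, ha⟩ := IsPGroup.iff_card.1 hH
    exact ⟨a, fun x => by rw [← ha]; exact pow_card_eq_one'⟩
  set a := Nat.find hex with ha
  have hexp : ∀ x : H, x ^ p ^ a = 1 := Nat.find_spec hex
  have ha0 : a ≠ 0 := by
    intro h0
    rw [h0] at hexp
    have hsub : Subsingleton H := ⟨fun x y => by
      have hx := hexp x
      have hy := hexp y
      rw [pow_zero, pow_one] at hx hy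
      rw [hx, hy]⟩
    have : (agemo p H).index = 1 := Subgroup.index_eq_one.2 (Subsingleton.elim _ _)
    rw [hidx] at this
    have h2 : 1 < p ^ 2 := Nat.one_lt_pow (by norm_num) hpp.one_lt
    omega
  have hmin : ∃ x : H, x ^ p ^ (a - 1) ≠ 1 := by
    by_contra hcon
    push Not at hcon
    exact Nat.find_min hex (by omega : a - 1 < a) hcon
  have hΩ := omega_le_agemo hH A hOp hdvd hidx a (by omega) hexp hmin
  by_cases ha1 : a = 1
  · left
    rw [ha1, pow_one] at hexp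
    refine ⟨hexp, ?_⟩
    have hbot : agemo p H = ⊥ := by
      rw [eq_bot_iff]
      rintro _ ⟨y, rfl⟩
      rw [Subgroup.mem_bot]
      exact hexp y
    rw [hbot, Subgroup.index_bot] at hidx
    exact hidx
  · by_cases hp3 : p ≤ 3
    · right
      exact ⟨hp3, a, exists_iso_homocyclic hidx hfrat a hexp hΩ⟩
    · exfalso
      have hp5 : 5 ≤ p := by
        have h4 : p ≠ 4 := by
          rintro h
          rw [h] at hpp
          norm_num at hpp
        omega
      apply false_of_ge_five hH A hOp hdvd hidx hp5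
      intro z hz
      apply hΩ
      have : a - 1 = 1 + (a - 2) := by omega
      rw [this, pow_add, pow_one, pow_mul, hz, one_pow]

end step5

section general2

/-- version for a `Group` that happens to be commutative -/
theorem abelian_rank_two_classification' {G : Type*} [Group G] [Finite G] {p : ℕ} [Fact p.Prime]
    (hcomm : ∀ a b : G, a * b = b * a) (hG : IsPGroup p G)
    (hrk : (frattini G).index ≤ p ^ 2) (A : Subgroup (MulAut G))
    (hOp : ∀ M : Subgroup A, M.Normal → IsPGroup p M → M = ⊥) (hdvd : p ∣ Nat.card A) :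
    ((∀ x : G, x ^ p = 1) ∧ Nat.card G = p ^ 2) ∨
      (p ≤ 3 ∧ ∃ k : ℕ, Nonempty (G ≃* Multiplicative (ZMod (p ^ k) × ZMod (p ^ k)))) := by
  letI : CommGroup G := { ‹Group G› with mul_comm := hcomm }
  exact abelian_rank_two_classification hG hrk A hOp hdvd

end general2

end Cfsg.Agent.Helper83
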