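import Mathlib
import Cfsg.Agent.Lib.Helper5.OAut8

set_option autoImplicit false

/-!
# (NG-perp) for helper5's lemma server (S2694-96): for a singular `e ∈ N = ⟨u,v⟩^⊥`,
`e^⊥ ∩ N` is spanned by its singular vectors.
-/

namespace Cfsg.Agent.Helper83.OAutNG

open Matrix QuadraticMap Cfsg.Agent.Helper13 Cfsg.Agent.Helper43
open Cfsg.Agent.Helper5.OAut

variable {F : Type*} [Field F] [Fintype F] {ι : Type} [Fintype ι] [DecidableEq ι]
  {Q : QuadraticForm F (ι → F)}

theorem NG_perp (C : Ctx Q) {u v : ι → F} (hu : Q u = 0) (hv : Q v = 0)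
    (huv : polar (⇑Q) u v = 1) {e : ι → F} (he0 : e ≠ 0) (he : Q e = 0)
    (hue : polar (⇑Q) u e = 0) (hve : polar (⇑Q) v e = 0) {x : ι → F}
    (hux : polar (⇑Q) u x = 0) (hvx : polar (⇑Q) v x = 0) (hex : polar (⇑Q) e x = 0) :
    x ∈ Submodule.span F {z : ι → F | Q z = 0 ∧ polar (⇑Q) u z = 0 ∧ polar (⇑Q) v z = 0 ∧
      polar (⇑Q) e z = 0} := by
  have hee : polar (⇑Q) e e = 0 := polar_self_of_sing Q e he
  obtain ⟨e', he', hue', hve', hee'⟩ := NG_part C hu hv huv he0 he hue hve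
  have he'e : polar (⇑Q) e' e = 1 := by rw [polar_comm, hee']
  -- `y = x - polar e' x • e`
  obtain ⟨y, hy⟩ : ∃ y, y = x - polar (⇑Q) e' x • e := ⟨_, rfl⟩
  have huy : polar (⇑Q) u y = 0 := by
    rw [hy, polar_sub_right, polar_smul_right, hux, hue]; simp
  have hvy : polar (⇑Q) v y = 0 := by
    rw [hy, polar_sub_right, polar_smul_right, hvx, hve]; simp
  have hey : polar (⇑Q) e y = 0 := by
    rw [hy, polar_sub_right, polar_smul_right, hex, hee]; simp
  -- a hyperbolic pair `s, s'` inside `⟨u, v, e, e'⟩^⊥`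
  obtain ⟨s, hs0, hs, hus, hvs, hes, he's⟩ := NG_ex4 C u v e e'
  obtain ⟨s', hs', hus', hvs', hes', -, hss'⟩ :=
    NG_part2 C hu hv huv he he' hee' hue hue' hve hve' hs0 hs hus hvs hes he's
  obtain ⟨h1, h2, h3⟩ := NG_proj hs hs' hss' y
  obtain ⟨y', hy'⟩ : ∃ y', y' = y - polar (⇑Q) s' y • s - polar (⇑Q) s y • s' := ⟨_, rfl⟩
  rw [← hy'] at h1 h2 h3
  have huy' : polar (⇑Q) u y' = 0 := by rw [h3 u hus hus', huy]
  have hvy' : polar (⇑Q) v y' = 0 := by rw [h3 v hvs hvs', hvy]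
  have hey' : polar (⇑Q) e y' = 0 := by rw [h3 e hes hes', hey]
  -- the singular vector `t = (y' + s) - Q (y' + s) • s'`
  have hs's : polar (⇑Q) s' s = 1 := by rw [polar_comm, hss']
  have hs'z : polar (⇑Q) s' (y' + s) = 1 := by
    rw [polar_add_right, h2, hs's]; simp
  have ht : Q ((y' + s) - Q (y' + s) • s') = 0 := NG_singularize hs' hs'z
  obtain ⟨t, htdef⟩ : ∃ t, t = (y' + s) - Q (y' + s) • s' := ⟨_, rfl⟩
  rw [← htdef] at ht
  have hut : polar (⇑Q) u t = 0 := by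
    rw [htdef, polar_sub_right, polar_add_right, polar_smul_right, huy', hus, hus']; simp
  have hvt : polar (⇑Q) v t = 0 := by
    rw [htdef, polar_sub_right, polar_add_right, polar_smul_right, hvy', hvs, hvs']; simp
  have het : polar (⇑Q) e t = 0 := by
    rw [htdef, polar_sub_right, polar_add_right, polar_smul_right, hey', hes, hes']; simp
  -- `x` as a combination of `t, s, s', e`
  have hx : x = t - s + Q (y' + s) • s' + polar (⇑Q) s' y • s + polar (⇑Q) s y • s' +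
      polar (⇑Q) e' x • e := by
    rw [htdef, hy', hy]
    abel
  have hS : ∀ w : ι → F, Q w = 0 → polar (⇑Q) u w = 0 → polar (⇑Q) v w = 0 →
      polar (⇑Q) e w = 0 →
      w ∈ Submodule.span F {z : ι → F | Q z = 0 ∧ polar (⇑Q) u z = 0 ∧ polar (⇑Q) v z = 0 ∧
        polar (⇑Q) e z = 0} := fun w h1 h2 h3 h4 => Submodule.subset_span ⟨h1, h2, h3, h4⟩
  have htS := hS t ht hut hvt het
  have hsS := hS s hs hus hvs hes
  have hs'S := hS s' hs' hus' hvs' hes'
  have heS := hS e he hue hve hee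
  rw [hx]
  exact Submodule.add_mem _ (Submodule.add_mem _ (Submodule.add_mem _ (Submodule.add_mem _
    (Submodule.sub_mem _ htS hsS) (Submodule.smul_mem _ _ hs'S)) (Submodule.smul_mem _ _ hsS))
    (Submodule.smul_mem _ _ hs'S)) (Submodule.smul_mem _ _ heS)

end Cfsg.Agent.Helper83.OAutNG
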