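import Mathlib
import Cfsg.Agent.Lib.Helper83.OrderP4a
import Cfsg.Agent.Lib.Helper83.Homocyclic

set_option autoImplicit false

/-!
# Abelian groups of order `p⁴` admitting `A`
-/

namespace Cfsg.Agent.Helper83

open scoped commutatorElement

section splitAb

variable {G : Type*} [Group G] [Finite G] {p : ℕ} [hp : Fact p.Prime]

/-- In an abelian `p`-group an element of order `p` that is not a `p`-th power generates a direct
factor, and the complement still has an element of order `p²` if the group had one. -/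
theorem exists_split_abelian (hG : IsPGroup p G) (hcomm : ∀ a b : G, a * b = b * a)
    {z : G} (hzk : z ∈ (powHom hcomm p).ker) (hzr : z ∉ (powHom hcomm p).range) :
    ∃ M : Subgroup G, M.index = p ∧ Nonempty (G ≃* M × Multiplicative (ZMod p)) ∧
      ((powHom hcomm p).range ≠ ⊥ → ∃ m ∈ M, m ^ p ≠ 1) := by
  have hpp := hp.out
  set ψ := powHom hcomm p with hψ
  have hn : ψ.range.Normal := normal_of_forall_comm hcomm _
  have hfr : frattini G ≤ ψ.range := by
    apply Cfsg.Agent.S0013.result p hG ψ.range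
    · rw [commutator_eq_closure, Subgroup.closure_le]
      rintro _ ⟨x, y, rfl⟩
      have : ⁅x, y⁆ = 1 := by rw [commutatorElement_eq_one_iff_mul_comm]; exact hcomm x y
      rw [this]
      exact Subgroup.one_mem _
    · intro x
      exact ⟨x, rfl⟩
  have hzc : z ∈ Subgroup.center G := by
    rw [Subgroup.mem_center_iff]
    intro g
    exact hcomm g z
  have hzp : z ^ p = 1 := hzk
  obtain ⟨M, hidx, hzM, -, e⟩ := exists_split hG hzc hzp (fun h => hzr (hfr h))
  refine ⟨M, hidx, e, ?_⟩
  intro hne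
  by_contra hcon
  push Not at hcon
  apply hne
  have hMk : M ≤ ψ.ker := fun m hm => hcon m hm
  have hgen : M ⊔ Subgroup.zpowers z = ⊤ := by
    apply sup_zpowers_eq_of_relIndex_prime hpp le_top _ (Subgroup.mem_top z) hzM
    rw [Subgroup.relIndex_top_right]
    exact hidx
  have hker : ψ.ker = ⊤ := by
    rw [eq_top_iff, ← hgen]
    exact sup_le hMk ((Subgroup.zpowers_le).2 hzk)
  rw [eq_bot_iff]
  rintro _ ⟨x, rfl⟩
  have : x ∈ ψ.ker := hker ▸ Subgroup.mem_top x
  exact this

end splitAb

section abelian4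

variable {H : Type*} [Group H] [Finite H] {p : ℕ} [hp : Fact p.Prime]

/-- An abelian group of order `p⁴` in which the `p`-th powers form a subgroup of order `p` is
`C_{p²} × C_p × C_p`. -/
theorem iso_of_card_range_pow_eq (hcard : Nat.card H = p ^ 4)
    (hcomm : ∀ a b : H, a * b = b * a) (hr : Nat.card (powHom hcomm p).range = p) :
    Nonempty (H ≃* Multiplicative (ZMod (p ^ 2) × ZMod p × ZMod p)) := by
  have hpp := hp.out
  have hH : IsPGroup p H := IsPGroup.of_card hcard
  have hp1 : 1 < p := hpp.one_lt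
  set ψ := powHom hcomm p with hψ
  have hk : Nat.card ψ.ker = p ^ 3 := by
    have h1 := Subgroup.card_mul_index ψ.ker
    rw [Subgroup.index_ker, hr, hcard] at h1
    have h2 : Nat.card ψ.ker * p = p ^ 3 * p := by rw [h1]; ring
    exact Nat.eq_of_mul_eq_mul_right hpp.pos h2
  have hrne : ψ.range ≠ ⊥ := by
    intro h
    rw [h, Subgroup.card_bot] at hr
    omega
  -- first splitting
  obtain ⟨z, hzk, hzr⟩ : ∃ z ∈ ψ.ker, z ∉ ψ.range := by
    by_contra hcon
    push Not at hcon
    have : ψ.ker ≤ ψ.range := hcon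
    have := Subgroup.card_le_of_le this
    rw [hk, hr] at this
    have h3 : p ^ 1 < p ^ 3 := Nat.pow_lt_pow_right hp1 (by norm_num)
    rw [pow_one] at h3
    omega
  obtain ⟨M, hMidx, ⟨e₁⟩, hM⟩ := exists_split_abelian hH hcomm hzk hzr
  obtain ⟨m₀, hm₀M, hm₀⟩ := hM hrne
  have hMcard : Nat.card M = p ^ 3 := by
    have h1 := Subgroup.card_mul_index M
    rw [hMidx, hcard] at h1
    have h2 : Nat.card M * p = p ^ 3 * p := by rw [h1]; ring
    exact Nat.eq_of_mul_eq_mul_right hpp.pos h2
  have hMp : IsPGroup p M := IsPGroup.of_card hMcard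
  have hMcomm : ∀ a b : M, a * b = b * a := fun a b => Subtype.ext (hcomm a b)
  set ψM := powHom hMcomm p with hψM
  have hψMval : ∀ m : M, ((ψM m : M) : H) = ψ (m : H) := fun m => rfl
  have hrM : Nat.card ψM.range = p := by
    have hle : ψM.range.map M.subtype ≤ ψ.range := by
      rintro _ ⟨_, ⟨m, rfl⟩, rfl⟩
      exact ⟨(m : H), rfl⟩
    have h1 : Nat.card ψM.range ∣ p := by
      rw [← hr, ← Subgroup.card_subtype]
      exact Subgroup.card_dvd_of_le hle
    rcases (Nat.dvd_prime hpp).1 h1 with h | h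
    · exfalso
      have hbot : ψM.range = ⊥ := Subgroup.card_eq_one.1 h
      have hmem : ψM ⟨m₀, hm₀M⟩ ∈ ψM.range := ⟨_, rfl⟩
      rw [hbot, Subgroup.mem_bot] at hmem
      apply hm₀
      have := congrArg Subtype.val hmem
      rw [hψMval] at this
      exact this
    · exact h
  have hkM : Nat.card ψM.ker = p ^ 2 := by
    have h1 := Subgroup.card_mul_index ψM.ker
    rw [Subgroup.index_ker, hrM, hMcard] at h1
    have h2 : Nat.card ψM.ker * p = p ^ 2 * p := by rw [h1]; ring
    exact Nat.eq_of_mul_eq_mul_right hpp.pos h2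
  have hrMne : ψM.range ≠ ⊥ := by
    intro h
    rw [h, Subgroup.card_bot] at hrM
    omega
  -- second splitting
  obtain ⟨z', hz'k, hz'r⟩ : ∃ z ∈ ψM.ker, z ∉ ψM.range := by
    by_contra hcon
    push Not at hcon
    have : ψM.ker ≤ ψM.range := hcon
    have := Subgroup.card_le_of_le this
    rw [hkM, hrM] at this
    have h3 : p ^ 1 < p ^ 2 := Nat.pow_lt_pow_right hp1 (by norm_num)
    rw [pow_one] at h3
    omega
  obtain ⟨M', hM'idx, ⟨e₂⟩, hM'⟩ := exists_split_abelian hMp hMcomm hz'k hz'r
  obtain ⟨m₁, hm₁M, hm₁⟩ := hM' hrMne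
  have hM'card : Nat.card M' = p ^ 2 := by
    have h1 := Subgroup.card_mul_index M'
    rw [hM'idx, hMcard] at h1
    have h2 : Nat.card M' * p = p ^ 2 * p := by rw [h1]; ring
    exact Nat.eq_of_mul_eq_mul_right hpp.pos h2
  have hcyc : IsCyclic M' := by
    by_contra hnc
    have := pow_prime_eq_one_of_card_sq hM'card hnc ⟨m₁, hm₁M⟩
    apply hm₁
    have := congrArg Subtype.val this
    simpa using this
  have e₃ : M' ≃* Multiplicative (ZMod (p ^ 2)) := by
    apply mulEquivOfCyclicCardEq
    rw [hM'card, Nat.card_eq_fintype_card]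
    simp
  have e₄ : H ≃* (Multiplicative (ZMod (p ^ 2)) × Multiplicative (ZMod p)) ×
      Multiplicative (ZMod p) :=
    e₁.trans (MulEquiv.prodCongr (e₂.trans (MulEquiv.prodCongr e₃ (MulEquiv.refl _)))
      (MulEquiv.refl _))
  have e₅ : H ≃* Multiplicative (ZMod (p ^ 2)) × (Multiplicative (ZMod p) ×
      Multiplicative (ZMod p)) := e₄.trans MulEquiv.prodAssoc
  exact ⟨e₅.trans ((MulEquiv.prodCongr (MulEquiv.refl _)
    (MulEquiv.prodMultiplicative (ZMod p) (ZMod p)).symm).trans
    (MulEquiv.prodMultiplicative (ZMod (p ^ 2)) (ZMod p × ZMod p)).symm)⟩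

end abelian4

end Cfsg.Agent.Helper83
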