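import Mathlib
import Cfsg.Agent.Lib.Helper83.OrderP4a
import Cfsg.Agent.Lib.Helper63.PGroup

set_option autoImplicit false

/-!
# Nonabelian groups of order `p⁴` killed by characteristic chains
-/

namespace Cfsg.Agent.Helper83

open scoped commutatorElement

section general

variable {H : Type*} [Group H]

theorem map_eq_of_forall_aut83 (K : Subgroup H) (h : ∀ α : MulAut H, ∀ x ∈ K, α x ∈ K)
    (σ : MulAut H) : K.map (σ : H →* H) = K := by
  ext x
  constructor
  · rintro ⟨y, hy, rfl⟩
    exact h σ y hy
  · intro hx
    refine ⟨σ⁻¹ x, h σ⁻¹ x hx, ?_⟩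
    show σ (σ⁻¹ x) = x
    simp

theorem nonabelian_of_commutator_ne_bot (h : commutator H ≠ ⊥) : ∃ a b : H, a * b ≠ b * a := by
  by_contra hcon
  push Not at hcon
  apply h
  rw [eq_bot_iff, commutator_eq_closure, Subgroup.closure_le]
  rintro _ ⟨x, y, rfl⟩
  rw [SetLike.mem_coe, Subgroup.mem_bot, commutatorElement_eq_one_iff_mul_comm]
  exact hcon x y

end general

section D2

variable {H : Type*} [Group H] [Finite H] {p : ℕ} [hp : Fact p.Prime]

/-- A group of order `p⁴` with derived subgroup of order `p²` does not admit `A`. -/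
theorem false_of_card_commutator_sq (hcard : Nat.card H = p ^ 4)
    (hc : Nat.card (commutator H) = p ^ 2)
    (A : Subgroup (MulAut H)) (N : Subgroup A)
    [N.Normal] (hOp : ∀ M : Subgroup (A ⧸ N), M.Normal → IsPGroup p M → M = ⊥)
    (hdvd : p ∣ Nat.card (A ⧸ N)) : False := by
  have hpp := hp.out
  have hH : IsPGroup p H := IsPGroup.of_card hcard
  have hp2 : p < p ^ 2 := by nlinarith [hpp.one_lt]
  have hcne : commutator H ≠ ⊥ := by
    intro h
    rw [h, Subgroup.card_bot] at hc
    nlinarith [hpp.one_lt]
  have hna := nonabelian_of_commutator_ne_bot hcne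
  -- `|Z| = p`
  have hZ : Nat.card (Subgroup.center H) = p := by
    rcases card_center_of_nonabelian_p4 hcard hna with h | h
    · exact h
    · exfalso
      have := card_commutator_dvd_of_card_center_sq hcard hna h
      rw [hc] at this
      have := Nat.le_of_dvd hpp.pos this
      omega
  -- `Z ≤ H'`
  have hZle : Subgroup.center H ≤ commutator H := by
    obtain ⟨z, hzN, hzc, hzo⟩ :=
      Cfsg.Agent.Helper11.exists_mem_center_orderOf_eq_of_normal hH (commutator H) hcne
    have h1 : Subgroup.zpowers z ≤ Subgroup.center H := (Subgroup.zpowers_le).2 hzc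
    have h2 : Subgroup.zpowers z = Subgroup.center H :=
      Subgroup.eq_of_le_of_card_ge h1 (by rw [hZ, Nat.card_zpowers, hzo])
    rw [← h2, Subgroup.zpowers_le]
    exact hzN
  -- commutators with elements of `H'` are central
  have hcc : ∀ h ∈ commutator H, ∀ g : H, ⁅g, h⁆ ∈ Subgroup.center H := by
    set W := (commutator H).map (QuotientGroup.mk' (Subgroup.center H)) with hW
    have hQcard : Nat.card (H ⧸ Subgroup.center H) = p ^ 3 := by
      have h1 := Subgroup.card_mul_index (Subgroup.center H)
      rw [hZ, hcard] at h1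
      have h2 : p * (Subgroup.center H).index = p * p ^ 3 := by rw [h1]; ring
      exact Nat.eq_of_mul_eq_mul_left hpp.pos h2
    have hcidx : (commutator H).index = p ^ 2 := by
      have h1 := Subgroup.card_mul_index (commutator H)
      rw [hc, hcard] at h1
      have h2 : p ^ 2 * (commutator H).index = p ^ 2 * p ^ 2 := by rw [h1]; ring
      exact Nat.eq_of_mul_eq_mul_left (pow_pos hpp.pos 2) h2
    have hWcard : Nat.card W = p := by
      have hk : (QuotientGroup.mk' (Subgroup.center H)).ker ≤ commutator H := by
        rw [QuotientGroup.ker_mk']; exact hZle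
      have h1 : W.index = (commutator H).index :=
        Subgroup.index_map_eq (commutator H) (QuotientGroup.mk'_surjective (Subgroup.center H)) hk
      have h2 := Subgroup.card_mul_index W
      rw [h1, hcidx, hQcard] at h2
      have h4 : Nat.card W * p ^ 2 = p * p ^ 2 := by rw [h2]; ring
      exact Nat.eq_of_mul_eq_mul_right (pow_pos hpp.pos 2) h4
    have : W.Normal := Subgroup.Normal.map inferInstance _ (QuotientGroup.mk'_surjective _)
    have hWc := Cfsg.Agent.Helper63.normal_card_prime_le_center (IsPGroup.of_card hQcard) W hWcard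
    intro h hh g
    rw [← QuotientGroup.eq_one_iff]
    have : ((⁅g, h⁆ : H) : H ⧸ Subgroup.center H) =
        ⁅(g : H ⧸ Subgroup.center H), (h : H ⧸ Subgroup.center H)⁆ :=
      map_commutatorElement (QuotientGroup.mk' (Subgroup.center H)) g h
    rw [this, commutatorElement_eq_one_iff_mul_comm]
    have hm : ((h : H) : H ⧸ Subgroup.center H) ∈ Subgroup.center (H ⧸ Subgroup.center H) :=
      hWc ⟨h, hh, rfl⟩
    exact (Subgroup.mem_center_iff.1 hm) _
  -- an element of `H'` outside `Z`
  obtain ⟨h, hh, hhZ⟩ : ∃ h ∈ commutator H, h ∉ Subgroup.center H := by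
    by_contra hcon
    push Not at hcon
    have : commutator H ≤ Subgroup.center H := hcon
    have := Subgroup.card_le_of_le this
    rw [hc, hZ] at this
    omega
  set φ := commHom h (hcc h hh) with hφ
  have hRle : φ.range ≤ Subgroup.center H := by
    rintro _ ⟨g, rfl⟩
    exact hcc h hh g
  have hkertop : φ.ker ≠ ⊤ := by
    intro htop
    apply hhZ
    rw [Subgroup.mem_center_iff]
    intro g
    have : g ∈ φ.ker := htop ▸ Subgroup.mem_top g
    rwa [mem_ker_commHom] at this
  have hker : Nat.card φ.ker = p ^ 3 := by
    have h1 : Nat.card φ.range ∣ p := hZ ▸ Subgroup.card_dvd_of_le hRle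
    have h2 := Subgroup.card_mul_index φ.ker
    rw [Subgroup.index_ker, hcard] at h2
    rcases (Nat.dvd_prime hpp).1 h1 with h3 | h3
    · exfalso
      apply hkertop
      apply Subgroup.eq_top_of_card_eq
      rw [hcard, ← h2, h3, mul_one]
    · rw [h3] at h2
      have h4 : Nat.card φ.ker * p = p ^ 3 * p := by rw [h2]; ring
      exact Nat.eq_of_mul_eq_mul_right hpp.pos h4
  -- the centralizer of `H'`
  have hgen : Subgroup.center H ⊔ Subgroup.zpowers h = commutator H := by
    apply sup_zpowers_eq_of_relIndex_prime hpp hZle _ hh hhZ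
    have := relIndex_mul_card_of_le hZle
    rw [hZ, hc] at this
    have h2 : p * (Subgroup.center H).relIndex (commutator H) = p * p := by rw [this]; ring
    exact Nat.eq_of_mul_eq_mul_left hpp.pos h2
  have hCeq : Subgroup.centralizer (commutator H : Set H) = φ.ker := by
    apply le_antisymm
    · intro g hg
      rw [mem_ker_commHom]
      exact ((Subgroup.mem_centralizer_iff.1 hg) h hh).symm
    · intro g hg
      rw [mem_ker_commHom] at hg
      have hle : Subgroup.center H ⊔ Subgroup.zpowers h ≤ Subgroup.centralizer ({g} : Set H) := by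
        apply sup_le
        · intro z hz
          rw [Subgroup.mem_centralizer_iff]
          intro x hx
          rw [Set.mem_singleton_iff] at hx
          subst hx
          exact (Subgroup.mem_center_iff.1 hz) x
        · rw [Subgroup.zpowers_le, Subgroup.mem_centralizer_iff]
          intro x hx
          rw [Set.mem_singleton_iff] at hx
          subst hx
          exact hg
      rw [Subgroup.mem_centralizer_iff]
      intro k hk
      have hk' : k ∈ Subgroup.center H ⊔ Subgroup.zpowers h := by rw [hgen]; exact hk
      have := (Subgroup.mem_centralizer_iff.1 (hle hk')) g (Set.mem_singleton g)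
      exact this.symm
  have hCcard : Nat.card (Subgroup.centralizer (commutator H : Set H)) = p ^ 3 := by
    rw [hCeq]; exact hker
  have hab : ∀ a ∈ commutator H, ∀ b ∈ commutator H, a * b = b * a := by
    intro a ha b hb
    have := (IsPGroup.isMulCommutative_of_card_eq_prime_sq hc).is_comm.comm
      (⟨a, ha⟩ : commutator H) ⟨b, hb⟩
    exact congrArg Subtype.val this
  have hHC : commutator H ≤ Subgroup.centralizer (commutator H : Set H) := by
    intro a ha
    rw [Subgroup.mem_centralizer_iff]
    intro b hb
    exact hab b hb a ha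
  have hinvc : ∀ α : MulAut H, ∀ x ∈ commutator H, α x ∈ commutator H :=
    fun α x hx => map_mem_of_characteristic _ α hx
  exact false_of_three_invariant hcard A N hOp hdvd
    (Subgroup.centralizer (commutator H : Set H)) (commutator H) (Subgroup.center H)
    hCcard hc hZ hHC hZle
    (fun α x hx => map_mem_centralizer _ hinvc α hx) hinvc
    (fun α x hx => map_mem_center α hx)

end D2

section D1

variable {H : Type*} [Group H] [Finite H] {p : ℕ} [hp : Fact p.Prime]

/-- A group of order `p⁴` with derived subgroup of order `p` whose abelianization is not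
elementary abelian does not admit `A`. -/
theorem false_of_pow_not_mem_commutator (hcard : Nat.card H = p ^ 4)
    (hc : Nat.card (commutator H) = p) (hne : ∃ x : H, x ^ p ∉ commutator H)
    (A : Subgroup (MulAut H)) (N : Subgroup A)
    [N.Normal] (hOp : ∀ M : Subgroup (A ⧸ N), M.Normal → IsPGroup p M → M = ⊥)
    (hdvd : p ∣ Nat.card (A ⧸ N)) : False := by
  have hpp := hp.out
  have hBcard : Nat.card (H ⧸ commutator H) = p ^ 3 := by
    have h1 := Subgroup.card_mul_index (commutator H)
    rw [hc, hcard] at h1
    have h2 : p * (commutator H).index = p * p ^ 3 := by rw [h1]; ring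
    exact Nat.eq_of_mul_eq_mul_left hpp.pos h2
  have hBcomm : ∀ a b : H ⧸ commutator H, a * b = b * a := fun a b =>
    mul_comm (G := Abelianization H) a b
  have hne' : ∃ b : H ⧸ commutator H, b ^ p ≠ 1 := by
    obtain ⟨x, hx⟩ := hne
    refine ⟨(x : H ⧸ commutator H), ?_⟩
    rw [← QuotientGroup.mk_pow, Ne, QuotientGroup.eq_one_iff]
    exact hx
  obtain ⟨X, Y, hX, hY, hYX, hXinv, hYinv⟩ := exists_chain_abelian_p3 hBcard hBcomm hne'
  have hsurj := QuotientGroup.mk'_surjective (commutator H)
  have hXidx : X.index = p := by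
    have h1 := Subgroup.card_mul_index X
    rw [hX, hBcard] at h1
    have h2 : p ^ 2 * X.index = p ^ 2 * p := by rw [h1]; ring
    exact Nat.eq_of_mul_eq_mul_left (pow_pos hpp.pos 2) h2
  have hYidx : Y.index = p ^ 2 := by
    have h1 := Subgroup.card_mul_index Y
    rw [hY, hBcard] at h1
    have h2 : p * Y.index = p * p ^ 2 := by rw [h1]; ring
    exact Nat.eq_of_mul_eq_mul_left hpp.pos h2
  have hX' : Nat.card (X.comap (QuotientGroup.mk' (commutator H))) = p ^ 3 := by
    have h1 := Subgroup.card_mul_index (X.comap (QuotientGroup.mk' (commutator H)))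
    rw [Subgroup.index_comap_of_surjective X hsurj, hXidx, hcard] at h1
    have h2 : Nat.card (X.comap (QuotientGroup.mk' (commutator H))) * p = p ^ 3 * p := by
      rw [h1]; ring
    exact Nat.eq_of_mul_eq_mul_right hpp.pos h2
  have hY' : Nat.card (Y.comap (QuotientGroup.mk' (commutator H))) = p ^ 2 := by
    have h1 := Subgroup.card_mul_index (Y.comap (QuotientGroup.mk' (commutator H)))
    rw [Subgroup.index_comap_of_surjective Y hsurj, hYidx, hcard] at h1
    have h2 : Nat.card (Y.comap (QuotientGroup.mk' (commutator H))) * p ^ 2 = p ^ 2 * p ^ 2 := by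
      rw [h1]; ring
    exact Nat.eq_of_mul_eq_mul_right (pow_pos hpp.pos 2) h2
  have hinvc : ∀ α : MulAut H, ∀ x ∈ commutator H, α x ∈ commutator H :=
    fun α x hx => map_mem_of_characteristic _ α hx
  have hcomap : ∀ K : Subgroup (H ⧸ commutator H),
      (∀ β : MulAut (H ⧸ commutator H), ∀ x ∈ K, β x ∈ K) →
      ∀ α : MulAut H, ∀ x ∈ K.comap (QuotientGroup.mk' (commutator H)),
        α x ∈ K.comap (QuotientGroup.mk' (commutator H)) := by
    intro K hK α x hx
    rw [Subgroup.mem_comap] at hx ⊢
    set α' : MulAut (H ⧸ commutator H) :=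
      QuotientGroup.congr (commutator H) (commutator H) α (map_eq_of_forall_aut83 _ hinvc α)
    exact hK α' _ hx
  have hcY : commutator H ≤ Y.comap (QuotientGroup.mk' (commutator H)) := by
    intro x hx
    rw [Subgroup.mem_comap]
    have : (QuotientGroup.mk' (commutator H)) x = 1 := (QuotientGroup.eq_one_iff x).2 hx
    rw [this]
    exact Y.one_mem
  exact false_of_three_invariant hcard A N hOp hdvd
    (X.comap (QuotientGroup.mk' (commutator H))) (Y.comap (QuotientGroup.mk' (commutator H)))
    (commutator H) hX' hY' hc (Subgroup.comap_mono hYX) hcY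
    (hcomap X hXinv) (hcomap Y hYinv) hinvc

end D1

end Cfsg.Agent.Helper83
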