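import Mathlib
import Cfsg.Agent.Lib.Helper83.OrderP4b
import Cfsg.Agent.Lib.Helper63.Extraspecial
import Cfsg.Agent.Lib.Helper63.HeisES
import Cfsg.Agent.Lib.Helper24.ClassTwo
import Cfsg.Agent.S0012
import Cfsg.Agent.S0016

set_option autoImplicit false

/-!
# Nonabelian groups of order `p⁴` with `H/H'` elementary abelian of order `p³`
-/

namespace Cfsg.Agent.Helper83

open scoped commutatorElement

section E1

variable {H : Type*} [Group H] [Finite H] {p : ℕ} [hp : Fact p.Prime]

theorem card_center_of_pow_mem_commutator (hcard : Nat.card H = p ^ 4)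
    (hc : Nat.card (commutator H) = p) (hpow : ∀ x : H, x ^ p ∈ commutator H) :
    Nat.card (Subgroup.center H) = p ^ 2 := by
  have hpp := hp.out
  have hH : IsPGroup p H := IsPGroup.of_card hcard
  have hcne : commutator H ≠ ⊥ := by
    intro h
    rw [h, Subgroup.card_bot] at hc
    exact hpp.one_lt.ne hc
  have hna := nonabelian_of_commutator_ne_bot hcne
  have hle : commutator H ≤ Subgroup.center H :=
    Cfsg.Agent.Helper63.normal_card_prime_le_center hH (commutator H) hc
  rcases card_center_of_nonabelian_p4 hcard hna with hZ | hZ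
  · exfalso
    have hceq : commutator H = Subgroup.center H :=
      Subgroup.eq_of_le_of_card_ge hle (by rw [hZ, hc])
    have hfr : frattini H = Subgroup.center H := by
      apply le_antisymm
      · rw [← hceq]
        exact Cfsg.Agent.S0013.result p hH (commutator H) le_rfl hpow
      · rw [← hceq]
        exact (Cfsg.Agent.S0012.result p hH).1
    have hES : Cfsg.IsExtraspecial p H := ⟨⟨hH, hfr, hceq⟩, hZ⟩
    obtain ⟨n, hn1, hn⟩ := Cfsg.Agent.Helper63.extraspecial_card hES
    rw [hcard] at hn
    have := Nat.pow_right_injective hpp.two_le hn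
    omega
  · exact hZ

omit [Finite H] in
/-- `(ab)ⁿ = aⁿ bⁿ [b,a]^(n choose 2)` when `H' ≤ Z(H)`. -/
theorem mul_pow_of_commutator_le_center (hle : commutator H ≤ Subgroup.center H) (a b : H)
    (n : ℕ) : (a * b) ^ n = a ^ n * b ^ n * ⁅b, a⁆ ^ (n.choose 2) := by
  have hcz := hle (commutatorElement_mem_commutator b a)
  have hcz' := Subgroup.mem_center_iff.1 hcz
  have h1 : Commute (b * a * b⁻¹ * a⁻¹) a := by
    rw [← commutatorElement_def]; exact (hcz' a).symm
  have h2 : Commute (b * a * b⁻¹ * a⁻¹) b := by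
    rw [← commutatorElement_def]; exact (hcz' b).symm
  have := Cfsg.Agent.Helper24.mul_pow_of_commutator_commute a b h1 h2 n
  rw [this, ← commutatorElement_def]

omit [Finite H] in
theorem mul_pow_prime_of_card_commutator (hp2 : p ≠ 2) (hc : Nat.card (commutator H) = p)
    (hle : commutator H ≤ Subgroup.center H) (a b : H) : (a * b) ^ p = a ^ p * b ^ p := by
  have hpp := hp.out
  rw [mul_pow_of_commutator_le_center hle a b p]
  have hodd : p ∣ p.choose 2 := by
    have h2lt : 2 < p := lt_of_le_of_ne hpp.two_le (Ne.symm hp2)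
    exact hpp.dvd_choose_self (by norm_num) h2lt
  obtain ⟨k, hk⟩ := hodd
  have h1 : ⁅b, a⁆ ^ p = 1 := by
    have : (⟨⁅b, a⁆, commutatorElement_mem_commutator b a⟩ : commutator H) ^ p = 1 := by
      rw [← hc]; exact pow_card_eq_one'
    exact congrArg Subtype.val this
  rw [hk, pow_mul, h1, one_pow, mul_one]

omit [Finite H] in
/-- if `H ≃* M × C` with `M` and `C` commutative, then `H` is commutative -/
theorem comm_of_mulEquiv_prod {M C : Type*} [Group M] [CommGroup C] (e : H ≃* M × C)
    (hM : ∀ a b : M, a * b = b * a) (x y : H) : x * y = y * x := by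
  apply e.injective
  rw [map_mul, map_mul]
  ext
  · exact hM _ _
  · exact mul_comm _ _

end E1

section odd

variable {H : Type*} [Group H] [Finite H] {p : ℕ} [hp : Fact p.Prime]

theorem odd_case (hcard : Nat.card H = p ^ 4) (hp2 : p ≠ 2)
    (hc : Nat.card (commutator H) = p) (hpow : ∀ x : H, x ^ p ∈ commutator H)
    (hZnc : ¬ IsCyclic (Subgroup.center H))
    (A : Subgroup (MulAut H)) (N : Subgroup A)
    [N.Normal] (hOp : ∀ M : Subgroup (A ⧸ N), M.Normal → IsPGroup p M → M = ⊥)
    (hdvd : p ∣ Nat.card (A ⧸ N)) :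
    ∃ (E : Type) (_ : Group E) (_ : Finite E), Cfsg.IsExtraspecial p E ∧ Nat.card E = p ^ 3 ∧
      (∀ x : E, x ^ p = 1) ∧ Nonempty (H ≃* E × Multiplicative (ZMod p)) := by
  have hpp := hp.out
  have hH : IsPGroup p H := IsPGroup.of_card hcard
  have hp1 : 1 < p := hpp.one_lt
  have hcne : commutator H ≠ ⊥ := by
    intro h
    rw [h, Subgroup.card_bot] at hc
    exact hpp.one_lt.ne hc
  have hna := nonabelian_of_commutator_ne_bot hcne
  have hle : commutator H ≤ Subgroup.center H :=
    Cfsg.Agent.Helper63.normal_card_prime_le_center hH (commutator H) hc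
  have hZ := card_center_of_pow_mem_commutator hcard hc hpow
  have hZexp : ∀ z ∈ Subgroup.center H, z ^ p = 1 := by
    intro z hz
    have := pow_prime_eq_one_of_card_sq hZ hZnc ⟨z, hz⟩
    exact congrArg Subtype.val this
  by_cases hexp : ∀ x : H, x ^ p = 1
  · obtain ⟨z, hz, hzc⟩ : ∃ z ∈ Subgroup.center H, z ∉ commutator H := by
      by_contra hcon
      push Not at hcon
      have : Subgroup.center H ≤ commutator H := hcon
      have := Subgroup.card_le_of_le this
      rw [hZ, hc] at this
      have h3 : p ^ 1 < p ^ 2 := Nat.pow_lt_pow_right hp1 (by norm_num)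
      rw [pow_one] at h3
      omega
    have hfr : frattini H ≤ commutator H :=
      Cfsg.Agent.S0013.result p hH (commutator H) le_rfl hpow
    obtain ⟨M, hidx, hzM, hfrM, ⟨e⟩⟩ := exists_split hH hz (hexp z) (fun h => hzc (hfr h))
    have hMcard : Nat.card M = p ^ 3 := by
      have h1 := Subgroup.card_mul_index M
      rw [hidx, hcard] at h1
      have h2 : Nat.card M * p = p ^ 3 * p := by rw [h1]; ring
      exact Nat.eq_of_mul_eq_mul_right hpp.pos h2
    have hnaM : ∃ a b : M, a * b ≠ b * a := by
      by_contra hcon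
      push Not at hcon
      obtain ⟨a, b, hab⟩ := hna
      exact hab (comm_of_mulEquiv_prod e hcon a b)
    have hES := isExtraspecial_of_nonabelian_p3 hMcard hnaM
    have e' : Shrink.{0} ↥M ≃* ↥M := Shrink.mulEquiv
    refine ⟨Shrink.{0} ↥M, inferInstance, Finite.of_equiv _ e'.symm.toEquiv,
      Cfsg.Agent.Helper63.isExtraspecial_of_mulEquiv e'.symm hES, ?_, ?_, ?_⟩
    · rw [Nat.card_congr e'.toEquiv, hMcard]
    · intro x
      apply e'.injective
      rw [map_pow, map_one]
      apply Subtype.ext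
      have := hexp ((e' x : M) : H)
      simpa using this
    · exact ⟨e.trans (MulEquiv.prodCongr e'.symm (MulEquiv.refl _))⟩
  · exfalso
    push Not at hexp
    obtain ⟨x₀, hx₀⟩ := hexp
    set ψ : H →* H := MonoidHom.mk' (fun x => x ^ p)
      (mul_pow_prime_of_card_commutator hp2 hc hle) with hψ
    have hψa : ∀ x : H, ψ x = x ^ p := fun x => rfl
    have hRle : ψ.range ≤ commutator H := by
      rintro _ ⟨x, rfl⟩
      exact hpow x
    have hker : Nat.card ψ.ker = p ^ 3 := by
      have h1 : Nat.card ψ.range ∣ p := hc ▸ Subgroup.card_dvd_of_le hRle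
      have h2 := Subgroup.card_mul_index ψ.ker
      rw [Subgroup.index_ker, hcard] at h2
      rcases (Nat.dvd_prime hpp).1 h1 with h3 | h3
      · exfalso
        have hbot : ψ.range = ⊥ := Subgroup.card_eq_one.1 h3
        have hmem : ψ x₀ ∈ ψ.range := ⟨_, rfl⟩
        rw [hbot, Subgroup.mem_bot, hψa] at hmem
        exact hx₀ hmem
      · rw [h3] at h2
        have h4 : Nat.card ψ.ker * p = p ^ 3 * p := by rw [h2]; ring
        exact Nat.eq_of_mul_eq_mul_right hpp.pos h4
    have hZk : Subgroup.center H ≤ ψ.ker := by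
      intro z hz
      rw [MonoidHom.mem_ker, hψa]
      exact hZexp z hz
    have hkinv : ∀ α : MulAut H, ∀ x ∈ ψ.ker, α x ∈ ψ.ker := by
      intro α x hx
      rw [MonoidHom.mem_ker, hψa] at hx ⊢
      rw [← map_pow, hx, map_one]
    exact false_of_three_invariant hcard A N hOp hdvd ψ.ker (Subgroup.center H) (commutator H)
      hker hZ hc hZk hle hkinv (fun α x hx => map_mem_center α hx)
      (fun α x hx => map_mem_of_characteristic _ α hx)

end odd

section two

variable {Q : Type*} [Group Q] [Finite Q]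

/-- A nonabelian group of order `8` with a unique involution is the quaternion group. -/
theorem quaternion_of_unique_involution (hcard : Nat.card Q = 2 ^ 3)
    (hna : ∃ a b : Q, a * b ≠ b * a) (c : Q) (hu : ∀ x : Q, x * x = 1 → x = 1 ∨ x = c) :
    Nonempty (Q ≃* QuaternionGroup 2) := by
  have : Fact (Nat.Prime 2) := ⟨Nat.prime_two⟩
  have hH : IsPGroup 2 Q := IsPGroup.of_card hcard
  have hnc : ¬ IsCyclic Q := by
    intro hc
    obtain ⟨a, b, hab⟩ := hna
    exact hab (comm_of_isCyclic83 a b)
  have huniq : ∀ K : Subgroup Q, Nat.card K = 2 → K = Subgroup.zpowers c := by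
    intro K hK
    have hKne : K ≠ ⊥ := by
      intro h
      rw [h] at hK
      simp at hK
    obtain ⟨a, ha⟩ := (Subgroup.ne_bot_iff_exists_ne_one).1 hKne
    obtain ⟨x, hxK, hx1⟩ : ∃ x : Q, x ∈ K ∧ x ≠ 1 :=
      ⟨(a : Q), a.2, fun h => ha (Subtype.ext h)⟩
    have hxx : x * x = 1 := by
      have : (⟨x, hxK⟩ : K) ^ 2 = 1 := by rw [← hK]; exact pow_card_eq_one'
      have := congrArg Subtype.val this
      simpa [pow_two] using this
    rcases hu x hxx with rfl | rfl
    · exact absurd rfl hx1
    · symm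
      apply Subgroup.eq_of_le_of_card_ge
      · rw [Subgroup.zpowers_le]; exact hxK
      · rw [hK, Nat.card_zpowers]
        have : orderOf x = 2 := orderOf_eq_prime (by rw [pow_two]; exact hxx) hx1
        rw [this]
  have h16 := Cfsg.Agent.S0016.result 2 hH
    (fun K₁ K₂ h1 h2 => (huniq K₁ h1).trans (huniq K₂ h2).symm)
  rcases h16 with hc | ⟨-, n, ⟨e⟩⟩
  · exact absurd hc hnc
  · have h1 : Nat.card Q = 4 * 2 ^ n := by
      rw [Nat.card_congr e.toEquiv, Nat.card_eq_fintype_card, QuaternionGroup.card]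
    rw [hcard] at h1
    have h2 : 2 ^ n = 2 ^ 1 := by omega
    have h3 : n = 1 := Nat.pow_right_injective (le_refl 2) h2
    subst h3
    exact ⟨e⟩

end two

section two_case

variable {H : Type*} [Group H] [Finite H]

theorem two_case (hcard : Nat.card H = 2 ^ 4) (hc : Nat.card (commutator H) = 2)
    (hpow : ∀ x : H, x ^ 2 ∈ commutator H) (hZnc : ¬ IsCyclic (Subgroup.center H))
    (A : Subgroup (MulAut H)) (N : Subgroup A) [N.Normal]
    (hOp : ∀ M : Subgroup (A ⧸ N), M.Normal → IsPGroup 2 M → M = ⊥)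
    (hdvd : 2 ∣ Nat.card (A ⧸ N)) :
    Nonempty (H ≃* QuaternionGroup 2 × Multiplicative (ZMod 2)) := by
  have : Fact (Nat.Prime 2) := ⟨Nat.prime_two⟩
  have hH : IsPGroup 2 H := IsPGroup.of_card hcard
  have hcne : commutator H ≠ ⊥ := by
    intro h
    rw [h, Subgroup.card_bot] at hc
    omega
  have hna := nonabelian_of_commutator_ne_bot hcne
  have hle : commutator H ≤ Subgroup.center H :=
    Cfsg.Agent.Helper63.normal_card_prime_le_center hH (commutator H) hc
  have hZ : Nat.card (Subgroup.center H) = 2 ^ 2 :=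
    card_center_of_pow_mem_commutator (p := 2) hcard hc hpow
  have hZexp : ∀ z ∈ Subgroup.center H, z ^ 2 = 1 := by
    intro z hz
    have := pow_prime_eq_one_of_card_sq hZ hZnc ⟨z, hz⟩
    exact congrArg Subtype.val this
  -- `H'` has a unique nontrivial element
  have huniq : ∀ a ∈ commutator H, ∀ b ∈ commutator H, a ≠ 1 → b ≠ 1 → a = b := by
    obtain ⟨c', hc'1, hc'u⟩ := (Nat.card_eq_two_iff' (1 : ↥(commutator H))).1 hc
    intro a ha b hb ha1 hb1
    have h1 := hc'u ⟨a, ha⟩ (fun h => ha1 (congrArg Subtype.val h))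
    have h2 := hc'u ⟨b, hb⟩ (fun h => hb1 (congrArg Subtype.val h))
    exact congrArg Subtype.val (h1.trans h2.symm)
  have hsq : ∀ a b : H, (a * b) ^ 2 = a ^ 2 * b ^ 2 * ⁅b, a⁆ := by
    intro a b
    rw [mul_pow_of_commutator_le_center hle a b 2]
    simp
  have hsqz : ∀ a : H, ∀ z ∈ Subgroup.center H, (a * z) ^ 2 = a ^ 2 := by
    intro a z hz
    have hcomm : Commute a z := (Subgroup.mem_center_iff.1 hz) a
    rw [hcomm.mul_pow, hZexp z hz, mul_one]
  have hfr : frattini H ≤ commutator H :=
    Cfsg.Agent.S0013.result 2 hH (commutator H) le_rfl hpow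
  by_cases hi : ∀ x : H, x ∉ Subgroup.center H → x ^ 2 ≠ 1
  · -- the quaternion case
    obtain ⟨z, hz, hzc⟩ : ∃ z ∈ Subgroup.center H, z ∉ commutator H := by
      by_contra hcon
      push Not at hcon
      have : Subgroup.center H ≤ commutator H := hcon
      have := Subgroup.card_le_of_le this
      rw [hZ, hc] at this
      omega
    obtain ⟨M, hidx, hzM, hfrM, ⟨e⟩⟩ := exists_split hH hz (hZexp z hz) (fun h => hzc (hfr h))
    have hMcard : Nat.card M = 2 ^ 3 := by
      have h1 := Subgroup.card_mul_index M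
      rw [hidx, hcard] at h1
      omega
    have hnaM : ∃ a b : M, a * b ≠ b * a := by
      by_contra hcon
      push Not at hcon
      obtain ⟨a, b, hab⟩ := hna
      exact hab (comm_of_mulEquiv_prod e hcon a b)
    have hcM : commutator H ≤ M := (Cfsg.Agent.S0012.result 2 hH).1.trans hfrM
    have hinf : commutator H = Subgroup.center H ⊓ M := by
      have hle2 : commutator H ≤ Subgroup.center H ⊓ M := le_inf hle hcM
      apply Subgroup.eq_of_le_of_card_ge hle2
      have h1 : Nat.card ↥(Subgroup.center H ⊓ M) ∣ 2 ^ 2 :=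
        hZ ▸ Subgroup.card_dvd_of_le inf_le_left
      obtain ⟨k, hk2, hk⟩ := (Nat.dvd_prime_pow Nat.prime_two).1 h1
      have hk2' : k ≠ 2 := by
        rintro rfl
        have : Subgroup.center H ⊓ M = Subgroup.center H :=
          Subgroup.eq_of_le_of_card_ge inf_le_left (by rw [hZ, hk])
        apply hzM
        have hz' : z ∈ Subgroup.center H ⊓ M := by rw [this]; exact hz
        exact hz'.2
      rw [hk, hc]
      interval_cases k
      · simp
      · simp
      · exact absurd rfl hk2'
    obtain ⟨c, hcmem, hc1⟩ : ∃ c ∈ commutator H, c ≠ 1 := by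
      by_contra hcon
      push Not at hcon
      exact hcne ((Subgroup.eq_bot_iff_forall _).2 hcon)
    have huM : ∀ m : M, m * m = 1 → m = 1 ∨ m = ⟨c, hcM hcmem⟩ := by
      intro m hm
      have hm2 : (m : H) ^ 2 = 1 := by
        have := congrArg Subtype.val hm
        simpa [pow_two] using this
      have hmZ : (m : H) ∈ Subgroup.center H := by
        by_contra hcon
        exact hi _ hcon hm2
      have hmc : (m : H) ∈ commutator H := by
        rw [hinf]
        exact ⟨hmZ, m.2⟩
      by_cases hm1 : (m : H) = 1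
      · left; exact Subtype.ext hm1
      · right
        exact Subtype.ext (huniq _ hmc _ hcmem hm1 hc1)
    obtain ⟨eQ⟩ := quaternion_of_unique_involution hMcard hnaM _ huM
    exact ⟨e.trans (MulEquiv.prodCongr eQ (MulEquiv.refl _))⟩
  · exfalso
    push Not at hi
    obtain ⟨x₀, hx₀Z, hx₀⟩ := hi
    have hx₀c : ∀ g : H, ⁅g, x₀⁆ ∈ Subgroup.center H := fun g =>
      hle (commutatorElement_mem_commutator g x₀)
    set φ := commHom x₀ hx₀c with hφ
    have hRle : φ.range ≤ commutator H := by
      rintro _ ⟨g, rfl⟩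
      exact commutatorElement_mem_commutator g x₀
    have hkertop : φ.ker ≠ ⊤ := by
      intro htop
      apply hx₀Z
      rw [Subgroup.mem_center_iff]
      intro g
      have : g ∈ φ.ker := htop ▸ Subgroup.mem_top g
      rwa [mem_ker_commHom] at this
    have hkidx : φ.ker.index = 2 := by
      rw [Subgroup.index_ker]
      have h1 : Nat.card φ.range ∣ 2 := hc ▸ Subgroup.card_dvd_of_le hRle
      rcases (Nat.dvd_prime Nat.prime_two).1 h1 with h | h
      · exfalso
        apply hkertop
        rw [← Subgroup.index_eq_one, Subgroup.index_ker, h]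
      · exact h
    have hker : Nat.card φ.ker = 2 ^ 3 := by
      have h1 := Subgroup.card_mul_index φ.ker
      rw [hkidx, hcard] at h1
      omega
    have hZk : Subgroup.center H ≤ φ.ker := by
      intro z hz
      rw [mem_ker_commHom]
      exact ((Subgroup.mem_center_iff.1 hz) x₀).symm
    have hx₀k : x₀ ∈ φ.ker := by rw [mem_ker_commHom]
    have hgen : Subgroup.center H ⊔ Subgroup.zpowers x₀ = φ.ker := by
      apply sup_zpowers_eq_of_relIndex_prime Nat.prime_two hZk _ hx₀k hx₀Z
      have := relIndex_mul_card_of_le hZk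
      rw [hZ, hker] at this
      omega
    have hCsq : ∀ u ∈ φ.ker, u ^ 2 = 1 := by
      intro u hu
      rw [← hgen] at hu
      have hu' : u ∈ ((Subgroup.center H ⊔ Subgroup.zpowers x₀ : Subgroup H) : Set H) := hu
      rw [Subgroup.normal_mul] at hu'
      obtain ⟨z', hz', w, hw, rfl⟩ := Set.mem_mul.1 hu'
      obtain ⟨i, rfl⟩ := Subgroup.mem_zpowers_iff.1 hw
      have hcomm : Commute z' (x₀ ^ i) := ((Subgroup.mem_center_iff.1 hz') (x₀ ^ i)).symm
      have hxi : (x₀ ^ i) ^ 2 = 1 := by
        rw [← zpow_natCast, ← zpow_mul, mul_comm, zpow_mul, zpow_natCast, hx₀, one_zpow]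
      rw [hcomm.mul_pow, hZexp z' hz', one_mul, hxi]
    have hT : ∀ t₁ t₂ : H, t₁ ^ 2 ≠ 1 → t₂ ^ 2 ≠ 1 → t₁ * t₂ = t₂ * t₁ := by
      intro t₁ t₂ h1 h2
      have ht₁ : t₁ ∉ φ.ker := fun h => h1 (hCsq _ h)
      have ht₂ : t₂ ∉ φ.ker := fun h => h2 (hCsq _ h)
      have hu : t₁⁻¹ * t₂ ∈ φ.ker := by
        rw [Subgroup.mul_mem_iff_of_index_two hkidx, inv_mem_iff]
        exact ⟨fun h => absurd h ht₁, fun h => absurd h ht₂⟩
      obtain ⟨u, hudef⟩ : ∃ u, u = t₁⁻¹ * t₂ := ⟨_, rfl⟩
      rw [← hudef] at hu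
      have ht₂' : t₂ = t₁ * u := by rw [hudef]; group
      have h3 := hsq t₁ u
      rw [← ht₂', hCsq u hu, mul_one] at h3
      have h4 : t₁ ^ 2 = t₂ ^ 2 := huniq _ (hpow t₁) _ (hpow t₂) h1 h2
      rw [← h4] at h3
      have h5 : ⁅u, t₁⁆ = 1 := by
        have h6 : t₁ ^ 2 * ⁅u, t₁⁆ = t₁ ^ 2 * 1 := by rw [← h3, mul_one]
        exact mul_left_cancel h6
      rw [commutatorElement_eq_one_iff_mul_comm] at h5
      rw [ht₂', mul_assoc, h5]
    obtain ⟨K, hK⟩ : ∃ K : Subgroup H, K = Subgroup.closure {t : H | t ^ 2 ≠ 1} := ⟨_, rfl⟩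
    have hTK : ∀ t : H, t ^ 2 ≠ 1 → t ∈ K := fun t ht => by
      rw [hK]; exact Subgroup.subset_closure ht
    have hKT : ∀ a ∈ K, ∀ t : H, t ^ 2 ≠ 1 → t * a = a * t := by
      have h1 : K ≤ Subgroup.centralizer {t : H | t ^ 2 ≠ 1} := by
        rw [hK, Subgroup.closure_le]
        intro t ht
        rw [SetLike.mem_coe, Subgroup.mem_centralizer_iff]
        intro s hs
        exact hT s t hs ht
      intro a ha t ht
      exact (Subgroup.mem_centralizer_iff.1 (h1 ha)) t ht
    have hKcomm : ∀ a ∈ K, ∀ b ∈ K, a * b = b * a := by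
      intro a ha
      have h2 : K ≤ Subgroup.centralizer ({a} : Set H) := by
        rw [hK, Subgroup.closure_le]
        intro t ht
        rw [SetLike.mem_coe, Subgroup.mem_centralizer_iff]
        intro s hs
        rw [Set.mem_singleton_iff] at hs
        subst hs
        exact (hKT s ha t ht).symm
      intro b hb
      exact (Subgroup.mem_centralizer_iff.1 (h2 hb)) a (Set.mem_singleton a)
    -- `T` is nonempty
    obtain ⟨t, ht⟩ : ∃ t : H, t ^ 2 ≠ 1 := by
      by_contra hcon
      push Not at hcon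
      obtain ⟨a, b, hab⟩ := hna
      apply hab
      have hinv : ∀ x : H, x⁻¹ = x := fun x =>
        inv_eq_of_mul_eq_one_right (by rw [← pow_two]; exact hcon x)
      calc a * b = (a * b)⁻¹ := (hinv _).symm
        _ = b⁻¹ * a⁻¹ := mul_inv_rev a b
        _ = b * a := by rw [hinv, hinv]
    have hZK : Subgroup.center H ≤ K := by
      intro z' hz'
      have h1 : t * z' ∈ K := hTK _ (by rw [hsqz t z' hz']; exact ht)
      have h2 : z' = t⁻¹ * (t * z') := by group
      rw [h2]
      exact K.mul_mem (K.inv_mem (hTK t ht)) h1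
    have htZ : t ∉ Subgroup.center H := fun h => ht (hZexp t h)
    have hKtop : K ≠ ⊤ := by
      intro htop
      obtain ⟨a, b, hab⟩ := hna
      exact hab (hKcomm a (htop ▸ Subgroup.mem_top a) b (htop ▸ Subgroup.mem_top b))
    have hKcard : Nat.card K = 2 ^ 3 := by
      obtain ⟨k, hk4, hk⟩ := (Nat.dvd_prime_pow Nat.prime_two).1
        (hcard ▸ Subgroup.card_subgroup_dvd_card K)
      have hk4' : k ≠ 4 := by
        rintro rfl
        exact hKtop (Subgroup.eq_top_of_card_eq _ (by rw [hk, hcard]))
      have hk2 : 2 < k := by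
        by_contra hcon
        push Not at hcon
        have h1 : Nat.card K ≤ Nat.card (Subgroup.center H) := by
          rw [hk, hZ]
          exact Nat.pow_le_pow_right (by norm_num) hcon
        have := Subgroup.eq_of_le_of_card_ge hZK h1
        exact htZ (this ▸ hTK t ht)
      have : k = 3 := by omega
      rw [hk, this]
    have hKinv : ∀ α : MulAut H, ∀ x ∈ K, α x ∈ K := by
      intro α x hx
      rw [hK] at hx ⊢
      induction hx using Subgroup.closure_induction with
      | mem y hy =>
        apply Subgroup.subset_closure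
        show (α y) ^ 2 ≠ 1
        rw [← map_pow]
        intro h
        apply hy
        exact (map_eq_one_iff α (MulEquiv.injective α)).1 h
      | one => rw [map_one]; exact Subgroup.one_mem _
      | mul y z _ _ hy hz => rw [map_mul]; exact Subgroup.mul_mem _ hy hz
      | inv y _ hy => rw [map_inv]; exact Subgroup.inv_mem _ hy
    exact false_of_three_invariant (p := 2) hcard A N hOp hdvd K (Subgroup.center H)
      (commutator H) hKcard hZ hc hZK hle hKinv (fun α x hx => map_mem_center α hx)
      (fun α x hx => map_mem_of_characteristic _ α hx)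

end two_case

end Cfsg.Agent.Helper83
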