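import Mathlib
import Cfsg.Agent.Lib.Helper83.OrderP4c
import Cfsg.Agent.Lib.Helper83.OrderP4d

set_option autoImplicit false

/-!
# Groups of order `p⁴` admitting a group of automorphisms `A` with `O_p(A/N) = 1`, `p ∣ |A/N|`
-/

namespace Cfsg.Agent.Helper83

open scoped commutatorElement

section main4

variable {H : Type*} [Group H] [Finite H] {p : ℕ} [hp : Fact p.Prime]

/-- the abelian case -/
theorem abelian_p4 (hcard : Nat.card H = p ^ 4) (hcomm : ∀ a b : H, a * b = b * a)
    (A : Subgroup (MulAut H))
    (hOp : ∀ M : Subgroup A, M.Normal → IsPGroup p M → M = ⊥) (hdvd : p ∣ Nat.card A) :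
    (∀ x : H, x ^ p = 1) ∨
      Nonempty (H ≃* Multiplicative (ZMod (p ^ 2) × ZMod p × ZMod p)) ∨
      ((p = 2 ∨ p = 3) ∧ Nonempty (H ≃* Multiplicative (ZMod (p ^ 2) × ZMod (p ^ 2)))) := by
  have hpp := hp.out
  have hH : IsPGroup p H := IsPGroup.of_card hcard
  set ψ := powHom hcomm p with hψ
  have hmul : Nat.card ψ.ker * Nat.card ψ.range = p ^ 4 := by
    rw [← Subgroup.index_ker, Subgroup.card_mul_index, hcard]
  obtain ⟨a, ha4, ha⟩ := (Nat.dvd_prime_pow hpp).1 (Dvd.intro_left _ hmul)
  by_cases ha0 : a = 0
  · left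
    subst ha0
    rw [pow_zero] at ha
    have hbot : ψ.range = ⊥ := Subgroup.card_eq_one.1 ha
    intro x
    have hmem : ψ x ∈ ψ.range := ⟨_, rfl⟩
    rw [hbot, Subgroup.mem_bot] at hmem
    exact hmem
  by_cases ha1 : a = 1
  · right; left
    subst ha1
    rw [pow_one] at ha
    exact iso_of_card_range_pow_eq hcard hcomm ha
  right; right
  have ha2 : 2 ≤ a := by omega
  have hrk : (frattini H).index ≤ p ^ 2 := by
    have h1 : ψ.range ≤ frattini H := by
      rintro _ ⟨x, rfl⟩
      exact (Cfsg.Agent.S0012.result p hH).2 x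
    have h2 : (frattini H).index ∣ ψ.range.index := Subgroup.index_dvd_of_le h1
    have h3 : ψ.range.index = p ^ (4 - a) := by
      have h4 := Subgroup.card_mul_index ψ.range
      rw [ha, hcard] at h4
      have h5 : p ^ a * ψ.range.index = p ^ a * p ^ (4 - a) := by
        rw [h4, ← pow_add]
        congr 1
        omega
      exact Nat.eq_of_mul_eq_mul_left (pow_pos hpp.pos a) h5
    rw [h3] at h2
    calc (frattini H).index ≤ p ^ (4 - a) := Nat.le_of_dvd (pow_pos hpp.pos _) h2
      _ ≤ p ^ 2 := Nat.pow_le_pow_right hpp.pos (by omega)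
  rcases abelian_rank_two_classification' hcomm hH hrk A hOp hdvd with ⟨-, hc2⟩ | ⟨hp3, k, ⟨e⟩⟩
  · exfalso
    rw [hcard] at hc2
    have := Nat.pow_right_injective hpp.two_le hc2
    omega
  · have hk : k = 2 := by
      have h1 : Nat.card H = p ^ k * p ^ k := by
        rw [Nat.card_congr e.toEquiv]
        show Nat.card (ZMod (p ^ k) × ZMod (p ^ k)) = _
        rw [Nat.card_prod, Nat.card_zmod]
      rw [hcard, ← pow_add] at h1
      have := Nat.pow_right_injective hpp.two_le h1
      omega
    subst hk
    refine ⟨?_, ⟨e⟩⟩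
    have h2 := hpp.two_le
    omega

theorem nonabelian_card_commutator (hcard : Nat.card H = p ^ 4)
    (hna : ∃ a b : H, a * b ≠ b * a) :
    Nat.card (commutator H) = p ∨ Nat.card (commutator H) = p ^ 2 := by
  have hpp := hp.out
  have hH : IsPGroup p H := IsPGroup.of_card hcard
  have hcne := commutator_ne_bot_of_nonabelian hna
  obtain ⟨k, hk4, hk⟩ := (Nat.dvd_prime_pow hpp).1
    (hcard ▸ Subgroup.card_subgroup_dvd_card (commutator H))
  have hk0 : k ≠ 0 := by
    rintro rfl
    rw [pow_zero] at hk
    exact hcne (Subgroup.card_eq_one.1 hk)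
  have hk3 : k ≤ 2 := by
    by_contra hcon
    push Not at hcon
    -- the index divides `p`
    have hidx : (commutator H).index ∣ p := by
      have h1 := Subgroup.card_mul_index (commutator H)
      rw [hk, hcard] at h1
      have h2 : (commutator H).index = p ^ (4 - k) := by
        have h5 : p ^ k * (commutator H).index = p ^ k * p ^ (4 - k) := by
          rw [h1, ← pow_add]
          congr 1
          omega
        exact Nat.eq_of_mul_eq_mul_left (pow_pos hpp.pos k) h5
      rw [h2]
      have : 4 - k ≤ 1 := by omega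
      calc p ^ (4 - k) ∣ p ^ 1 := pow_dvd_pow p this
        _ = p := pow_one p
    obtain ⟨x, hx⟩ : ∃ x : H, commutator H ⊔ Subgroup.zpowers x = ⊤ := by
      rcases (Nat.dvd_prime hpp).1 hidx with h | h
      · refine ⟨1, ?_⟩
        rw [Subgroup.index_eq_one] at h
        rw [h, top_sup_eq]
      · obtain ⟨x, hx⟩ : ∃ x : H, x ∉ commutator H := by
          by_contra hcon2
          push Not at hcon2
          have : commutator H = ⊤ := eq_top_iff.2 (fun x _ => hcon2 x)
          rw [this, Subgroup.index_top] at h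
          exact hpp.one_lt.ne h
        refine ⟨x, ?_⟩
        apply sup_zpowers_eq_of_relIndex_prime hpp le_top _ (Subgroup.mem_top x) hx
        rw [Subgroup.relIndex_top_right]
        exact h
    have htop : Subgroup.zpowers x = ⊤ := by
      apply frattini_nongenerating
      apply le_antisymm le_top
      calc (⊤ : Subgroup H) = commutator H ⊔ Subgroup.zpowers x := hx.symm
        _ ≤ frattini H ⊔ Subgroup.zpowers x :=
          sup_le_sup_right (Cfsg.Agent.S0012.result p hH).1 _
        _ = Subgroup.zpowers x ⊔ frattini H := sup_comm _ _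
    obtain ⟨a, b, hab⟩ := hna
    apply hab
    have ha : a ∈ Subgroup.zpowers x := htop ▸ Subgroup.mem_top a
    have hb : b ∈ Subgroup.zpowers x := htop ▸ Subgroup.mem_top b
    obtain ⟨i, rfl⟩ := Subgroup.mem_zpowers_iff.1 ha
    obtain ⟨j, rfl⟩ := Subgroup.mem_zpowers_iff.1 hb
    rw [← zpow_add, ← zpow_add, add_comm]
  have : k = 1 ∨ k = 2 := by omega
  rcases this with rfl | rfl
  · left; rw [hk, pow_one]
  · right; exact hk

/-- The groups of order `p⁴` admitting a group `A` of automorphisms with a quotient `A/N` having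
trivial `O_p` and order divisible by `p` (where `N` is trivial if `H` is abelian). -/
theorem order_p4_classification (hcard : Nat.card H = p ^ 4)
    (A : Subgroup (MulAut H)) (N : Subgroup A) [N.Normal]
    (hOp : ∀ M : Subgroup (A ⧸ N), M.Normal → IsPGroup p M → M = ⊥)
    (hdvd : p ∣ Nat.card (A ⧸ N))
    (hN : (∀ a b : H, a * b = b * a) → N = ⊥) :
    ((∀ a b : H, a * b = b * a) ∧ ∀ x : H, x ^ p = 1) ∨
    Nonempty (H ≃* Multiplicative (ZMod (p ^ 2) × ZMod p × ZMod p)) ∨
    ((p = 2 ∨ p = 3) ∧ Nonempty (H ≃* Multiplicative (ZMod (p ^ 2) × ZMod (p ^ 2)))) ∨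
    (p ≠ 2 ∧ ∃ (E : Type) (_ : Group E) (_ : Finite E), Cfsg.IsExtraspecial p E ∧
        Nat.card E = p ^ 3 ∧ (∀ x : E, x ^ p = 1) ∧
        Nonempty (H ≃* E × Multiplicative (ZMod p))) ∨
    (p = 2 ∧ Nonempty (H ≃* QuaternionGroup 2 × Multiplicative (ZMod 2))) ∨
    ((∃ a b : H, a * b ≠ b * a) ∧ (∀ x : H, x ^ (p ^ 2) = 1) ∧
        IsCyclic (Subgroup.center H) ∧ Nat.card (Subgroup.center H) = p ^ 2) := by
  have hpp := hp.out
  by_cases hcomm : ∀ a b : H, a * b = b * a
  · have hNbot := hN hcomm
    have hOp' : ∀ M : Subgroup A, M.Normal → IsPGroup p M → M = ⊥ := by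
      intro M hMn hMp
      have hMbar : (M.map (QuotientGroup.mk' N)).Normal :=
        hMn.map _ (QuotientGroup.mk'_surjective _)
      have hMbarp : IsPGroup p (M.map (QuotientGroup.mk' N)) := hMp.map _
      have := hOp _ hMbar hMbarp
      rw [Subgroup.map_eq_bot_iff, QuotientGroup.ker_mk', hNbot] at this
      exact le_bot_iff.1 this
    have hdvd' : p ∣ Nat.card A := hdvd.trans (Subgroup.card_quotient_dvd_card _)
    rcases abelian_p4 hcard hcomm A hOp' hdvd' with h | h | h
    · left; exact ⟨hcomm, h⟩
    · right; left; exact h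
    · right; right; left; exact h
  · push Not at hcomm
    rcases nonabelian_card_commutator hcard hcomm with hc | hc
    · by_cases hpow : ∀ x : H, x ^ p ∈ commutator H
      · have hZ := card_center_of_pow_mem_commutator hcard hc hpow
        by_cases hZc : IsCyclic (Subgroup.center H)
        · right; right; right; right; right
          refine ⟨hcomm, ?_, hZc, hZ⟩
          intro x
          have h1 := pow_card_eq_one' (G := commutator H) (x := ⟨x ^ p, hpow x⟩)
          rw [hc] at h1
          have h2 := congrArg Subtype.val h1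
          rw [pow_two, pow_mul]
          simpa using h2
        · by_cases hp2 : p = 2
          · right; right; right; right; left
            subst hp2
            exact ⟨rfl, two_case hcard hc hpow hZc A N hOp hdvd⟩
          · right; right; right; left
            exact ⟨hp2, odd_case hcard hp2 hc hpow hZc A N hOp hdvd⟩
      · exfalso
        push Not at hpow
        exact false_of_pow_not_mem_commutator hcard hc hpow A N hOp hdvd
    · exfalso
      exact false_of_card_commutator_sq hcard hc A N hOp hdvd

end main4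

end Cfsg.Agent.Helper83
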