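import Mathlib
import Cfsg.Prelude.Def_RootSubgroups
import Cfsg.Agent.Lib.Helper83.Conj
import Cfsg.Agent.Lib.Helper83.RankOne

/-!
Quadratic action of a subgroup on an abelian group: `dlt x v = x • v - v`, the commutator module
`cm H = [V, H]`, and the basic relation for a rank one pair acting quadratically.
-/

set_option autoImplicit false

namespace Cfsg.Agent.Helper83

open Cfsg

variable {X : Type*} [Group X] {V : Type*} [AddCommGroup V] [DistribMulAction X V]

/-- `x • v - v` -/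
def dlt (x : X) (v : V) : V := x • v - v

theorem dlt_def (x : X) (v : V) : dlt x v = x • v - v := rfl

theorem smul_eq_dlt_add (x : X) (v : V) : x • v = dlt x v + v := by
  rw [dlt_def]; abel

@[simp] theorem dlt_one (v : V) : dlt (1 : X) v = 0 := by simp [dlt_def]

@[simp] theorem dlt_zero (x : X) : dlt x (0 : V) = 0 := by simp [dlt_def]

theorem dlt_add (x : X) (v w : V) : dlt x (v + w) = dlt x v + dlt x w := by
  simp only [dlt_def, smul_add]; abel

theorem dlt_neg (x : X) (v : V) : dlt x (-v) = -dlt x v := by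
  simp only [dlt_def, smul_neg]; abel

theorem dlt_sub (x : X) (v w : V) : dlt x (v - w) = dlt x v - dlt x w := by
  simp only [dlt_def, smul_sub]; abel

theorem dlt_nsmul (x : X) (n : ℕ) (v : V) : dlt x (n • v) = n • dlt x v := by
  induction n with
  | zero => simp
  | succ n ih => rw [succ_nsmul, succ_nsmul, dlt_add, ih]

theorem dlt_eq_zero_iff {x : X} {v : V} : dlt x v = 0 ↔ x • v = v := by
  rw [dlt_def, sub_eq_zero]

theorem dlt_conj (g h : X) (v : V) : dlt (g * h * g⁻¹) v = g • dlt h (g⁻¹ • v) := by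
  simp only [dlt_def, smul_sub, mul_smul, smul_inv_smul]

/-- `H` acts quadratically on `V` -/
def Quadratic (H : Subgroup X) (V : Type*) [AddCommGroup V] [DistribMulAction X V] : Prop :=
  ∀ a ∈ H, ∀ a' ∈ H, ∀ v : V, a' • dlt a v = dlt a v

theorem quadratic_iff {H : Subgroup X} :
    Quadratic H V ↔ ∀ a ∈ H, ∀ a' ∈ H, ∀ v : V, a' • (a • v - v) = a • v - v := Iff.rfl

theorem Quadratic.conjBy {H : Subgroup X} (hq : Quadratic H V) (g : X) :
    Quadratic (conjBy H g) V := by
  intro c hc c' hc' v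
  rw [mem_conjBy] at hc hc'
  have e1 : c = g * (g⁻¹ * c * g) * g⁻¹ := by group
  have e2 : c' = g * (g⁻¹ * c' * g) * g⁻¹ := by group
  rw [e1, dlt_conj]
  conv_lhs => rw [e2]
  rw [mul_smul, mul_smul, inv_smul_smul, hq _ hc _ hc']

/-- the commutator module `[V, H]` -/
def cm (H : Subgroup X) (V : Type*) [AddCommGroup V] [DistribMulAction X V] : AddSubgroup V :=
  AddSubgroup.closure {w | ∃ a ∈ H, ∃ v : V, w = dlt a v}

theorem dlt_mem_cm {H : Subgroup X} {a : X} (ha : a ∈ H) (v : V) : dlt a v ∈ cm H V :=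
  AddSubgroup.subset_closure ⟨a, ha, v, rfl⟩

theorem Quadratic.smul_cm {H : Subgroup X} (hq : Quadratic H V) {a : X} (ha : a ∈ H) {w : V}
    (hw : w ∈ cm H V) : a • w = w := by
  unfold cm at hw
  induction hw using AddSubgroup.closure_induction with
  | mem x hx =>
    obtain ⟨a', ha', v, rfl⟩ := hx
    exact hq a' ha' a ha v
  | zero => simp
  | add x y _ _ hx hy => rw [smul_add, hx, hy]
  | neg x _ hx => rw [smul_neg, hx]

theorem Quadratic.dlt_cm {H : Subgroup X} (hq : Quadratic H V) {a : X} (ha : a ∈ H) {w : V}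
    (hw : w ∈ cm H V) : dlt a w = 0 := by
  rw [dlt_eq_zero_iff]; exact hq.smul_cm ha hw

theorem Quadratic.dlt_mul {H : Subgroup X} (hq : Quadratic H V) {a a' : X} (ha : a ∈ H)
    (ha' : a' ∈ H) (v : V) : dlt (a * a') v = dlt a v + dlt a' v := by
  have h1 : (a * a') • v = a • (dlt a' v + v) := by rw [mul_smul, ← smul_eq_dlt_add]
  rw [dlt_def, h1, smul_add, hq a' ha' a ha v, smul_eq_dlt_add a v]
  abel

theorem Quadratic.dlt_pow {H : Subgroup X} (hq : Quadratic H V) {a : X} (ha : a ∈ H) (n : ℕ)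
    (v : V) : dlt (a ^ n) v = n • dlt a v := by
  induction n with
  | zero => simp
  | succ n ih => rw [pow_succ, hq.dlt_mul (H.pow_mem ha n) ha, ih, succ_nsmul]

theorem Quadratic.inv_smul {H : Subgroup X} (hq : Quadratic H V) {a : X} (ha : a ∈ H) (v : V) :
    a⁻¹ • v = v - dlt a v := by
  rw [inv_smul_eq_iff, smul_sub, hq a ha a ha v, smul_eq_dlt_add a v]
  abel

/-- a faithful quadratic action forces the subgroup to be commutative -/
theorem Quadratic.mul_comm {H : Subgroup X} (hq : Quadratic H V)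
    (hf : ∀ x : X, (∀ v : V, x • v = v) → x = 1) {a a' : X} (ha : a ∈ H) (ha' : a' ∈ H) :
    a * a' = a' * a := by
  have h1 : ∀ v : V, (a * a') • v = (a' * a) • v := by
    intro v
    rw [smul_eq_dlt_add (a * a') v, smul_eq_dlt_add (a' * a) v, hq.dlt_mul ha ha',
      hq.dlt_mul ha' ha, add_comm (dlt a v)]
  have h2 : (a' * a)⁻¹ * (a * a') = 1 := by
    apply hf
    intro v
    rw [mul_smul, h1 v, inv_smul_smul]
  exact (inv_mul_eq_one.1 h2).symm

theorem Quadratic.isMulCommutative {H : Subgroup X} (hq : Quadratic H V)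
    (hf : ∀ x : X, (∀ v : V, x • v = v) → x = 1) : IsMulCommutative H :=
  ⟨⟨fun a b => Subtype.ext (hq.mul_comm hf a.2 b.2)⟩⟩

/-- transport of the commutator module along conjugation -/
theorem smul_mem_cm_conjBy {H : Subgroup X} (g : X) {w : V} (hw : w ∈ cm H V) :
    g • w ∈ cm (conjBy H g) V := by
  unfold cm at hw
  induction hw using AddSubgroup.closure_induction with
  | mem x hx =>
    obtain ⟨a, ha, v, rfl⟩ := hx
    have h1 : g • dlt a v = dlt (g * a * g⁻¹) (g • v) := by
      rw [dlt_conj, inv_smul_smul]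
    rw [h1]
    exact dlt_mem_cm (conj_mem_conjBy ha) _
  | zero => rw [smul_zero]; exact AddSubgroup.zero_mem _
  | add x y _ _ hx hy => rw [smul_add]; exact AddSubgroup.add_mem _ hx hy
  | neg x _ hx => rw [smul_neg]; exact AddSubgroup.neg_mem _ hx

theorem inv_smul_mem_cm_of_mem_conjBy {H : Subgroup X} (g : X) {w : V}
    (hw : w ∈ cm (conjBy H g) V) : g⁻¹ • w ∈ cm H V := by
  have := smul_mem_cm_conjBy (V := V) g⁻¹ hw
  rwa [conjBy_inv_conjBy] at this

/-- the basic relation: if `b⁻¹ A b = a⁻¹ B a` with `A`, `B` quadratic, then every `w ∈ [V,B]` is congruent to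
`dlt b (dlt a w)` modulo `[V,A] ∩ [V,B]` -/
theorem key_rel {A B : Subgroup X} (hqA : Quadratic A V) (hqB : Quadratic B V) {a b : X} (ha : a ∈ A)
    (hb : b ∈ B) (hab : conjBy A b⁻¹ = conjBy B a⁻¹) {w : V} (hw : w ∈ cm B V) :
    ∃ z ∈ cm A V ⊓ cm B V, w = z + dlt b (dlt a w) := by
  have h1 : a⁻¹ • w ∈ cm (conjBy B a⁻¹) V := smul_mem_cm_conjBy a⁻¹ hw
  rw [← hab] at h1
  have h2 := inv_smul_mem_cm_of_mem_conjBy b⁻¹ h1
  rw [inv_inv] at h2
  set u := b • a⁻¹ • w with hu
  have h3 : a⁻¹ • w = b⁻¹ • u := by rw [hu, inv_smul_smul]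
  rw [hqA.inv_smul ha, hqB.inv_smul hb] at h3
  -- w - dlt a w = u - dlt b u
  have hz : w + dlt b u = u + dlt a w := by
    have : w + dlt b u - (u + dlt a w) = (w - dlt a w) - (u - dlt b u) := by abel
    rw [← sub_eq_zero, this, h3, sub_self]
  refine ⟨w + dlt b u, ⟨?_, ?_⟩, ?_⟩
  · rw [hz]
    exact AddSubgroup.add_mem _ h2 (dlt_mem_cm ha w)
  · exact AddSubgroup.add_mem _ hw (dlt_mem_cm hb u)
  · have hu' : u = w + dlt b u - dlt a w := by rw [hz]; abel
    have h4 : dlt b u = - dlt b (dlt a w) := by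
      conv_lhs => rw [hu']
      rw [dlt_sub, dlt_add, hqB.dlt_cm hb hw, hqB.dlt_cm hb (dlt_mem_cm hb u)]
      abel
    rw [h4]; abel

/-- elementwise commutation from equality of commutator modules -/
theorem commute_of_cm_le {A B : Subgroup X} (hqA : Quadratic A V) (hqB : Quadratic B V)
    (hf : ∀ x : X, (∀ v : V, x • v = v) → x = 1) (h1 : cm A V ≤ cm B V) (h2 : cm B V ≤ cm A V)
    {a b : X} (ha : a ∈ A) (hb : b ∈ B) : a * b = b * a := by
  have e : ∀ v : V, (a * b) • v = (b * a) • v := by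
    intro v
    have k1 : (a * b) • v = dlt b v + dlt a v + v := by
      rw [mul_smul, smul_eq_dlt_add b v, smul_add, hqA.smul_cm ha (h2 (dlt_mem_cm hb v)),
        smul_eq_dlt_add a v]
      abel
    have k2 : (b * a) • v = dlt b v + dlt a v + v := by
      rw [mul_smul, smul_eq_dlt_add a v, smul_add, hqB.smul_cm hb (h1 (dlt_mem_cm ha v)),
        smul_eq_dlt_add b v]
      abel
    rw [k1, k2]
  have h3 : (b * a)⁻¹ * (a * b) = 1 := by
    apply hf
    intro v
    rw [mul_smul, e v, inv_smul_smul]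
  exact (inv_mul_eq_one.1 h3).symm

end Cfsg.Agent.Helper83
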