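import Mathlib
import Cfsg.Prelude.Def_RootSubgroups
import Cfsg.Agent.Lib.Helper83.QuadMod
import Cfsg.Agent.Lib.Helper83.RankOneGroup

/-!
Fixed points, the subgroup acting trivially modulo fixed points, and the theorem that a rank one group with a
quadratic (but not globally quadratic) module is special.
-/

set_option autoImplicit false

namespace Cfsg.Agent.Helper83

open Cfsg

variable {X : Type*} [Group X] {V : Type*} [AddCommGroup V] [DistribMulAction X V]

/-- the fixed points `C_V(X)` -/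
def fixedPts (X : Type*) [Group X] (V : Type*) [AddCommGroup V] [DistribMulAction X V] :
    AddSubgroup V where
  carrier := {v | ∀ x : X, x • v = v}
  zero_mem' := fun x => smul_zero x
  add_mem' := by
    intro v w hv hw x
    rw [smul_add, hv x, hw x]
  neg_mem' := by
    intro v hv x
    rw [smul_neg, hv x]

theorem mem_fixedPts {v : V} : v ∈ fixedPts X V ↔ ∀ x : X, x • v = v := Iff.rfl

/-- the subgroup of elements acting trivially modulo the fixed points -/
def trivMod (X : Type*) [Group X] (V : Type*) [AddCommGroup V] [DistribMulAction X V] :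
    Subgroup X where
  carrier := {x | ∀ v : V, dlt x v ∈ fixedPts X V}
  one_mem' := by
    intro v
    rw [dlt_one]; exact AddSubgroup.zero_mem _
  mul_mem' := by
    intro x y hx hy v
    have e : dlt (x * y) v = dlt y v + dlt x v := by
      have h1 : (x * y) • v = x • (dlt y v + v) := by rw [mul_smul, ← smul_eq_dlt_add]
      rw [dlt_def, h1, smul_add, (hy v) x, smul_eq_dlt_add x v]
      abel
    rw [e]
    exact AddSubgroup.add_mem _ (hy v) (hx v)
  inv_mem' := by
    intro x hx v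
    have e : dlt x⁻¹ v = - dlt x (x⁻¹ • v) := by
      simp only [dlt_def, smul_inv_smul]; abel
    rw [e]
    exact AddSubgroup.neg_mem _ (hx _)

theorem mem_trivMod {x : X} : x ∈ trivMod X V ↔ ∀ v : V, dlt x v ∈ fixedPts X V := Iff.rfl

instance trivMod_normal : (trivMod X V).Normal := by
  constructor
  intro x hx y v
  rw [dlt_conj]
  have h1 := hx (y⁻¹ • v)
  rw [h1 y]
  exact h1

theorem mem_fixedPts_of_sup_eq_top {A B : Subgroup X} (hAB : A ⊔ B = ⊤) {z : V}
    (hA : ∀ a ∈ A, a • z = z) (hB : ∀ b ∈ B, b • z = z) : z ∈ fixedPts X V := by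
  intro x
  have h1 : A ≤ MulAction.stabilizer X z := fun a ha => MulAction.mem_stabilizer_iff.2 (hA a ha)
  have h2 : B ≤ MulAction.stabilizer X z := fun b hb => MulAction.mem_stabilizer_iff.2 (hB b hb)
  have h3 : x ∈ A ⊔ B := by rw [hAB]; trivial
  exact MulAction.mem_stabilizer_iff.1 (sup_le h1 h2 h3)

/-- a rank one group with a module on which `A` acts quadratically but `X` does not is special -/
theorem special_of_quadratic {A B : Subgroup X} (h : Cfsg.IsRankOneGroup X A B)
    (hq : ∀ a ∈ A, ∀ a' ∈ A, ∀ n : V, a' • (a • n - n) = a • n - n)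
    (hX : ∃ x y : X, ∃ n : V, y • (x • n - n) ≠ x • n - n) : Cfsg.IsSpecialRankOnePair A B := by
  obtain ⟨hAB, hp⟩ := h
  have hqA : Quadratic A V := hq
  have hqB : Quadratic B V := by
    obtain ⟨a, ha, ha1⟩ := exists_mem_ne_one_of_ne_bot (rankOne_ne_bot_left hp)
    obtain ⟨b, hb, -, hab⟩ := hp.cond_left a ha ha1
    have hB : B = conjBy (conjBy A b⁻¹) a := by rw [hab, conjBy_conjBy_inv]
    rw [hB]
    exact (hqA.conjBy b⁻¹).conjBy a
  refine ⟨hp, fun a ha ha1 b hb hb1 hab => ?_⟩
  have hZ : ∀ z ∈ cm A V ⊓ cm B V, z ∈ fixedPts X V := fun z hz =>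
    mem_fixedPts_of_sup_eq_top hAB (fun a ha => hqA.smul_cm ha hz.1) (fun b hb => hqB.smul_cm hb hz.2)
  have haa : ∀ v : V, dlt a (dlt a v) = 0 := fun v => hqA.dlt_cm ha (dlt_mem_cm ha v)
  have hbb : ∀ v : V, dlt b (dlt b v) = 0 := fun v => hqB.dlt_cm hb (dlt_mem_cm hb v)
  have he1 : ∀ v : V, dlt a v - dlt a (dlt b (dlt a v)) ∈ fixedPts X V := by
    intro v
    obtain ⟨z, hz, e⟩ := key_rel hqB hqA hb ha hab.symm (dlt_mem_cm ha v)
    have : dlt a v - dlt a (dlt b (dlt a v)) = z := sub_eq_of_eq_add e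
    rw [this]
    exact hZ z ⟨hz.2, hz.1⟩
  have he2 : ∀ v : V, dlt b v - dlt b (dlt a (dlt b v)) ∈ fixedPts X V := by
    intro v
    obtain ⟨z, hz, e⟩ := key_rel hqA hqB ha hb hab (dlt_mem_cm hb v)
    have : dlt b v - dlt b (dlt a (dlt b v)) = z := sub_eq_of_eq_add e
    rw [this]
    exact hZ z hz
  -- the two elements act identically modulo fixed points
  have hF3 : ∀ v : V, (b⁻¹ * a * b) • v - (a⁻¹ * b⁻¹ * a) • v ∈ fixedPts X V := by
    intro v
    have e : (b⁻¹ * a * b) • v - (a⁻¹ * b⁻¹ * a) • v =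
        (dlt a v - dlt a (dlt b (dlt a v))) + (dlt b v - dlt b (dlt a (dlt b v))) := by
      simp only [mul_smul, hqA.inv_smul ha, hqB.inv_smul hb, smul_eq_dlt_add a, smul_eq_dlt_add b,
        dlt_add, dlt_sub, haa, hbb]
      abel
    rw [e]
    exact AddSubgroup.add_mem _ (he1 v) (he2 v)
  set c := b⁻¹ * a * b with hc
  set c' := a⁻¹ * b⁻¹ * a with hc'
  have hg : c * c'⁻¹ ∈ trivMod X V := by
    intro v
    have e : dlt (c * c'⁻¹) v = c • (c'⁻¹ • v) - c' • (c'⁻¹ • v) := by
      rw [dlt_def, mul_smul, smul_inv_smul]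
    rw [e]
    exact hF3 _
  rcases rankOneGroup_dichotomy ⟨hAB, hp⟩ (trivMod X V) inferInstance with hcase | hcase
  · -- `X = N A`: impossible
    exfalso
    have hbNA : b ∈ trivMod X V ⊔ A := by rw [hcase]; trivial
    obtain ⟨k, hk, a', ha', rfl⟩ := Subgroup.mem_sup_of_normal_left.1 hbNA
    have hab0 : ∀ v : V, dlt a (dlt (k * a') v) = 0 := by
      intro v
      have e : dlt (k * a') v = dlt k (a' • v) + dlt a' v := by
        simp only [dlt_def, mul_smul]; abel
      rw [e, dlt_add, hqA.dlt_cm ha (dlt_mem_cm ha' v), add_zero, dlt_eq_zero_iff]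
      exact hk _ a
    have hA : cm A V ≤ fixedPts X V := by
      intro u hu
      obtain ⟨z, hz, e⟩ := key_rel hqB hqA hb ha hab.symm hu
      rw [hab0, add_zero] at e
      rw [e]; exact hZ z ⟨hz.2, hz.1⟩
    have hB : cm B V ≤ fixedPts X V := by
      intro w hw
      obtain ⟨z, hz, e⟩ := key_rel hqA hqB ha hb hab hw
      have h0 : dlt (k * a') (dlt a w) = 0 := by
        rw [dlt_eq_zero_iff]
        exact hA (dlt_mem_cm ha w) _
      rw [h0, add_zero] at e
      rw [e]; exact hZ z hz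
    have hAN : A ≤ trivMod X V := fun a₁ ha₁ v => hA (dlt_mem_cm ha₁ v)
    have hBN : B ≤ trivMod X V := fun b₁ hb₁ v => hB (dlt_mem_cm hb₁ v)
    obtain ⟨x, y, n, hxy⟩ := hX
    apply hxy
    have hx : x ∈ trivMod X V := by
      have : x ∈ A ⊔ B := by rw [hAB]; trivial
      exact sup_le hAN hBN this
    exact hx n y
  · -- `N` is central
    have hgc : c * c'⁻¹ ∈ Subgroup.center X := hcase hg
    have hcC : c ∈ conjBy A b⁻¹ := by
      rw [mem_conjBy, inv_inv, hc]
      have : b * (b⁻¹ * a * b) * b⁻¹ = a := by group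
      rw [this]; exact ha
    have hc'C : c' ∈ conjBy A b⁻¹ := by
      rw [hab, mem_conjBy, inv_inv, hc']
      have : a * (a⁻¹ * b⁻¹ * a) * a⁻¹ = b⁻¹ := by group
      rw [this]; exact B.inv_mem hb
    have hgC : c * c'⁻¹ ∈ conjBy A b⁻¹ := Subgroup.mul_mem _ hcC (Subgroup.inv_mem _ hc'C)
    rw [mem_conjBy, inv_inv] at hgC
    have hcomm := Subgroup.mem_center_iff.1 hgc b
    have hgA : c * c'⁻¹ ∈ A := by
      have e : b * (c * c'⁻¹) * b⁻¹ = c * c'⁻¹ := by rw [hcomm]; group
      rwa [e] at hgC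
    have hg1 := rankOne_eq_one_of_normalizes hp hgA (conjBy_of_mem_center hgc)
    exact mul_inv_eq_one.1 hg1

end Cfsg.Agent.Helper83
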