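import Mathlib
import Cfsg.Prelude.Def_RootSubgroups

set_option autoImplicit false

namespace Cfsg.Agent.Helper83

open Cfsg

variable {k : Type*} [Field k] {M : Type*} [AddCommGroup M] [Module k M]

/-- the nilpotent part `τ - 1` -/
def nilPart (τ : LinearMap.GeneralLinearGroup k M) : M →ₗ[k] M := (τ : M →ₗ[k] M) - 1

theorem coe_eq_one_add_nilPart (τ : LinearMap.GeneralLinearGroup k M) :
    (τ : M →ₗ[k] M) = 1 + nilPart τ := by
  unfold nilPart; abel

theorem nilPart_mul_eq_zero {τ₁ τ₂ : LinearMap.GeneralLinearGroup k M}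
    (h : LinearMap.range (nilPart τ₂) ≤ LinearMap.ker (nilPart τ₁)) : nilPart τ₁ * nilPart τ₂ = 0 := by
  apply LinearMap.ext
  intro m
  have : nilPart τ₂ m ∈ LinearMap.ker (nilPart τ₁) := h (LinearMap.mem_range_self _ m)
  simpa using this

theorem nilPart_mul {τ₁ τ₂ : LinearMap.GeneralLinearGroup k M}
    (h : nilPart τ₁ * nilPart τ₂ = 0) : nilPart (τ₁ * τ₂) = nilPart τ₁ + nilPart τ₂ := by
  have : ((τ₁ * τ₂ : LinearMap.GeneralLinearGroup k M) : M →ₗ[k] M) =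
      (τ₁ : M →ₗ[k] M) * (τ₂ : M →ₗ[k] M) := rfl
  unfold nilPart at *
  rw [this]
  have e : (τ₁ : M →ₗ[k] M) * (τ₂ : M →ₗ[k] M) - 1 =
      ((τ₁ : M →ₗ[k] M) - 1) * ((τ₂ : M →ₗ[k] M) - 1) + (((τ₁ : M →ₗ[k] M) - 1) + ((τ₂ : M →ₗ[k] M) - 1)) := by
    noncomm_ring
  rw [e, h, zero_add]

theorem nilPart_one : nilPart (1 : LinearMap.GeneralLinearGroup k M) = 0 := by
  unfold nilPart; simp

theorem eq_one_of_nilPart_eq_zero {τ : LinearMap.GeneralLinearGroup k M} (h : nilPart τ = 0) :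
    τ = 1 := by
  apply Units.ext
  rw [coe_eq_one_add_nilPart, h, add_zero]; rfl

/-- the unit `1 + N` for `N² = 0` -/
def unitOfSq {N : M →ₗ[k] M} (h : N * N = 0) : LinearMap.GeneralLinearGroup k M :=
  ⟨1 + N, 1 - N, by noncomm_ring; rw [h]; simp, by noncomm_ring; rw [h]; simp⟩

theorem unitOfSq_coe {N : M →ₗ[k] M} (h : N * N = 0) :
    ((unitOfSq h : LinearMap.GeneralLinearGroup k M) : M →ₗ[k] M) = 1 + N := rfl

theorem nilPart_unitOfSq {N : M →ₗ[k] M} (h : N * N = 0) : nilPart (unitOfSq h) = N := by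
  unfold nilPart; rw [unitOfSq_coe]; abel

theorem nilPart_inv {τ : LinearMap.GeneralLinearGroup k M} (h : nilPart τ * nilPart τ = 0) :
    nilPart τ⁻¹ = - nilPart τ := by
  have h1 : τ = unitOfSq h := by
    apply Units.ext
    rw [unitOfSq_coe, coe_eq_one_add_nilPart]
  have h2 : ((τ⁻¹ : LinearMap.GeneralLinearGroup k M) : M →ₗ[k] M) = 1 - nilPart τ := by
    conv_lhs => rw [h1]
    rfl
  unfold nilPart at *
  rw [h2]; abel

end Cfsg.Agent.Helper83
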