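import Mathlib
import Cfsg.Prelude.Def_RootSubgroups
import Cfsg.Agent.Lib.Helper83.Conj
import Cfsg.Agent.Lib.Helper83.CommMod
import Cfsg.Agent.Lib.Helper83.RankOne
import Cfsg.Agent.Lib.Helper83.RankOneNormal
import Cfsg.Agent.Lib.Helper83.RootBasic
import Cfsg.Agent.Lib.Helper83.RootLemmas
import Cfsg.Agent.Lib.Helper83.Root30
import Cfsg.Agent.Lib.Helper83.R2N1
import Cfsg.Agent.Lib.Helper83.R2E
import Cfsg.Agent.Lib.Helper83.R2G
import Cfsg.Agent.Lib.Helper83.R3Defs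
import Cfsg.Agent.Lib.Helper94.RootComm
import Cfsg.Agent.Lib.Helper94.RootMap
import Cfsg.Agent.S5029

set_option autoImplicit false

namespace Cfsg.Agent.Helper83.R3

open Cfsg Cfsg.Agent.Helper83 Cfsg.Agent.Helper83.R2 Cfsg.Agent.Helper83.R3 Cfsg.Agent.Helper94
open scoped commutatorElement

variable {G : Type*} [Group G] {S : Set (Subgroup G)} {N : Subgroup G}

/-- (IA) `N ∩ X` is central in every rank one group `X = ⟨A, B⟩`, `A, B ∈ S`. -/
theorem inf_central (c : NCtx S N) (hFP : BigInComm S)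
    (hSM : ∀ A ∈ S, ∀ B ∈ S, IsRankOnePair A B → B ≤ N ⊔ A → ENat.card A ≤ 3 → False) :
    InfCentral S N := by
  intro A hA B hB hr
  have := c.normal
  have hMX : N ⊓ (A ⊔ B) ≤ A ⊔ B := inf_le_right
  have hnorm : ∀ x ∈ A ⊔ B, conjBy (N ⊓ (A ⊔ B)) x = N ⊓ (A ⊔ B) := by
    intro x hx
    rw [conjBy_inf, conjBy_normal, conjBy_eq_self_of_mem hx]
  rcases rankOne_dichotomy hr (N ⊓ (A ⊔ B)) hMX hnorm with h | h
  · exfalso
    have hBle : B ≤ N ⊔ A := by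
      calc B ≤ A ⊔ B := le_sup_right
        _ = N ⊓ (A ⊔ B) ⊔ A := h.symm
        _ ≤ N ⊔ A := sup_le_sup_right inf_le_left A
    by_cases hcard : ENat.card A ≤ 3
    · exact hSM A hA B hB hr hBle hcard
    · have hcard' : 3 < ENat.card A := not_le.1 hcard
      have h1 := hFP A hA B hB hr hcard'
      have h2 : ⁅A, rankOneDiagonal A B⁆ ≤ ⁅A ⊔ B, A ⊔ B⁆ :=
        Subgroup.commutator_mono le_sup_left (inf_le_left.trans inf_le_left)
      have hXnorm : A ⊔ B ≤ Subgroup.normalizer ((N ⊓ (A ⊔ B) : Subgroup G) : Set G) :=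
        fun x hx => conjBy_eq_self_iff.1 (hnorm x hx)
      have hMXc : ⁅N ⊓ (A ⊔ B), A ⊔ B⁆ ≤ N ⊓ (A ⊔ B) :=
        Subgroup.le_normalizer_iff_commutator_le_left.1 hXnorm
      have hAM : ⁅A, N ⊓ (A ⊔ B)⁆ ≤ N ⊓ (A ⊔ B) :=
        Subgroup.le_normalizer_iff_commutator_le_right.1 (le_sup_left.trans hXnorm)
      have hAA : ⁅A, A⁆ ≤ N ⊓ (A ⊔ B) := by
        rw [comm_self_eq_bot_of_isMulCommutative (c.root.hS.commutative A hA)]
        exact bot_le
      have hAX : ⁅A, A ⊔ B⁆ ≤ N ⊓ (A ⊔ B) := by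
        have := commutator_sup_le' (N := N ⊓ (A ⊔ B)) (P := A) (Q₁ := N ⊓ (A ⊔ B)) (Q₂ := A)
          (by rw [h]; exact hXnorm) hAM hAA
        rwa [h] at this
      have h3 : ⁅A ⊔ B, A ⊔ B⁆ ≤ N ⊓ (A ⊔ B) := by
        have := commutator_sup_le (N := N ⊓ (A ⊔ B)) (P₁ := N ⊓ (A ⊔ B)) (P₂ := A) (Q := A ⊔ B)
          (by rw [h]; exact hXnorm) hMXc hAX
        rwa [h] at this
      exact c.noMem A hA (h1.trans (h2.trans (h3.trans inf_le_left)))
  · exact h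

end Cfsg.Agent.Helper83.R3
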