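import Mathlib
import Cfsg.Prelude.Def_RootSubgroups
import Cfsg.Agent.Lib.Helper83.Conj
import Cfsg.Agent.Lib.Helper83.CommMod
import Cfsg.Agent.Lib.Helper83.RankOne
import Cfsg.Agent.Lib.Helper83.RankOneNormal
import Cfsg.Agent.Lib.Helper83.RootBasic
import Cfsg.Agent.Lib.Helper83.RootLemmas
import Cfsg.Agent.Lib.Helper83.Root30
import Cfsg.Agent.Lib.Helper83.R2N1
import Cfsg.Agent.Lib.Helper83.R2E
import Cfsg.Agent.Lib.Helper83.R2G
import Cfsg.Agent.Lib.Helper83.R3Defs
import Cfsg.Agent.Lib.Helper94.RootComm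
import Cfsg.Agent.Lib.Helper94.RootMap
import Cfsg.Agent.S5029

set_option autoImplicit false

namespace Cfsg.Agent.Helper83.R3

open Cfsg Cfsg.Agent.Helper83 Cfsg.Agent.Helper83.R2 Cfsg.Agent.Helper83.R3 Cfsg.Agent.Helper94
open scoped commutatorElement

variable {G : Type*} [Group G] {S : Set (Subgroup G)} {N : Subgroup G}

/-- (QS) `G` is quasisimple. -/
theorem quasisimple (c : RootCtx S) (hne : S.Nonempty) (hperf : commutator G = ⊤)
    (hcent : ∀ N : Subgroup G, N.Normal → (∀ A ∈ S, ¬ A ≤ N) → N ≤ Subgroup.center G) :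
    Cfsg.IsQuasisimple G := by
  refine ⟨Group.isPerfect_def.2 hperf, ?_⟩
  obtain ⟨A, hA⟩ := hne
  obtain ⟨B, hB, hr⟩ := c.partner A hA
  have hnc : Subgroup.center G ≠ ⊤ := by
    intro htop
    apply rankOne_commutator_ne_bot hr
    apply comm_eq_bot_of_commute
    intro a _ b _
    have : a ∈ Subgroup.center G := by rw [htop]; trivial
    exact (Subgroup.mem_center_iff.1 this b).symm
  have hnt : Nontrivial (G ⧸ Subgroup.center G) := by
    obtain ⟨g, hg⟩ : ∃ g, g ∉ Subgroup.center G := by
      by_contra h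
      push Not at h
      exact hnc (eq_top_iff.2 fun x _ => h x)
    exact ⟨⟨(g : G ⧸ Subgroup.center G), 1, fun h => hg ((QuotientGroup.eq_one_iff g).1 h)⟩⟩
  refine { toNontrivial := hnt, eq_bot_or_eq_top_of_normal := ?_ }
  intro H hH
  have hπ : Function.Surjective (QuotientGroup.mk' (Subgroup.center G)) :=
    QuotientGroup.mk'_surjective _
  have hNn : (H.comap (QuotientGroup.mk' (Subgroup.center G))).Normal := hH.comap _
  by_cases hmem : ∃ A ∈ S, A ≤ H.comap (QuotientGroup.mk' (Subgroup.center G))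
  · right
    obtain ⟨A', hA', hle⟩ := hmem
    have hall : ∀ E ∈ S, E ≤ H.comap (QuotientGroup.mk' (Subgroup.center G)) := by
      intro E hE
      obtain ⟨g, rfl⟩ := c.conj A' hA' E hE
      have := conjBy_mono hle g
      rwa [conjBy_normal (H.comap (QuotientGroup.mk' (Subgroup.center G)))] at this
    have hNtop : H.comap (QuotientGroup.mk' (Subgroup.center G)) = ⊤ := by
      rw [eq_top_iff, ← c.hS.generates]
      exact iSup₂_le hall
    rw [← Subgroup.map_comap_eq_self_of_surjective hπ H, hNtop]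
    exact Subgroup.map_top_of_surjective _ hπ
  · left
    push Not at hmem
    have hle := hcent _ hNn hmem
    rw [eq_bot_iff]
    intro h hh
    obtain ⟨g, rfl⟩ := hπ h
    have hg : g ∈ H.comap (QuotientGroup.mk' (Subgroup.center G)) := hh
    have := hle hg
    rw [Subgroup.mem_bot]
    exact (QuotientGroup.eq_one_iff g).2 this

end Cfsg.Agent.Helper83.R3
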