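import Mathlib

/-!
# TU project (S2279): generic core of the SEED identity (helper83)

Three rank-one operators `X i j = vecMulVec (P i) (Q j)` with strictly lower triangular Gram matrix
`G i j = Q i ⬝ᵥ P j`, `G 1 0 = G 2 1 = ε`, `G 2 0 = r`.  With `a = 1 + c X00`,
`b = 1 + c X11`, `d = 1 + c X22`, `s0 = a b⁻¹`, `s1 = b d⁻¹` one has
`[[s1, s0], s0] = 1 + ε^2 c^3 X20`.
Everything is done in the coefficient calculus `1 + Pm * α * Qm`, `α : Matrix (Fin 3) (Fin 3) R`.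
-/

set_option autoImplicit false

namespace Cfsg.Agent.Helper83.TU

open Matrix

variable {n R : Type*} [Fintype n] [DecidableEq n] [CommRing R]

/-- coefficient calculus: `(1 + Pm α Qm)(1 + Pm β Qm) = 1 + Pm (α + β + α G β) Qm`, `G = Qm Pm`. -/
theorem h83_phi_mul (Pm : Matrix n (Fin 3) R) (Qm : Matrix (Fin 3) n R)
    (α β : Matrix (Fin 3) (Fin 3) R) :
    (1 + Pm * α * Qm) * (1 + Pm * β * Qm) = 1 + Pm * (α + β + α * (Qm * Pm) * β) * Qm := by
  simp only [mul_add, add_mul, mul_one, one_mul, Matrix.mul_assoc, Matrix.add_mul, Matrix.mul_add]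
  abel

/-- the Gram matrix -/
def h83G (ε r : R) : Matrix (Fin 3) (Fin 3) R := !![0, 0, 0; ε, 0, 0; r, ε, 0]

/-- the circle product of coefficient matrices -/
def h83op (ε r : R) (α β : Matrix (Fin 3) (Fin 3) R) : Matrix (Fin 3) (Fin 3) R :=
  α + β + α * h83G ε r * β

def h83a (c : R) : Matrix (Fin 3) (Fin 3) R := !![c, 0, 0; 0, 0, 0; 0, 0, 0]
def h83b (c : R) : Matrix (Fin 3) (Fin 3) R := !![0, 0, 0; 0, c, 0; 0, 0, 0]
def h83d (c : R) : Matrix (Fin 3) (Fin 3) R := !![0, 0, 0; 0, 0, 0; 0, 0, c]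
def h83s0 (c : R) : Matrix (Fin 3) (Fin 3) R := !![c, 0, 0; 0, -c, 0; 0, 0, 0]
def h83s0i (c ε : R) : Matrix (Fin 3) (Fin 3) R := !![-c, 0, 0; -(c ^ 2 * ε), c, 0; 0, 0, 0]
def h83s1 (c : R) : Matrix (Fin 3) (Fin 3) R := !![0, 0, 0; 0, c, 0; 0, 0, -c]
def h83s1i (c ε : R) : Matrix (Fin 3) (Fin 3) R := !![0, 0, 0; 0, -c, 0; 0, -(ε * c ^ 2), c]
def h83m (c ε r : R) : Matrix (Fin 3) (Fin 3) R :=
  !![0, 0, 0; ε * c ^ 2, 0, 0; -(r * c ^ 2) - ε * ε * c ^ 3, ε * c ^ 2, 0]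
def h83t (c ε : R) : Matrix (Fin 3) (Fin 3) R := !![0, 0, 0; 0, 0, 0; ε * ε * c ^ 3, 0, 0]

theorem h83_s0 (c ε r : R) : h83op ε r (h83a c) (-h83b c) = h83s0 c := by
  ext i j
  fin_cases i <;> fin_cases j <;>
    simp [h83op, h83G, h83a, h83b, h83s0, Matrix.mul_apply, Fin.sum_univ_three]

theorem h83_s0i (c ε r : R) : h83op ε r (h83b c) (-h83a c) = h83s0i c ε := by
  ext i j
  fin_cases i <;> fin_cases j <;>
    simp [h83op, h83G, h83a, h83b, h83s0i, Matrix.mul_apply, Fin.sum_univ_three] <;> ring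

theorem h83_s1 (c ε r : R) : h83op ε r (h83b c) (-h83d c) = h83s1 c := by
  ext i j
  fin_cases i <;> fin_cases j <;>
    simp [h83op, h83G, h83d, h83b, h83s1, Matrix.mul_apply, Fin.sum_univ_three]

theorem h83_s1i (c ε r : R) : h83op ε r (h83d c) (-h83b c) = h83s1i c ε := by
  ext i j
  fin_cases i <;> fin_cases j <;>
    simp [h83op, h83G, h83d, h83b, h83s1i, Matrix.mul_apply, Fin.sum_univ_three] <;> ring

theorem h83_comm (c ε r : R) :
    h83op ε r (h83op ε r (h83op ε r (h83s1 c) (h83s0 c)) (h83s1i c ε)) (h83s0i c ε) = h83m c ε r := by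
  ext i j
  fin_cases i <;> fin_cases j <;>
    simp [h83op, h83G, h83s0, h83s0i, h83s1, h83s1i, h83m, Matrix.mul_apply, Fin.sum_univ_three] <;>
    ring

theorem h83_commi (c ε r : R) :
    h83op ε r (h83op ε r (h83op ε r (h83s0 c) (h83s1 c)) (h83s0i c ε)) (h83s1i c ε) = -h83m c ε r := by
  ext i j
  fin_cases i <;> fin_cases j <;>
    simp [h83op, h83G, h83s0, h83s0i, h83s1, h83s1i, h83m, Matrix.mul_apply, Fin.sum_univ_three] <;>
    ring

theorem h83_T (c ε r : R) :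
    h83op ε r (h83op ε r (h83op ε r (h83m c ε r) (h83s0 c)) (-h83m c ε r)) (h83s0i c ε) = h83t c ε := by
  ext i j
  fin_cases i <;> fin_cases j <;>
    simp [h83op, h83G, h83s0, h83s0i, h83m, h83t, Matrix.mul_apply, Fin.sum_univ_three] <;>
    ring


/-- the `n × 3` matrix of the centres -/
def h83P (p : Fin 3 → n → R) : Matrix n (Fin 3) R := Matrix.of fun i k => p k i

/-- the `3 × n` matrix of the axes -/
def h83Q (q : Fin 3 → n → R) : Matrix (Fin 3) n R := Matrix.of fun k j => q k j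

theorem h83_gram (p q : Fin 3 → n → R) (ε r : R)
    (hG : ∀ k l, q k ⬝ᵥ p l = h83G ε r k l) : h83Q q * h83P p = h83G ε r := by
  ext k l
  rw [← hG k l]
  simp [h83Q, h83P, Matrix.mul_apply, dotProduct]

theorem h83_phi_single (p q : Fin 3 → n → R) (k l : Fin 3) (c : R) :
    c • vecMulVec (p k) (q l) = h83P p * (Matrix.single k l c) * h83Q q := by
  ext i j
  fin_cases k <;> fin_cases l <;>
    simp [h83P, h83Q, Matrix.mul_apply, Fin.sum_univ_three, Matrix.single_apply,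
      vecMulVec_apply] <;> ring

theorem h83_phi_mul' (p q : Fin 3 → n → R) (ε r : R) (hG : ∀ k l, q k ⬝ᵥ p l = h83G ε r k l)
    (α β : Matrix (Fin 3) (Fin 3) R) :
    (1 + h83P p * α * h83Q q) * (1 + h83P p * β * h83Q q) =
      1 + h83P p * h83op ε r α β * h83Q q := by
  rw [h83_phi_mul, h83_gram p q ε r hG]
  rfl

theorem h83_single_a (c : R) : (Matrix.single 0 0 c : Matrix (Fin 3) (Fin 3) R) = h83a c := by
  ext i j; fin_cases i <;> fin_cases j <;> simp [h83a, Matrix.single_apply]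
theorem h83_single_b (c : R) : (Matrix.single 1 1 c : Matrix (Fin 3) (Fin 3) R) = h83b c := by
  ext i j; fin_cases i <;> fin_cases j <;> simp [h83b, Matrix.single_apply]
theorem h83_single_d (c : R) : (Matrix.single 2 2 c : Matrix (Fin 3) (Fin 3) R) = h83d c := by
  ext i j; fin_cases i <;> fin_cases j <;> simp [h83d, Matrix.single_apply]
theorem h83_single_t (c ε : R) :
    (Matrix.single 2 0 (ε * ε * c ^ 3) : Matrix (Fin 3) (Fin 3) R) = h83t c ε := by
  ext i j; fin_cases i <;> fin_cases j <;> simp [h83t, Matrix.single_apply]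

theorem h83_plus (p q : Fin 3 → n → R) (k : Fin 3) (c : R) :
    (1 + c • vecMulVec (p k) (q k) : Matrix n n R) = 1 + h83P p * (Matrix.single k k c) * h83Q q := by
  rw [h83_phi_single]

theorem h83_minus (p q : Fin 3 → n → R) (k : Fin 3) (c : R) :
    (1 - c • vecMulVec (p k) (q k) : Matrix n n R) =
      1 + h83P p * (-(Matrix.single k k c)) * h83Q q := by
  rw [h83_phi_single]
  simp [sub_eq_add_neg]

/-- **SEED core.**  Matrix form of `[[s1, s0], s0] = 1 + ε² c³ p₂ q₀ᵀ`. -/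
theorem h83_seed_core (p q : Fin 3 → n → R) (c ε r : R)
    (hG : ∀ k l, q k ⬝ᵥ p l = h83G ε r k l)
    (S0 S0i S1 S1i : Matrix n n R)
    (h0 : S0 = (1 + c • vecMulVec (p 0) (q 0)) * (1 - c • vecMulVec (p 1) (q 1)))
    (h0i : S0i = (1 + c • vecMulVec (p 1) (q 1)) * (1 - c • vecMulVec (p 0) (q 0)))
    (h1 : S1 = (1 + c • vecMulVec (p 1) (q 1)) * (1 - c • vecMulVec (p 2) (q 2)))
    (h1i : S1i = (1 + c • vecMulVec (p 2) (q 2)) * (1 - c • vecMulVec (p 1) (q 1))) :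
    (S1 * S0 * S1i * S0i) * S0 * (S0 * S1 * S0i * S1i) * S0i =
      1 + (ε * ε * c ^ 3) • vecMulVec (p 2) (q 0) := by
  have e0 : S0 = 1 + h83P p * h83s0 c * h83Q q := by
    rw [h0, h83_plus, h83_minus, h83_phi_mul' p q ε r hG, h83_single_a, h83_single_b, h83_s0]
  have e0i : S0i = 1 + h83P p * h83s0i c ε * h83Q q := by
    rw [h0i, h83_plus, h83_minus, h83_phi_mul' p q ε r hG, h83_single_a, h83_single_b, h83_s0i]
  have e1 : S1 = 1 + h83P p * h83s1 c * h83Q q := by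
    rw [h1, h83_plus, h83_minus, h83_phi_mul' p q ε r hG, h83_single_d, h83_single_b, h83_s1]
  have e1i : S1i = 1 + h83P p * h83s1i c ε * h83Q q := by
    rw [h1i, h83_plus, h83_minus, h83_phi_mul' p q ε r hG, h83_single_d, h83_single_b, h83_s1i]
  have eC : S1 * S0 * S1i * S0i = 1 + h83P p * h83m c ε r * h83Q q := by
    rw [e0, e0i, e1, e1i, h83_phi_mul' p q ε r hG, h83_phi_mul' p q ε r hG,
      h83_phi_mul' p q ε r hG, h83_comm]
  have eCi : S0 * S1 * S0i * S1i = 1 + h83P p * (-h83m c ε r) * h83Q q := by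
    rw [e0, e0i, e1, e1i, h83_phi_mul' p q ε r hG, h83_phi_mul' p q ε r hG,
      h83_phi_mul' p q ε r hG, h83_commi]
  rw [eC, eCi, e0, e0i, h83_phi_mul' p q ε r hG, h83_phi_mul' p q ε r hG,
    h83_phi_mul' p q ε r hG, h83_T, ← h83_single_t, ← h83_phi_single]

end Cfsg.Agent.Helper83.TU
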