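import Mathlib
import Cfsg.Agent.Lib.Helper93.RU0
import Cfsg.Agent.Lib.Helper82.RUA
import Cfsg.Agent.Lib.Helper83.TUSeedCore

/-!
# RJ project (helper35 server, S2279): piece (R1a) `seed_abs`  (helper83)
The abstract double commutator, via the coefficient calculus of `Helper83.TUSeedCore`.
-/

set_option autoImplicit false

namespace Cfsg.Agent.Helper83.RJ

open Matrix Cfsg.Agent.Helper93.RU

/-- six-vector form of `h83_seed_core` -/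
theorem h83_seed6 {n R : Type*} [Fintype n] [DecidableEq n] [CommRing R]
    (p0 p1 p2 q0 q1 q2 : n → R) (c ε r : R)
    (h00 : q0 ⬝ᵥ p0 = 0) (h01 : q0 ⬝ᵥ p1 = 0) (h02 : q0 ⬝ᵥ p2 = 0)
    (h10 : q1 ⬝ᵥ p0 = ε) (h11 : q1 ⬝ᵥ p1 = 0) (h12 : q1 ⬝ᵥ p2 = 0)
    (h20 : q2 ⬝ᵥ p0 = r) (h21 : q2 ⬝ᵥ p1 = ε) (h22 : q2 ⬝ᵥ p2 = 0)
    (S0 S0i S1 S1i : Matrix n n R)
    (h0 : S0 = (1 + c • vecMulVec p0 q0) * (1 - c • vecMulVec p1 q1))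
    (h0i : S0i = (1 + c • vecMulVec p1 q1) * (1 - c • vecMulVec p0 q0))
    (h1 : S1 = (1 + c • vecMulVec p1 q1) * (1 - c • vecMulVec p2 q2))
    (h1i : S1i = (1 + c • vecMulVec p2 q2) * (1 - c • vecMulVec p1 q1)) :
    (S1 * S0 * S1i * S0i) * S0 * (S0 * S1 * S0i * S1i) * S0i =
      1 + (ε * ε * c ^ 3) • vecMulVec p2 q0 :=
  Cfsg.Agent.Helper83.TU.h83_seed_core ![p0, p1, p2] ![q0, q1, q2] c ε r
    (by
      intro k l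
      fin_cases k <;> fin_cases l <;>
        simp [Cfsg.Agent.Helper83.TU.h83G, h00, h01, h02, h10, h11, h12, h20, h21, h22])
    S0 S0i S1 S1i h0 h0i h1 h1i

variable {F : Type*} [Field F] {m : ℕ}

theorem h83_tv_plus (v φ : Fin (m + 3) → F) (x : F) (h : φ ⬝ᵥ v = 0) :
    (tvS v (x • φ)).1 = 1 + x • vecMulVec v φ := by
  have h' : (x • φ) ⬝ᵥ v = 0 := by rw [smul_dotProduct, h, smul_zero]
  rw [Cfsg.Agent.Helper82.RU.tvS_val v _ h']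
  unfold tvM
  congr 1
  ext i j
  simp [vecMulVec_apply]
  ring

theorem h83_tv_minus (v φ : Fin (m + 3) → F) (x : F) (h : φ ⬝ᵥ v = 0) :
    ((tvS v (x • φ))⁻¹).1 = 1 - x • vecMulVec v φ := by
  have h' : (x • φ) ⬝ᵥ v = 0 := by rw [smul_dotProduct, h, smul_zero]
  have h'' : (-(x • φ)) ⬝ᵥ v = 0 := by rw [neg_dotProduct, h', neg_zero]
  rw [Cfsg.Agent.Helper82.RU.tvS_inv v _ h', Cfsg.Agent.Helper82.RU.tvS_val v _ h'']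
  unfold tvM
  rw [sub_eq_add_neg]
  congr 1
  ext i j
  simp [vecMulVec_apply]
  ring

/-- (R1a) -/
theorem seed_abs (am a0 a1 φm φ0 φ1 : Fin (m + 3) → F) (lam ε ν : F) (hε : ε * ε = 1)
    (hmm : φm ⬝ᵥ am = 0) (hm0 : φm ⬝ᵥ a0 = 0) (hm1 : φm ⬝ᵥ a1 = 0)
    (h0m : φ0 ⬝ᵥ am = ε) (h00 : φ0 ⬝ᵥ a0 = 0) (h01 : φ0 ⬝ᵥ a1 = 0)
    (h1m : φ1 ⬝ᵥ am = ν) (h10 : φ1 ⬝ᵥ a0 = ε) (h11 : φ1 ⬝ᵥ a1 = 0) :
    let s0 := tvS am (lam • φm) * (tvS a0 (lam • φ0))⁻¹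
    let s1 := tvS a0 (lam • φ0) * (tvS a1 (lam • φ1))⁻¹
    let c := s1 * s0 * s1⁻¹ * s0⁻¹
    c * s0 * c⁻¹ * s0⁻¹ = tvS a1 (lam ^ 3 • φm) := by
  intro s0 s1 c
  have hs0 : s0 = tvS am (lam • φm) * (tvS a0 (lam • φ0))⁻¹ := rfl
  have hs1 : s1 = tvS a0 (lam • φ0) * (tvS a1 (lam • φ1))⁻¹ := rfl
  have hs0i : s0⁻¹ = tvS a0 (lam • φ0) * (tvS am (lam • φm))⁻¹ := by
    rw [hs0, _root_.mul_inv_rev, inv_inv]
  have hs1i : s1⁻¹ = tvS a1 (lam • φ1) * (tvS a0 (lam • φ0))⁻¹ := by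
    rw [hs1, _root_.mul_inv_rev, inv_inv]
  have hc : c = s1 * s0 * s1⁻¹ * s0⁻¹ := rfl
  have hci : c⁻¹ = s0 * s1 * s0⁻¹ * s1⁻¹ := by rw [hc]; group
  have key := h83_seed6 am a0 a1 φm φ0 φ1 lam ε ν hmm hm0 hm1 h0m h00 h01 h1m h10 h11
    s0.1 (s0⁻¹).1 s1.1 (s1⁻¹).1
    (by rw [hs0, Matrix.SpecialLinearGroup.coe_mul, h83_tv_plus am φm lam hmm,
          h83_tv_minus a0 φ0 lam h00])
    (by rw [hs0i, Matrix.SpecialLinearGroup.coe_mul, h83_tv_plus a0 φ0 lam h00,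
          h83_tv_minus am φm lam hmm])
    (by rw [hs1, Matrix.SpecialLinearGroup.coe_mul, h83_tv_plus a0 φ0 lam h00,
          h83_tv_minus a1 φ1 lam h11])
    (by rw [hs1i, Matrix.SpecialLinearGroup.coe_mul, h83_tv_plus a1 φ1 lam h11,
          h83_tv_minus a0 φ0 lam h00])
  apply Subtype.ext
  rw [hci, hc]
  simp only [Matrix.SpecialLinearGroup.coe_mul]
  rw [key, hε, one_mul, h83_tv_plus a1 φm (lam ^ 3) hm1]

end Cfsg.Agent.Helper83.RJ
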