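import Mathlib
import Cfsg.Agent.Lib.Helper93.RU0
import Cfsg.Agent.Lib.Helper35.RJ0
import Cfsg.Agent.Lib.Helper79.RUB1
import Cfsg.Agent.Lib.Helper44.RUD2
import Cfsg.Agent.Lib.Helper12.RUD1

/-!
# RJ project (helper35 server, S2279): piece (W3) `all_mem_W`  (helper83)
-/

set_option autoImplicit false

namespace Cfsg.Agent.Helper83.RJ

open Matrix Cfsg.Agent.Helper93.RU Cfsg.Agent.Helper35.RJ

variable {F : Type*} [Field F] {m : ℕ}

theorem h83_uEl_mulVec_eV (k : ℕ) (hk : k + 1 < m + 3) :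
    (uEl m F).1 *ᵥ (eV ⟨k + 1, hk⟩ : Fin (m + 3) → F) =
      eV ⟨k + 1, hk⟩ + eV ⟨k, by omega⟩ := by
  rw [Cfsg.Agent.Helper79.RU.uEl_val, Matrix.add_mulVec, Matrix.one_mulVec]
  congr 1
  funext i
  simp only [Matrix.mulVec, dotProduct, eV, Nmat, Matrix.of_apply, Pi.single_apply]
  rw [Finset.sum_eq_single (⟨k + 1, hk⟩ : Fin (m + 3))]
  · simp only [if_true, mul_one]
    by_cases hi : i = ⟨k, by omega⟩
    · subst hi; simp
    · have h2 : ¬ (i.val = k) := by
        intro h
        apply hi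
        apply Fin.ext
        simp only
        exact h
      simp [h2, hi]
  · intro b _ hb
    simp [hb]
  · simp

/-- (W3) -/
theorem all_mem_W (H : Subgroup (SLm m F)) (hu : uEl m F ∈ H) (h : eV (lastI m) ∈ Wset H)
    (k : Fin (m + 3)) : eV k ∈ Wset H := by
  have main : ∀ j : ℕ, ∀ hj : j ≤ m + 2,
      (eV ⟨m + 2 - j, by omega⟩ : Fin (m + 3) → F) ∈ Wset H := by
    intro j
    induction j with
    | zero =>
      intro _
      have : (⟨m + 2 - 0, by omega⟩ : Fin (m + 3)) = lastI m := by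
        apply Fin.ext; simp [lastI]
      rw [this]; exact h
    | succ j ih =>
      intro hj
      have hj' : j ≤ m + 2 := by omega
      have hk := ih hj'
      have e1 : m + 2 - j = (m + 2 - (j + 1)) + 1 := by omega
      have hlt : (m + 2 - (j + 1)) + 1 < m + 3 := by omega
      have hidx : (⟨m + 2 - j, by omega⟩ : Fin (m + 3)) = ⟨(m + 2 - (j + 1)) + 1, hlt⟩ := by
        apply Fin.ext; simp only; exact e1
      rw [hidx] at hk
      have h1 := Cfsg.Agent.Helper44.RU.W_conj H (uEl m F) hu _ hk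
      rw [h83_uEl_mulVec_eV (m + 2 - (j + 1)) hlt] at h1
      have h2 := Cfsg.Agent.Helper12.RU.W_add H _ _ h1
        (Cfsg.Agent.Helper44.RU.W_smul H (-1) _ hk)
      have h3 : (eV ⟨(m + 2 - (j + 1)) + 1, hlt⟩ + eV ⟨m + 2 - (j + 1), by omega⟩ +
          (-1 : F) • eV ⟨(m + 2 - (j + 1)) + 1, hlt⟩ : Fin (m + 3) → F) =
          eV ⟨m + 2 - (j + 1), by omega⟩ := by
        rw [neg_one_smul, add_comm (eV _) (eV _), add_neg_cancel_right]
      rw [h3] at h2
      exact h2
  have hk : k.val ≤ m + 2 := by have := k.isLt; omega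
  have := main (m + 2 - k.val) (by omega)
  have hidx : (⟨m + 2 - (m + 2 - k.val), by omega⟩ : Fin (m + 3)) = k := by
    apply Fin.ext; simp only; omega
  rw [hidx] at this
  exact this

end Cfsg.Agent.Helper83.RJ
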