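import Mathlib
import Cfsg.Prelude.Def_FusionSystem
import Cfsg.Prelude.Def_FusionReduction
import Cfsg.Agent.S5195
import Cfsg.Agent.S5096
import Cfsg.Agent.Lib.Helper83.FusionRS
import Cfsg.Agent.Lib.Helper84.FusNormal
import Cfsg.Agent.Lib.Helper84.FusNorm
import Cfsg.Agent.Lib.Helper84.FusAlp3
import Cfsg.Agent.Lib.Helper85.NormalizerSys
import Cfsg.Agent.Lib.Helper87.FusionNormalizerSys
import Cfsg.Agent.Lib.Helper87.FusionInner
import Cfsg.Agent.Lib.Helper87.FusionNormalCrit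

/-!
A non-inner saturated fusion system `F` over `S` (with `p` odd or `F` `S₄`-free) contains a saturated constrained
subsystem over `S` which is not inner: `N_F(R)` for `R = Q C_S(Q)`, `Q` a characteristic subgroup of `S` with
`Aut_F(Q)` not a `p`-group.
-/

set_option autoImplicit false

universe u

namespace Cfsg.Agent.Helper83.Sparse

open Cfsg Cfsg.FusionSystem Cfsg.Agent.Helper87

variable {Ω : Type u} [Group Ω] {S : Subgroup Ω}

/-- transport of a fusion system along an equality of the underlying subgroups, with its basic properties -/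
theorem exists_cast {T : Subgroup Ω} (hT : T = S) (N : FusionSystem T) (p : ℕ) :
    ∃ E : FusionSystem S, (∀ P, E.Hom P = N.Hom P) ∧ (N.IsSaturated p → E.IsSaturated p) ∧
      (∀ R, N.IsNormal R → E.IsNormal R) ∧ (∀ R, E.autGroup R = N.autGroup R) := by
  subst hT
  exact ⟨N, fun _ => rfl, id, fun _ h => h, fun _ => rfl⟩

theorem le_normalizer_of_char {Q : Subgroup Ω} (hQ : Q ≤ S)
    (hc : (Q.subgroupOf S).Characteristic) : S ≤ Subgroup.normalizer (Q : Set Ω) := by
  have hn : (Q.subgroupOf S).Normal := Subgroup.normal_of_characteristic _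
  have key : ∀ s ∈ S, ∀ x ∈ Q, s * x * s⁻¹ ∈ Q := by
    intro s hs x hx
    have h1 := hn.conj_mem ⟨x, hQ hx⟩ (Subgroup.mem_subgroupOf.2 hx) ⟨s, hs⟩
    exact Subgroup.mem_subgroupOf.1 h1
  intro s hs
  rw [Subgroup.mem_normalizer_iff]
  intro x
  constructor
  · exact key s hs x
  · intro hx
    have h1 := key s⁻¹ (S.inv_mem hs) _ hx
    have h2 : s⁻¹ * (s * x * s⁻¹) * s⁻¹⁻¹ = x := by group
    rwa [h2] at h1

theorem fullyNormalized_of_normal [Finite S] (F : FusionSystem S) {Q : Subgroup Ω} (hQ : Q ≤ S)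
    (hn : S ≤ Subgroup.normalizer (Q : Set Ω)) : F.IsFullyNormalized Q := by
  refine ⟨hQ, fun Q' _ => ?_⟩
  have h1 : normalizerIn S Q = S := inf_eq_left.mpr hn
  rw [h1]
  exact Subgroup.card_le_of_le inf_le_left

/-- an automorphism in `Aut_F(Q)`, `Q` fully normalized, extends to an automorphism of `Q C_S(Q)` -/
theorem exists_ext_sup [Finite S] {p : ℕ} [Fact p.Prime] (hS : IsPGroup p S) {F : FusionSystem S}
    (hF : F.IsSaturated p) {Q : Subgroup Ω} (hfn : F.IsFullyNormalized Q) {α : MulAut Q}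
    (hα : α ∈ F.autGroup Q) :
    ∃ b, Iso F (Q ⊔ centralizerIn S Q) (Q ⊔ centralizerIn S Q) b ∧ ∀ x ∈ Q, b x = extAut α x := by
  have hQ : Q ≤ S := hfn.1
  have hrec : F.IsReceptive Q := receptive_of_fullyNormalized hS hF hfn
  have hmor : Mor F Q (extAut α) := (mem_autGroup_iff hQ).1 hα
  have h : Iso F Q Q (extAut α) := iso_of_mor_extAut hmor
  obtain ⟨g, hg, eg⟩ := (isReceptive_iff.1 hrec).2 Q _ h
  have hR : Q ⊔ centralizerIn S Q ≤ h.ext := sup_le h.le_ext h.centralizerIn_le_ext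
  have hgR : Mor F (Q ⊔ centralizerIn S Q) g := hg.restrict hR
  have hRS : Q ⊔ centralizerIn S Q ≤ S := sup_le hQ inf_le_left
  -- the subgroup of elements of `R` mapped into `R`
  let K : Subgroup Ω :=
    { carrier := {x | x ∈ Q ⊔ centralizerIn S Q ∧ g x ∈ Q ⊔ centralizerIn S Q}
      mul_mem' := by
        rintro a b ⟨ha, ha'⟩ ⟨hb, hb'⟩
        refine ⟨Subgroup.mul_mem _ ha hb, ?_⟩
        rw [hgR.map_mul ha hb]
        exact Subgroup.mul_mem _ ha' hb'
      one_mem' := ⟨Subgroup.one_mem _, by rw [hgR.map_one]; exact Subgroup.one_mem _⟩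
      inv_mem' := by
        rintro a ⟨ha, ha'⟩
        refine ⟨Subgroup.inv_mem _ ha, ?_⟩
        rw [hgR.map_inv ha]
        exact Subgroup.inv_mem _ ha' }
  have hQK : Q ≤ K := by
    intro x hx
    refine ⟨Subgroup.mem_sup_left hx, Subgroup.mem_sup_left ?_⟩
    rw [eg x hx]
    exact extAut_mem_self α hx
  have hCK : centralizerIn S Q ≤ K := by
    intro c hc
    refine ⟨Subgroup.mem_sup_right hc, Subgroup.mem_sup_right ⟨hgR.mem (Subgroup.mem_sup_right hc), ?_⟩⟩
    show g c ∈ Subgroup.centralizer (Q : Set Ω)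
    rw [Subgroup.mem_centralizer_iff]
    intro y hy
    obtain ⟨x, hx, rfl⟩ := h.surj hy
    rw [← eg x hx]
    have hxR : x ∈ Q ⊔ centralizerIn S Q := Subgroup.mem_sup_left hx
    have hcR : c ∈ Q ⊔ centralizerIn S Q := Subgroup.mem_sup_right hc
    rw [← hgR.map_mul hxR hcR, ← hgR.map_mul hcR hxR]
    congr 1
    exact (Subgroup.mem_centralizer_iff.1 hc.2) x hx
  have hmap : ∀ x ∈ Q ⊔ centralizerIn S Q, g x ∈ Q ⊔ centralizerIn S Q := by
    intro x hx
    exact ((sup_le hQK hCK) hx).2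
  exact ⟨g, iso_of_card_le hgR hRS hmap le_rfl, eg⟩

/-- if `Aut_F(Q)` is not a `p`-group (`Q` fully normalized), neither is `Aut_F(Q C_S(Q))` -/
theorem not_isPGroup_sup [Finite S] {p : ℕ} [Fact p.Prime] (hS : IsPGroup p S) {F : FusionSystem S}
    (hF : F.IsSaturated p) {Q : Subgroup Ω} (hfn : F.IsFullyNormalized Q)
    (hnp : ¬ IsPGroup p (F.autGroup Q)) :
    ¬ IsPGroup p (F.autGroup (Q ⊔ centralizerIn S Q)) := by
  intro hp
  apply hnp
  rintro ⟨α, hα⟩
  obtain ⟨b, hb, eb⟩ := exists_ext_sup hS hF hfn hα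
  have hβ : hb.equiv ∈ F.autGroup (Q ⊔ centralizerIn S Q) := hb.equiv_mem_autGroup
  obtain ⟨k, hk⟩ := hp ⟨hb.equiv, hβ⟩
  have hk' : hb.equiv ^ p ^ k = 1 := by
    have := congrArg Subtype.val hk
    simpa using this
  have hQR : Q ≤ Q ⊔ centralizerIn S Q := le_sup_left
  have hβα : ∀ x : Q, ((hb.equiv ⟨x, hQR x.2⟩ : (Q ⊔ centralizerIn S Q : Subgroup Ω)) : Ω) =
      ((α x : Q) : Ω) := by
    intro x
    rw [hb.equiv_apply]
    show b x = _
    rw [eb x x.2, extAut_apply]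
  have hpow := aut_pow_restrict hQR hb.equiv α hβα (p ^ k)
  refine ⟨k, Subtype.ext ?_⟩
  show α ^ p ^ k = 1
  apply MulEquiv.ext
  intro x
  apply Subtype.ext
  rw [← hpow x, hk']
  rfl

end Cfsg.Agent.Helper83.Sparse
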