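import Mathlib
import Cfsg.Agent.Lib.Helper83.SparseA

/-!
Main lemma: a non-inner saturated fusion system (p odd or `S₄`-free) contains a saturated, constrained, non-inner
subsystem over the same `p`-group.
-/

set_option autoImplicit false

universe u

namespace Cfsg.Agent.Helper83.Sparse

open Cfsg Cfsg.FusionSystem Cfsg.Agent.Helper87

variable {Ω : Type u} [Group Ω] {S : Subgroup Ω}

theorem le_normalizer_centralizerIn {Q : Subgroup Ω} (hn : S ≤ Subgroup.normalizer (Q : Set Ω)) :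
    S ≤ Subgroup.normalizer (centralizerIn S Q : Set Ω) := by
  have key : ∀ s ∈ S, ∀ x ∈ centralizerIn S Q, s * x * s⁻¹ ∈ centralizerIn S Q := by
    intro s hs x hx
    refine ⟨S.mul_mem (S.mul_mem hs hx.1) (S.inv_mem hs), ?_⟩
    show s * x * s⁻¹ ∈ Subgroup.centralizer (Q : Set Ω)
    rw [Subgroup.mem_centralizer_iff]
    intro y hy
    have hmem : s⁻¹ * y * s ∈ Q := by
      have := (Subgroup.mem_normalizer_iff.1 (hn (S.inv_mem hs)) y).1 hy
      simpa using this
    have h1 : (s⁻¹ * y * s) * x = x * (s⁻¹ * y * s) :=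
      (Subgroup.mem_centralizer_iff.1 hx.2) _ hmem
    have h2 : y * (s * x * s⁻¹) = s * ((s⁻¹ * y * s) * x) * s⁻¹ := by group
    rw [h2, h1]
    group
  intro s hs
  rw [Subgroup.mem_normalizer_iff]
  intro x
  constructor
  · exact key s hs x
  · intro hx
    have h1 := key s⁻¹ (S.inv_mem hs) _ hx
    have h2 : s⁻¹ * (s * x * s⁻¹) * s⁻¹⁻¹ = x := by group
    rwa [h2] at h1

theorem le_normalizer_sup [Finite S] {A B : Subgroup Ω} (hA : A ≤ S) (hB : B ≤ S)
    (hnA : S ≤ Subgroup.normalizer (A : Set Ω)) (hnB : S ≤ Subgroup.normalizer (B : Set Ω)) :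
    S ≤ Subgroup.normalizer ((A ⊔ B : Subgroup Ω) : Set Ω) := by
  intro s hs
  have hfin : Finite (A ⊔ B : Subgroup Ω) := finite_of_le (sup_le hA hB)
  apply mem_normalizer_of_conj_mem_of_finite
  intro y hy
  have hmapA : A.map (MulAut.conj s).toMonoidHom ≤ A ⊔ B := by
    rintro _ ⟨a, ha, rfl⟩
    exact Subgroup.mem_sup_left ((Subgroup.mem_normalizer_iff.1 (hnA hs) a).1 ha)
  have hmapB : B.map (MulAut.conj s).toMonoidHom ≤ A ⊔ B := by
    rintro _ ⟨b, hb, rfl⟩
    exact Subgroup.mem_sup_right ((Subgroup.mem_normalizer_iff.1 (hnB hs) b).1 hb)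
  have hmap : (A ⊔ B).map (MulAut.conj s).toMonoidHom ≤ A ⊔ B := by
    rw [Subgroup.map_sup]
    exact sup_le hmapA hmapB
  exact hmap ⟨y, hy, rfl⟩

/-- **Main lemma.** -/
theorem exists_constrained_sub [Finite S] (p : ℕ) [Fact p.Prime] (hS : IsPGroup p S)
    (F : FusionSystem S) (hF : F.IsSaturated p)
    (hp : p ≠ 2 ∨ F.IsSectionFree p (Equiv.Perm (Fin 4)))
    (hne : ¬ ∀ P : Subgroup Ω, F.Hom P = (innerFusionSystem S).Hom P) :
    ∃ (E : FusionSystem S) (R : Subgroup Ω), E.IsSaturated p ∧ E.IsSubsystemOf F ∧ E.IsNormal R ∧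
      E.IsCentric R ∧ ¬ ∀ P : Subgroup Ω, E.Hom P = (innerFusionSystem S).Hom P := by
  classical
  have hA : ∃ Q : Subgroup Ω, Q ≤ S ∧ Q ≠ ⊥ ∧ (Q.subgroupOf S).Characteristic ∧
      ¬ IsPGroup p (F.autGroup Q) := by
    by_contra hcon
    push Not at hcon
    exact hne (Cfsg.Agent.S5195.result p hS F hF hp (fun Q h1 h2 h3 => hcon Q h1 h2 h3))
  obtain ⟨Q, hQS, -, hQc, hQnp⟩ := hA
  have hQn : S ≤ Subgroup.normalizer (Q : Set Ω) := le_normalizer_of_char hQS hQc
  have hQfn : F.IsFullyNormalized Q := fullyNormalized_of_normal F hQS hQn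
  have hCS : centralizerIn S Q ≤ S := inf_le_left
  have hRS : Q ⊔ centralizerIn S Q ≤ S := sup_le hQS hCS
  have hRnp : ¬ IsPGroup p (F.autGroup (Q ⊔ centralizerIn S Q)) :=
    not_isPGroup_sup hS hF hQfn hQnp
  have hRn : S ≤ Subgroup.normalizer ((Q ⊔ centralizerIn S Q : Subgroup Ω) : Set Ω) :=
    le_normalizer_sup hQS hCS hQn (le_normalizer_centralizerIn hQn)
  have hRfn : F.IsFullyNormalized (Q ⊔ centralizerIn S Q) := fullyNormalized_of_normal F hRS hRn
  have hCR : centralizerIn S (Q ⊔ centralizerIn S Q) ≤ Q ⊔ centralizerIn S Q := by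
    intro c hc
    refine Subgroup.mem_sup_right ⟨hc.1, ?_⟩
    show c ∈ Subgroup.centralizer (Q : Set Ω)
    rw [Subgroup.mem_centralizer_iff]
    intro y hy
    exact (Subgroup.mem_centralizer_iff.1 hc.2) y (Subgroup.mem_sup_left hy)
  obtain ⟨N, hN⟩ := Cfsg.Agent.S5096.result F (Q ⊔ centralizerIn S Q) hRS
  have hNsat : N.IsSaturated p := Helper84.normalizerSystem_saturated F hS hF hRfn N hN
  have hNnorm : N.IsNormal (Q ⊔ centralizerIn S Q) := Helper85.normalizerSystem_isNormal hRS hN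
  have hT : normalizerIn S (Q ⊔ centralizerIn S Q) = S := inf_eq_left.mpr hRn
  obtain ⟨E, hEN, hEsat, hEnorm, hEaut⟩ := exists_cast hT N p
  have hfinR : Finite (Q ⊔ centralizerIn S Q : Subgroup Ω) := finite_of_le hRS
  refine ⟨E, Q ⊔ centralizerIn S Q, hEsat hNsat, ?_, hEnorm _ hNnorm, ?_, ?_⟩
  · intro P φ hφ
    rw [hEN P, hN P] at hφ
    exact hφ.1
  · have hsc : E.StronglyClosed (Q ⊔ centralizerIn S Q) :=
      Helper84.stronglyClosed_of_normal E (hEnorm _ hNnorm)
    refine ⟨hRS, fun R' hconj => ?_⟩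
    obtain ⟨φ, hφ, hr⟩ := hconj
    have hle : R' ≤ Q ⊔ centralizerIn S Q := by
      rw [← hr]
      rintro _ ⟨x, rfl⟩
      exact hsc.2 _ le_rfl φ hφ x
    have hfin' : Finite R' := finite_of_le (hle.trans hRS)
    have hcard : Nat.card (Q ⊔ centralizerIn S Q : Subgroup Ω) ≤ Nat.card R' := by
      have hinj : Function.Injective
          (fun x : (Q ⊔ centralizerIn S Q : Subgroup Ω) => (⟨φ x, hr ▸ ⟨x, rfl⟩⟩ : R')) := by
        intro a b hab
        exact E.injective_of_mem hφ (congrArg Subtype.val hab)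
      exact Nat.card_le_card_of_injective _ hinj
    have hEq : R' = Q ⊔ centralizerIn S Q := Subgroup.eq_of_le_of_card_ge hle hcard
    rw [hEq]
    exact hCR
  · intro hinn
    apply hRnp
    have h1 : E.autGroup (Q ⊔ centralizerIn S Q) = F.autGroup (Q ⊔ centralizerIn S Q) := by
      rw [hEaut]
      exact autGroup_normalizerSystem_self hRS hN
    have h2 : E = innerFusionSystem S := Helper84.fusionSystem_ext hinn
    rw [← h1, h2, autGroup_inner_eq hRS]
    exact isPGroup_autInducedBy hS _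

end Cfsg.Agent.Helper83.Sparse
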