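import Mathlib
import Cfsg.Agent.Lib.Helper98.UT0

/-!
# UT server (S2283), piece (G2) `exists_rest`: the remaining parameters `c, a, β, θ`.
Statement as in `tools/ut_sigs_helper98.lean.txt`, with `hF` as an explicit FIRST argument
(the sigs file's `variable (hF)` is not auto-included, and the statement is false without it).
-/

set_option autoImplicit false
set_option linter.unusedSectionVars false
set_option linter.unusedVariables false

namespace Cfsg.Agent.Helper83.UT

open Cfsg.Agent.Helper13 Cfsg.Agent.Helper87.PsuB0 Cfsg.Agent.Helper98.UT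

variable {F : Type*} [Field F] [Fintype F] {q : ℕ}

/-- (G2) the remaining parameters. -/
theorem exists_rest (hF : Fintype.card F = q ^ 2) (lam : F) (hlam : lam * lam ^ q = 1)
    (hlam2 : lam ^ 2 ≠ 1) :
    ∃ c a β θ : F, Rel q lam c a β θ := by
  have h0 : lam ≠ 0 := by
    rintro rfl
    rw [zero_mul] at hlam
    exact zero_ne_one hlam
  obtain ⟨c, c0, cT⟩ := exists_kappa hF
  set β : F := -((lam - 1) ^ 2 * (2 * lam + 1)) / (c * lam ^ 3) with hβ
  have ht : (-(β + β ^ q)) ^ q = -(β + β ^ q) := by
    have := map_neg (frobQ hF) (β + β ^ q)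
    rw [map_add] at this
    simp only [frobQ_apply] at this
    rw [this, frob_frob hF]
    ring
  obtain ⟨a, ha⟩ := exists_norm hF (-(β + β ^ q)) ht
  obtain ⟨θ, hθ⟩ := exists_trace hF (1 : F) (one_pow q)
  refine ⟨c, a, β, θ, ⟨hlam, hlam2, c0, cT, ?_, ?_, hθ⟩⟩
  · rw [hβ]
    field_simp
  · rw [ha]; ring

end Cfsg.Agent.Helper83.UT
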